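import Mathlib
import Cfsg.Agent.H48.Form
import Cfsg.Agent.H48.Count

/-!
# The unipotent radical of a point stabiliser of the symplectic group
-/

set_option autoImplicit false

namespace H48

namespace MinIdx

open Matrix

variable {m : ℕ} {F : Type*} [Field F]

local notation "V" => (Fin m ⊕ Fin m → F)
local notation "Sp" => Matrix.symplecticGroup (Fin m) F

/-- The linear map of the radical element with parameters `v`, `c`. -/
def puLin (x v : V) (c : F) : V →ₗ[F] V :=
  LinearMap.id + (sf x).smulRight v + (sf v).smulRight x + (c • sf x).smulRight x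

theorem puLin_apply (x v : V) (c : F) (z : V) :
    puLin x v c z = z + sf x z • v + sf v z • x + (c * sf x z) • x := rfl

theorem puLin_mem (x v : V) (c : F) (h : sf x v = 0) :
    LinearMap.toMatrix' (puLin x v c) ∈ Sp := by
  rw [mem_symplectic_iff]
  intro z w
  simp only [LinearMap.toMatrix'_mulVec, puLin_apply, map_add, LinearMap.add_apply, map_smul,
    LinearMap.smul_apply, smul_eq_mul, sf_self, h, sf_eq_zero_comm h]
  rw [sf_swap x z, sf_swap v z]
  ring

open Classical in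
/-- An element of the unipotent radical at the point `x`. -/
noncomputable def pu (x v : V) (c : F) : Sp :=
  if h : sf x v = 0 then ⟨LinearMap.toMatrix' (puLin x v c), puLin_mem x v c h⟩ else 1

theorem pu_smul {x v : V} (h : sf x v = 0) (c : F) (z : V) :
    pu x v c • z = z + sf x z • v + sf v z • x + (c * sf x z) • x := by
  rw [pu, dif_pos h]
  show LinearMap.toMatrix' (puLin x v c) *ᵥ z = _
  rw [LinearMap.toMatrix'_mulVec, puLin_apply]

theorem pu_zero (x : V) : pu x 0 0 = 1 := sp_ext fun z => by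
  rw [pu_smul (map_zero _), one_smul]; simp

theorem pu_mul {x v w : V} (hv : sf x v = 0) (hw : sf x w = 0) (c d : F) :
    pu x v c * pu x w d = pu x (v + w) (c + d + sf v w) := by
  refine sp_ext fun z => ?_
  rw [mul_smul, pu_smul hw, pu_smul hv, pu_smul (by rw [map_add, hv, hw, add_zero])]
  simp only [map_add, LinearMap.add_apply, map_smul, smul_eq_mul, sf_self, hw, sf_eq_zero_comm hv]
  match_scalars <;> ring

theorem pu_inv {x v : V} (hv : sf x v = 0) (c : F) : (pu x v c)⁻¹ = pu x (-v) (-c) :=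
  inv_eq_of_mul_eq_one_right (by
    rw [pu_mul hv (by rw [map_neg, hv, neg_zero]), map_neg, sf_self, add_neg_cancel, add_neg_cancel,
      neg_zero, add_zero, pu_zero])

theorem pu_pow {x v : V} (hv : sf x v = 0) (c : F) (k : ℕ) :
    pu x v c ^ k = pu x ((k : F) • v) (k * c) := by
  induction k with
  | zero => simp [pu_zero]
  | succ k ih =>
    rw [pow_succ, ih, pu_mul (by rw [map_smul, hv, smul_zero]) hv, map_smul, LinearMap.smul_apply,
      sf_self, smul_zero, add_zero, Nat.cast_succ, add_smul, one_smul, add_one_mul]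

theorem pu_eq_tv (x : V) (c : F) : pu x 0 c = tv x (-c) := sp_ext fun z => by
  rw [pu_smul (map_zero _), tv_smul, sf_swap x z]; simp

theorem pu_smul_self {x v : V} (hv : sf x v = 0) (c : F) : pu x v c • x = x := by
  rw [pu_smul hv, sf_self, sf_eq_zero_comm hv]; simp

/-- Conjugation of a radical element by an element fixing the line. -/
theorem pu_conj {x v : V} (hv : sf x v = 0) (c : F) {g : Sp} {a : F} (ha : a ≠ 0)
    (hg : g • x = a • x) : g * pu x v c * g⁻¹ = pu x (a • (g • v)) (a * a * c) := by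
  have h0 : sf x (g • v) = 0 := by
    have := sf_smul_smul g x v
    rw [hg, hv, LinearMap.map_smul₂, smul_eq_mul, mul_eq_zero] at this
    exact this.resolve_left ha
  refine sp_ext fun z => ?_
  have e1 : sf x (g⁻¹ • z) = a * sf x z := by rw [← sf_smul_left, hg]; simp
  have e2 : sf v (g⁻¹ • z) = sf (g • v) z := (sf_smul_left _ _ _).symm
  rw [mul_smul, mul_smul, pu_smul hv, pu_smul (by rw [map_smul, h0, smul_zero]), smul_add, smul_add,
    smul_add, smul_inv_smul, smul_comm g (sf x _), smul_comm g (sf v _), smul_comm g (c * _), hg, e1, e2]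
  simp only [map_smul, LinearMap.smul_apply, smul_eq_mul, smul_smul]
  generalize g • v = w
  match_scalars <;> ring

section Pair

variable (x y : Fin m ⊕ Fin m → F)

/-- The orthogonal of a hyperbolic pair. -/
def Vp : Submodule F V := LinearMap.ker (sf x) ⊓ LinearMap.ker (sf y)

variable {x y}

theorem mem_Vp {v : V} : v ∈ Vp x y ↔ sf x v = 0 ∧ sf y v = 0 := Iff.rfl

theorem Vp_left {v : V} (hv : v ∈ Vp x y) : sf x v = 0 := hv.1

variable (x)

/-- The stabiliser of the point `x`. -/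
def pst : Subgroup Sp where
  carrier := {g | ∃ a : Fˣ, g • x = (a : F) • x}
  mul_mem' := by
    rintro g h ⟨a, ha⟩ ⟨b, hb⟩
    exact ⟨b * a, by rw [mul_smul, hb, smul_comm, ha, Units.val_mul, smul_smul]⟩
  one_mem' := ⟨1, by simp⟩
  inv_mem' := by
    rintro g ⟨a, ha⟩
    exact ⟨a⁻¹, by rw [inv_smul_eq_iff, smul_comm, ha, smul_smul]; simp⟩

variable (y)

/-- The Levi subgroup. -/
def lev : Subgroup Sp where
  carrier := {g | ∃ a : Fˣ, g • x = (a : F) • x ∧ g • y = ((a⁻¹ : Fˣ) : F) • y}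
  mul_mem' := by
    rintro g h ⟨a, ha, ha'⟩ ⟨b, hb, hb'⟩
    refine ⟨b * a, by rw [mul_smul, hb, smul_comm, ha, Units.val_mul, smul_smul],
      by rw [mul_smul, hb', smul_comm, ha', smul_smul, mul_inv, Units.val_mul]⟩
  one_mem' := ⟨1, by simp⟩
  inv_mem' := by
    rintro g ⟨a, ha, ha'⟩
    refine ⟨a⁻¹, by rw [inv_smul_eq_iff, smul_comm, ha, smul_smul]; simp,
      by rw [inv_smul_eq_iff, smul_comm, ha', smul_smul]; simp⟩

/-- The derived Levi subgroup. -/
def lev1 : Subgroup Sp where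
  carrier := {g | g • x = x ∧ g • y = y}
  mul_mem' := by
    rintro g h ⟨ha, ha'⟩ ⟨hb, hb'⟩
    exact ⟨by rw [mul_smul, hb, ha], by rw [mul_smul, hb', ha']⟩
  one_mem' := ⟨one_smul _ _, one_smul _ _⟩
  inv_mem' := fun ⟨ha, ha'⟩ => ⟨inv_smul_eq_iff.2 ha.symm, inv_smul_eq_iff.2 ha'.symm⟩

variable {x y}

theorem lev1_le_lev : lev1 x y ≤ lev x y := fun g hg => ⟨1, by simp [hg.1], by simp [hg.2]⟩

theorem lev_le_pst : lev x y ≤ pst x := fun g ⟨a, ha, _⟩ => ⟨a, ha⟩

theorem lev_smul_mem_Vp {g : Sp} (hg : g ∈ lev x y) {v : V} (hv : v ∈ Vp x y) : g • v ∈ Vp x y := by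
  obtain ⟨a, ha, ha'⟩ := hg
  have h1 := sf_smul_smul g x v
  have h2 := sf_smul_smul g y v
  rw [ha, hv.1, LinearMap.map_smul₂, smul_eq_mul, mul_eq_zero] at h1
  rw [ha', hv.2, LinearMap.map_smul₂, smul_eq_mul, mul_eq_zero] at h2
  exact ⟨h1.resolve_left a.ne_zero, h2.resolve_left a⁻¹.ne_zero⟩

theorem pu_smul_y (hxy : sf x y = 1) {v : V} (hv : v ∈ Vp x y) (c : F) :
    pu x v c • y = y + v + c • x := by
  rw [pu_smul hv.1, hxy, sf_eq_zero_comm hv.2]; simp

theorem pu_inj (hxy : sf x y = 1) {v w : V} (hv : v ∈ Vp x y) (hw : w ∈ Vp x y) {c d : F}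
    (h : pu x v c = pu x w d) : v = w ∧ c = d := by
  have e := congrArg (· • y) h
  simp only [pu_smul_y hxy hv, pu_smul_y hxy hw, add_assoc, add_right_inj] at e
  have e' := congrArg (sf · y) e
  simp only [map_add, LinearMap.add_apply, map_smul, LinearMap.smul_apply, sf_eq_zero_comm hv.2,
    sf_eq_zero_comm hw.2, hxy, smul_eq_mul, mul_one, zero_add] at e'
  subst e'
  exact ⟨add_right_cancel e, rfl⟩

theorem pu_mem_pst {v : V} (hv : sf x v = 0) (c : F) : pu x v c ∈ pst x :=
  ⟨1, by simp [pu_smul_self hv]⟩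

theorem pu_mem_lev (hxy : sf x y = 1) {v : V} (hv : v ∈ Vp x y) {c : F}
    (h : pu x v c ∈ lev x y) : v = 0 ∧ c = 0 := by
  obtain ⟨a, ha, ha'⟩ := h
  rw [pu_smul_self hv.1] at ha
  have hx : x ≠ 0 := fun h => by simp [h] at hxy
  have ha1 : (a : F) = 1 := smul_left_injective F hx ((ha.symm.trans (one_smul F x).symm))
  rw [Units.val_inv_eq_inv_val, ha1, inv_one, one_smul] at ha'
  exact pu_inj hxy hv (Submodule.zero_mem _) (sp_ext fun z => by
    rw [pu_zero, one_smul, pu_smul hv.1]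
    rw [pu_smul_y hxy hv, add_assoc, add_eq_left] at ha'
    have e' := congrArg (sf · y) ha'
    simp only [map_add, LinearMap.add_apply, map_smul, LinearMap.smul_apply, sf_eq_zero_comm hv.2,
      hxy, smul_eq_mul, mul_one, zero_add, map_zero, LinearMap.zero_apply] at e'
    subst e'
    simp only [zero_smul, add_zero] at ha'
    simp [ha'])

/-- The point stabiliser is radical times Levi. -/
theorem exists_decomp (hxy : sf x y = 1) {g : Sp} (hg : g ∈ pst x) :
    ∃ v ∈ Vp x y, ∃ c : F, ∃ l ∈ lev x y, g = pu x v c * l := by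
  obtain ⟨a, ha⟩ := hg
  set t := (a : F) • (g • y) with ht
  have hxt : sf x t = 1 := by
    rw [ht, map_smul, ← LinearMap.smul_apply, ← map_smul, ← ha, sf_smul_smul, hxy]
  set d := sf t y with hd
  set w := t - y - d • x with hw
  have hwV : w ∈ Vp x y := by
    refine ⟨?_, ?_⟩
    · simp [hw, hxt, hxy]
    · simp [hw, hd, sf_swap x y, hxy, sf_swap t y]
  refine ⟨w, hwV, d, (pu x w d)⁻¹ * g, ⟨a, ?_, ?_⟩, by rw [mul_inv_cancel_left]⟩
  · rw [mul_smul, ha, smul_comm, inv_smul_eq_iff.2 (pu_smul_self hwV.1 d).symm]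
  · rw [mul_smul, inv_smul_eq_iff, smul_comm, pu_smul_y hxy hwV, hw]
    rw [show y + (t - y - d • x) + d • x = t by abel, ht, smul_smul]
    simp

theorem decomp_unique (hxy : sf x y = 1) {v w : V} (hv : v ∈ Vp x y) (hw : w ∈ Vp x y) {c d : F}
    {g h : Sp} (hg : g ∈ lev x y) (hh : h ∈ lev x y) (e : pu x v c * g = pu x w d * h) :
    v = w ∧ c = d ∧ g = h := by
  have e2 : (pu x w d)⁻¹ * pu x v c = h * g⁻¹ := by
    rw [inv_mul_eq_iff_eq_mul, ← mul_assoc, ← e, mul_inv_cancel_right]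
  rw [pu_inv hw.1, pu_mul (by rw [map_neg, hw.1, neg_zero]) hv.1] at e2
  have hvw : -w + v ∈ Vp x y := add_mem (neg_mem hw) hv
  obtain ⟨h1, h2⟩ := pu_mem_lev hxy hvw (c := -d + c + sf (-w) v)
    (e2 ▸ mul_mem hh (inv_mem hg))
  obtain rfl : v = w := by rw [neg_add_eq_zero] at h1; exact h1.symm
  rw [map_neg, LinearMap.neg_apply, sf_self, neg_zero, add_zero, neg_add_eq_zero] at h2
  subst h2
  exact ⟨rfl, rfl, mul_left_cancel e⟩

variable [Fintype F]

theorem card_Vp (hxy : sf x y = 1) : Nat.card (Vp x y) = Fintype.card F ^ (2 * m - 2) := by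
  rw [card_submodule]
  congr 1
  have hsurj : LinearMap.range ((sf x).prod (sf y)) = ⊤ := by
    refine LinearMap.range_eq_top.2 fun p => ⟨p.1 • y - p.2 • x, ?_⟩
    simp [hxy, sf_swap x y]
  have h := LinearMap.finrank_range_add_finrank_ker ((sf x).prod (sf y))
  rw [hsurj, finrank_top, Module.finrank_prod, Module.finrank_self, LinearMap.ker_prod] at h
  simp only [Module.finrank_pi, Fintype.card_sum, Fintype.card_fin] at h
  show Module.finrank F ↥(LinearMap.ker (sf x) ⊓ LinearMap.ker (sf y)) = _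
  omega

theorem card_pst (hxy : sf x y = 1) :
    Nat.card (pst x) = Nat.card (Vp x y) * Fintype.card F * Nat.card (lev x y) := by
  rw [← Nat.card_eq_fintype_card, ← Nat.card_prod, ← Nat.card_prod]
  refine (Nat.card_eq_of_bijective (fun p : (Vp x y × F) × lev x y =>
    (⟨pu x p.1.1 p.1.2 * p.2, mul_mem (pu_mem_pst p.1.1.2.1 _) (lev_le_pst p.2.2)⟩ : pst x))
    ⟨?_, ?_⟩).symm
  · intro p p' e
    obtain ⟨e1, e2, e3⟩ := decomp_unique hxy p.1.1.2 p'.1.1.2 p.2.2 p'.2.2 (congrArg Subtype.val e)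
    exact Prod.ext (Prod.ext (Subtype.ext e1) e2) (Subtype.ext e3)
  · intro g
    obtain ⟨v, hv, c, l, hl, e⟩ := exists_decomp hxy g.2
    exact ⟨((⟨v, hv⟩, c), ⟨l, hl⟩), Subtype.ext e.symm⟩

theorem lev_card_ge (hxy : sf x y = 1) :
    (Fintype.card F - 1) * Nat.card (lev1 x y) ≤ Nat.card (lev x y) := by
  classical
  have hx : x ≠ 0 := fun h => by simp [h] at hxy
  rw [card_eq_image_mul_stab (lev x y) (lev1 x y) (fun g => g • x) lev1_le_lev
    (fun g hg h hh => by
      constructor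
      · intro e
        obtain ⟨a, ha, ha'⟩ := hg
        obtain ⟨b, hb, hb'⟩ := hh
        change g • x = h • x at e
        have hab : a = b := Units.ext (smul_left_injective F hx (ha.symm.trans (e.trans hb)))
        subst hab
        exact ⟨by rw [mul_smul, ← e, inv_smul_smul],
          by rw [mul_smul, hb', ← ha', inv_smul_smul]⟩
      · intro e
        have := e.1
        rw [mul_smul, inv_smul_eq_iff] at this
        exact this.symm)]
  refine Nat.mul_le_mul_right _ ?_
  rw [← Fintype.card_units F, ← Nat.card_eq_fintype_card]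
  refine Nat.card_le_card_of_injective (fun a : Fˣ => (⟨(a : F) • x, ?_⟩ : ↥((fun g : Sp => g • x) '' (lev x y : Set Sp))))
    fun a b e => Units.ext (smul_left_injective F hx (congrArg Subtype.val e))
  obtain ⟨g, -, h1, h2⟩ := witt_pair (u := x) (v := y) (u' := (a : F) • x)
    (v' := ((a⁻¹ : Fˣ) : F) • y) (by rw [hxy]; exact one_ne_zero) (by simp [hxy])
  exact ⟨g, ⟨a, h1, h2⟩, h1⟩

/-- The orbit of a vector of the orthogonal. -/
theorem lev1_card_ge (hxy : sf x y = 1) {j : V} (hj : j ∈ Vp x y) (hj0 : j ≠ 0) :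
    (Fintype.card F ^ (2 * m - 2) - 1) *
      Nat.card (lev1 x y ⊓ fixFam (fun _ : Unit => j) : Subgroup Sp) ≤ Nat.card (lev1 x y) := by
  classical
  rw [card_eq_image_mul_stab (lev1 x y) (lev1 x y ⊓ fixFam (fun _ : Unit => j)) (fun g => g • j)
    inf_le_left (fun g hg h hh => by
      rw [Subgroup.mem_inf, mem_fixFam]
      simp only [mul_smul, forall_const, mul_mem (inv_mem hg) hh, true_and, inv_smul_eq_iff]
      exact eq_comm)]
  refine Nat.mul_le_mul_right _ ?_
  rw [← card_Vp hxy]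
  have e : Nat.card (Vp x y) - 1 = Nat.card {v : Vp x y // v ≠ 0} := by
    haveI := Fintype.ofFinite (Vp x y)
    rw [Nat.card_eq_fintype_card, Nat.card_eq_fintype_card, Fintype.card_subtype_compl,
      Fintype.card_subtype_eq]
  rw [e]
  refine Nat.card_le_card_of_injective (fun v => (⟨v.1.1, ?_⟩ : ↥((fun g : Sp => g • j) '' (lev1 x y : Set Sp))))
    fun v w h => Subtype.ext (Subtype.ext (congrArg (fun z => z.1) h))
  obtain ⟨⟨v, hv⟩, hv0⟩ := v
  obtain ⟨hj1, hj2⟩ : sf x j = 0 ∧ sf y j = 0 := hj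
  obtain ⟨hv1, hv2⟩ : sf x v = 0 ∧ sf y v = 0 := hv
  have hli : ∀ v ∈ Vp x y, v ≠ 0 → LinearIndependent F ![x, y, v] := by
    intro v hv hv0
    rw [Fintype.linearIndependent_iff]
    intro g hg
    simp only [Fin.sum_univ_three, Matrix.cons_val_zero, Matrix.cons_val_one,
      Matrix.cons_val_two, Matrix.tail_cons, Matrix.head_cons] at hg
    have h1 := congrArg (sf x) hg
    have h2 := congrArg (sf y) hg
    obtain ⟨hv1, hv2⟩ : sf x v = 0 ∧ sf y v = 0 := hv
    simp [hv1, hv2, hxy, sf_swap x y] at h1 h2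
    have h3 : g 2 = 0 := by simpa [h1, h2, hv0] using hg
    intro i; fin_cases i <;> assumption
  obtain ⟨g, -, hg⟩ := witt ![x, y, j] ![x, y, v] (hli j ⟨hj1, hj2⟩ hj0)
    (hli v ⟨hv1, hv2⟩ (fun h => hv0 (Subtype.ext h))) (by
      intro i k
      fin_cases i <;> fin_cases k <;>
        simp [hj1, hj2, hv1, hv2, sf_eq_zero_comm hj1, sf_eq_zero_comm hj2,
          sf_eq_zero_comm hv1, sf_eq_zero_comm hv2])
  exact ⟨g, ⟨hg 0, hg 1⟩, hg 2⟩

theorem tv_mem_lev1 {z : V} (hz : z ∈ Vp x y) (a : F) : tv z a ∈ lev1 x y :=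
  ⟨by rw [tv_smul, hz.1]; simp, by rw [tv_smul, hz.2]; simp⟩

end Pair

end MinIdx

end H48
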