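import Mathlib

/-!
# Eigen-characters of a finite abelian group acting linearly, and an orbit bound
-/

set_option autoImplicit false

namespace H48

namespace AbW

variable {K : Type*} [Field K] {M : Type*} [AddCommGroup M] [Module K M]
  {A : Type*} [AddCommGroup A]

/-- `v` has character `χ` under `τ`. -/
def HasChar (τ : A → Module.End K M) (χ : AddChar A K) (v : M) : Prop :=
  ∀ a, τ a v = χ a • v

/-- A multiplicative map from `(A, +)` to operators. -/
structure IsAct (τ : A → Module.End K M) : Prop where
  map_zero : τ 0 = 1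
  map_add : ∀ a b, τ (a + b) = τ a * τ b

/-- Averaging operator. -/
noncomputable def avg [Fintype A] (τ : A → Module.End K M) : Module.End K M :=
  ((Fintype.card A : K)⁻¹) • ∑ a, τ a

theorem IsAct.mul_avg [Fintype A] {τ : A → Module.End K M} (h : IsAct τ) (b : A) :
    τ b * avg τ = avg τ := by
  rw [avg, mul_smul_comm, Finset.mul_sum]
  congr 1
  exact Fintype.sum_equiv (Equiv.addLeft b) _ _ fun a => (h.map_add b a).symm

theorem IsAct.avg_comm [Fintype A] {τ : A → Module.End K M} (h : IsAct τ) (b : A) :
    τ b * avg τ = avg τ * τ b := by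
  rw [h.mul_avg, avg, smul_mul_assoc, Finset.sum_mul]
  congr 1
  exact (Fintype.sum_equiv (Equiv.addRight b) _ _ fun a => (h.map_add a b).symm).symm

/-- A non-trivial action has a non-trivial character. -/
theorem IsAct.exists_hasChar [IsAlgClosed K] [FiniteDimensional K M] [Finite A]
    {τ : A → Module.End K M} (h : IsAct τ) (hA : (Nat.card A : K) ≠ 0) (hne : ∃ a, τ a ≠ 1) :
    ∃ χ : AddChar A K, χ ≠ 1 ∧ ∃ v, v ≠ 0 ∧ HasChar τ χ v := by
  classical
  cases nonempty_fintype A
  rw [Nat.card_eq_fintype_card] at hA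
  set U := LinearMap.ker (avg τ) with hU
  have hE : ∀ v, avg τ v = v → ∀ a, τ a v = v := fun v hv a => by
    conv_lhs => rw [← hv]
    rw [← Module.End.mul_apply, h.mul_avg, hv]
  have hidem : ∀ v, avg τ (avg τ v) = avg τ v := by
    intro v
    have e : ∀ a, τ a (avg τ v) = avg τ v := fun a => by
      rw [← Module.End.mul_apply, h.mul_avg]
    generalize avg τ v = w at e ⊢
    simp [avg, LinearMap.sum_apply, e, smul_smul, ← Nat.cast_smul_eq_nsmul K,
      inv_mul_cancel₀ hA]
  have hUne : U ≠ ⊥ := by
    intro hbot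
    obtain ⟨a, ha⟩ := hne
    apply ha
    refine LinearMap.ext fun v => ?_
    have hv : v - avg τ v ∈ U := by
      rw [hU, LinearMap.mem_ker, map_sub, hidem, sub_self]
    rw [hbot, Submodule.mem_bot, sub_eq_zero] at hv
    exact hE v hv.symm a
  have hUinv : ∀ a, ∀ v ∈ U, τ a v ∈ U := by
    intro a v hv
    rw [hU, LinearMap.mem_ker] at hv ⊢
    rw [← Module.End.mul_apply, ← h.avg_comm, Module.End.mul_apply, hv, _root_.map_zero]
  have hcomm : ∀ a b : A, τ a * τ b = τ b * τ a := fun a b => by
    rw [← h.map_add, add_comm, h.map_add]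
  have key : ∀ S : Finset A, ∃ W : Submodule K M, W ≤ U ∧ W ≠ ⊥ ∧ (∀ a, ∀ v ∈ W, τ a v ∈ W) ∧
      ∀ a ∈ S, ∃ c : K, ∀ v ∈ W, τ a v = c • v := by
    intro S
    induction S using Finset.induction_on with
    | empty => exact ⟨U, le_rfl, hUne, hUinv, fun a ha => absurd ha (Finset.notMem_empty a)⟩
    | insert b S _ ih =>
      obtain ⟨W, hWU, hW0, hWinv, hWS⟩ := ih
      haveI : Nontrivial W := Submodule.nontrivial_iff_ne_bot.2 hW0
      let f : Module.End K W := (τ b).restrict (hWinv b)
      obtain ⟨c, hc⟩ := Module.End.exists_eigenvalue f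
      obtain ⟨w, hw⟩ := hc.exists_hasEigenvector
      refine ⟨W ⊓ LinearMap.ker (τ b - c • 1), inf_le_left.trans hWU, ?_, ?_, ?_⟩
      · intro hbot
        have hmem : (w : M) ∈ W ⊓ LinearMap.ker (τ b - c • 1) := by
          refine ⟨w.2, LinearMap.mem_ker.2 ?_⟩
          have := congrArg Subtype.val hw.apply_eq_smul
          simpa [f, sub_eq_zero] using this
        rw [hbot, Submodule.mem_bot] at hmem
        exact hw.2 (Subtype.ext hmem)
      · rintro a v ⟨hv, hv'⟩
        refine ⟨hWinv a v hv, LinearMap.mem_ker.2 ?_⟩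
        have hv'' : τ b v = c • v := by simpa [sub_eq_zero] using LinearMap.mem_ker.1 hv'
        simp only [LinearMap.sub_apply, LinearMap.smul_apply, Module.End.one_apply, sub_eq_zero]
        rw [← Module.End.mul_apply, hcomm, Module.End.mul_apply, hv'', map_smul]
      · intro a ha
        rcases Finset.mem_insert.1 ha with rfl | ha
        · exact ⟨c, fun v hv => by simpa [sub_eq_zero] using LinearMap.mem_ker.1 hv.2⟩
        · obtain ⟨d, hd⟩ := hWS a ha
          exact ⟨d, fun v hv => hd v hv.1⟩
  obtain ⟨W, hWU, hW0, -, hW⟩ := key Finset.univ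
  obtain ⟨v, hv, hv0⟩ := Submodule.exists_mem_ne_zero_of_ne_bot hW0
  choose c hc using fun a => hW a (Finset.mem_univ a)
  have hinj : Function.Injective fun x : K => x • v := smul_left_injective K hv0
  let χ : AddChar A K :=
    { toFun := c
      map_zero_eq_one' := hinj (by
        show c 0 • v = (1 : K) • v
        rw [← hc 0 v hv, h.map_zero, one_smul]; rfl)
      map_add_eq_mul' := fun a b => hinj (by
        show c (a + b) • v = (c a * c b) • v
        rw [← hc (a + b) v hv, h.map_add, Module.End.mul_apply, hc b v hv, map_smul, hc a v hv,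
          smul_smul, mul_comm]) }
  refine ⟨χ, fun h1 => hv0 ?_, v, hv0, fun a => hc a v hv⟩
  have hfix : ∀ a, τ a v = v := fun a => by
    rw [hc a v hv, show c a = χ a from rfl, h1, AddChar.one_apply, one_smul]
  have h2 : avg τ v = v := by
    simp [avg, LinearMap.sum_apply, hfix, smul_smul, ← Nat.cast_smul_eq_nsmul K,
      inv_mul_cancel₀ hA]
  have h3 : avg τ v = 0 := LinearMap.mem_ker.1 (hWU hv)
  rwa [h2] at h3

/-- Distinct characters that occur are at most as many as the dimension. -/
theorem IsAct.card_le_finrank [FiniteDimensional K M] [Finite A] {τ : A → Module.End K M}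
    (S : Set (AddChar A K)) (hS : ∀ χ ∈ S, ∃ v, v ≠ 0 ∧ HasChar τ χ v) :
    Nat.card S ≤ Module.finrank K M := by
  classical
  cases nonempty_fintype A
  rcases Set.finite_or_infinite S with hfin | hinf
  swap
  · haveI := hinf.to_subtype
    rw [Nat.card_eq_zero_of_infinite]
    exact Nat.zero_le _
  haveI := hfin.fintype
  choose v hv0 hv using fun χ : S => hS χ.1 χ.2
  have hli : LinearIndependent K v := by
    -- separate by a single element at a time
    refine Fintype.linearIndependent_iff.2 ?_
    intro g hg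
    have key : ∀ T : Finset S, ∀ g : S → K, ∑ χ ∈ T, g χ • v χ = 0 → ∀ χ ∈ T, g χ = 0 := by
      intro T
      induction T using Finset.induction_on with
      | empty => intro g _ χ hχ; exact absurd hχ (Finset.notMem_empty χ)
      | insert χ₀ T hχ₀ ih =>
        intro g hg
        have hT : ∀ χ ∈ T, g χ = 0 := by
          intro χ hχ
          obtain ⟨a, ha⟩ : ∃ a, (χ : AddChar A K) a ≠ (χ₀ : AddChar A K) a := by
            by_contra hcon
            simp only [not_exists, not_not] at hcon
            exact hχ₀ (by rwa [Subtype.ext (DFunLike.ext (χ : AddChar A K) χ₀ hcon)] at hχ)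
          have h1 := congrArg (τ a) hg
          rw [map_sum, _root_.map_zero] at h1
          simp only [map_smul, hv _ a, smul_smul] at h1
          have h2 : ∑ ψ ∈ insert χ₀ T, (g ψ * ((ψ : AddChar A K) a - (χ₀ : AddChar A K) a)) • v ψ = 0 := by
            simp only [mul_sub, sub_smul, Finset.sum_sub_distrib]
            rw [h1, zero_sub, neg_eq_zero]
            simp only [mul_comm _ ((χ₀ : AddChar A K) a), ← smul_smul, ← Finset.smul_sum, hg, smul_zero]
          rw [Finset.sum_insert hχ₀, sub_self, mul_zero, zero_smul, zero_add] at h2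
          exact (mul_eq_zero.1 (ih _ h2 χ hχ)).resolve_right (sub_ne_zero.2 ha)
        intro χ hχ
        rcases Finset.mem_insert.1 hχ with rfl | hχ
        · rw [Finset.sum_insert hχ₀, Finset.sum_eq_zero (fun ψ hψ => by rw [hT ψ hψ, zero_smul]),
            add_zero] at hg
          exact (smul_eq_zero.1 hg).resolve_right (hv0 χ)
        · exact hT χ hχ
    exact fun χ => key Finset.univ g hg χ (Finset.mem_univ χ)
  rw [Nat.card_eq_fintype_card]
  exact hli.fintype_card_le_finrank

/-- Orbit bound: a group normalising the image of `A` permutes the characters that occur. -/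
theorem IsAct.card_orbit_le [FiniteDimensional K M] [Finite A] {G : Type*} [Group G]
    (ρ : G →* Module.End K M) (i : A → G) {χ : AddChar A K} {v : M} (hv0 : v ≠ 0)
    (hv : HasChar (fun a => ρ (i a)) χ v) (S : Set (AddChar A K))
    (hS : ∀ ψ ∈ S, ∃ g : G, ∀ a, ∃ b, g * i a * g⁻¹ = i b ∧ ψ a = χ b) :
    Nat.card S ≤ Module.finrank K M := by
  refine IsAct.card_le_finrank (τ := fun a => ρ (i a)) S fun ψ hψ => ?_
  obtain ⟨g, hg⟩ := hS ψ hψ
  refine ⟨ρ g⁻¹ v, fun h0 => hv0 ?_, fun a => ?_⟩
  · have := congrArg (ρ g) h0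
    rwa [_root_.map_zero, ← Module.End.mul_apply, ← map_mul, mul_inv_cancel, map_one,
      Module.End.one_apply] at this
  · obtain ⟨b, hb, hψb⟩ := hg a
    have e : i a * g⁻¹ = g⁻¹ * i b := by rw [← hb]; group
    show ρ (i a) (ρ g⁻¹ v) = _
    rw [← Module.End.mul_apply, ← map_mul, e, map_mul, Module.End.mul_apply]
    have hb' : ρ (i b) v = χ b • v := hv b
    rw [hb', map_smul, hψb]

end AbW

end H48
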