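import Mathlib
import Cfsg.Agent.H48.Count
import Cfsg.Agent.H48.Simple
import Cfsg.Agent.H48.AbWeights

/-!
# The Siegel radical of symmetric matrices and its characters
-/

set_option autoImplicit false

namespace H48

open Matrix

variable (n : ℕ) (F : Type*) [Field F]

/-- Symmetric matrices. -/
def symMat : AddSubgroup (Matrix (Fin n) (Fin n) F) where
  carrier := {B | B.IsSymm}
  add_mem' ha hb := ha.add hb
  zero_mem' := isSymm_zero
  neg_mem' ha := ha.neg

variable {n F}

noncomputable instance symMatFintype [Fintype F] [DecidableEq F] : Fintype (symMat n F) :=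
  Fintype.ofFinite _

/-- The embedding into `Sp`. -/
def radical (B : symMat n F) : Matrix.symplecticGroup (Fin n) F := upperSp ⟨B.1, B.2⟩

theorem radical_add (B C : symMat n F) : radical (B + C) = radical B * radical C := by
  apply Subtype.ext
  show fromBlocks 1 (B.1 + C.1) 0 1 = fromBlocks 1 B.1 0 1 * fromBlocks 1 C.1 0 1
  simp [fromBlocks_multiply, add_comm]

theorem radical_zero : radical (0 : symMat n F) = 1 := Subtype.ext (fromBlocks_one)

theorem radical_injective : Function.Injective (radical (n := n) (F := F)) := fun B C h => by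
  have := upperSp_injective h
  exact Subtype.ext (congrArg Subtype.val this)

/-- `c • v vᵀ`. -/
def sqMat (c : F) (v : Fin n → F) : symMat n F :=
  ⟨c • vecMulVec v v, (by
    show (c • vecMulVec v v).IsSymm
    exact Matrix.IsSymm.ext fun i j => by simp [vecMulVec, mul_comm])⟩

/-- The congruence `B ↦ X B Xᵀ`. -/
def congr' (X : Matrix (Fin n) (Fin n) F) (B : symMat n F) : symMat n F :=
  ⟨X * B.1 * Xᵀ, (by
    show (X * B.1 * Xᵀ)ᵀ = X * B.1 * Xᵀ
    have hB : B.1ᵀ = B.1 := B.2
    simp [Matrix.transpose_mul, hB, Matrix.mul_assoc])⟩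

theorem congr'_sqMat (X : Matrix (Fin n) (Fin n) F) (c : F) (v : Fin n → F) :
    congr' X (sqMat c v) = sqMat c (X *ᵥ v) := by
  apply Subtype.ext
  show X * (c • vecMulVec v v) * Xᵀ = c • vecMulVec (X *ᵥ v) (X *ᵥ v)
  rw [Matrix.mul_smul, Matrix.smul_mul, mul_vecMulVec, vecMulVec_mul, vecMul_transpose]

/-- Conjugation by the Levi factor. -/
theorem exists_conj_radical (X : Matrix (Fin n) (Fin n) F) (hX : IsUnit X) :
    ∃ g : Matrix.symplecticGroup (Fin n) F, ∀ B, g * radical B * g⁻¹ = radical (congr' X B) := by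
  have hd : IsUnit X.det := (Matrix.isUnit_iff_isUnit_det X).1 hX
  have hm : fromBlocks X 0 0 (X⁻¹)ᵀ ∈ Matrix.symplecticGroup (Fin n) F := by
    rw [SymplecticGroup.fromBlocks_mem_iff]
    simp [← Matrix.transpose_mul, Matrix.nonsing_inv_mul _ hd]
  refine ⟨⟨_, hm⟩, fun B => ?_⟩
  rw [mul_inv_eq_iff_eq_mul]
  apply Subtype.ext
  show fromBlocks X 0 0 (X⁻¹)ᵀ * fromBlocks 1 B.1 0 1 =
    fromBlocks 1 (X * B.1 * Xᵀ) 0 1 * fromBlocks X 0 0 (X⁻¹)ᵀ
  simp [fromBlocks_multiply, Matrix.mul_assoc, ← Matrix.transpose_mul, Matrix.nonsing_inv_mul _ hd]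

/-- A normal subgroup containing the radical is everything. -/
theorem eq_top_of_radical_le (hn : 1 ≤ n) (N : Subgroup (Matrix.symplecticGroup (Fin n) F)) [hN : N.Normal]
    (h : ∀ B, radical B ∈ N) : N = ⊤ := by
  set i : Fin n := ⟨0, hn⟩
  have he : (lagr i : Fin n ⊕ Fin n → F) ≠ 0 := fun h0 => by
    simpa [lagr] using congrFun h0 (Sum.inl i)
  have hmem : ∀ c : F, tv (lagr i : Fin n ⊕ Fin n → F) c ∈ N := by
    intro c
    have hfix : tv (lagr i : Fin n ⊕ Fin n → F) c ∈
        ((fixFam (lagr (F := F) (l := Fin n))) : Set (Matrix.symplecticGroup (Fin n) F)) := by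
      intro j
      simp
    rw [fixFam_lagr_eq] at hfix
    obtain ⟨B, hB⟩ := hfix
    exact hB ▸ h ⟨B.1, B.2⟩
  rw [eq_top_iff, ← transGroup_eq_top, transGroup, Subgroup.closure_le]
  rintro A ⟨w, c, hA⟩
  obtain rfl : A = tv w c := Subtype.ext hA
  rcases eq_or_ne w 0 with rfl | hw
  · rw [tv_zero_left]; exact one_mem N
  obtain ⟨g, -, rfl⟩ := witt_vec he hw
  rw [← tv_conj]
  exact hN.conj_mem _ (hmem c) g

section Char

variable [Fintype F] {K : Type*} [Field K]

/-- A non-trivial additive character of `F`. -/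
theorem exists_psi [IsAlgClosed K] (hK : ringChar K ≠ ringChar F) :
    ∃ ψ : AddChar F K, ψ.IsPrimitive := by
  set p := ringChar F with hp
  haveI hpp : Fact p.Prime := ⟨CharP.char_is_prime F p⟩
  have hpK : (p : K) ≠ 0 := by
    intro h0
    rw [ringChar.spec] at h0
    rcases CharP.char_is_prime_or_zero K (ringChar K) with hq | hq
    · exact hK ((Nat.prime_dvd_prime_iff_eq hq hpp.out).1 h0)
    · rw [hq] at h0
      exact hpp.out.ne_zero (zero_dvd_iff.1 h0)
  haveI : NeZero (p : K) := ⟨hpK⟩
  obtain ⟨ζ, hζ⟩ := HasEnoughRootsOfUnity.exists_primitiveRoot K p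
  letI : Algebra (ZMod p) F := ZMod.algebra F p
  obtain ⟨a, ha⟩ := FiniteField.trace_to_zmod_nondegenerate F (one_ne_zero (α := F))
  rw [one_mul] at ha
  refine ⟨(AddChar.zmodChar p hζ.pow_eq_one).compAddMonoidHom
    (Algebra.trace (ZMod p) F).toAddMonoidHom, AddChar.IsPrimitive.of_ne_one ?_⟩
  refine AddChar.ne_one_iff.2 ⟨a, fun h1 => ha ?_⟩
  simp only [AddChar.compAddMonoidHom_apply, AddChar.zmodChar_apply,
    LinearMap.toAddMonoidHom_coe] at h1
  have h3 : (Algebra.trace (ZMod p) F a).val = 0 :=
    Nat.eq_zero_of_dvd_of_lt ((hζ.pow_eq_one_iff_dvd _).1 h1) (ZMod.val_lt _)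
  simpa using h3

/-- Every additive character is a shift of a primitive one. -/
theorem exists_shift {ψ : AddChar F K} (hψ : ψ.IsPrimitive) (φ : AddChar F K) :
    ∃ c : F, ∀ x, φ x = ψ (c * x) := by
  classical
  by_contra hcon
  simp only [not_exists] at hcon
  -- `q + 1` distinct characters would be independent functions on `F`
  let fam : Option F → (F → K) := fun o => o.elim (fun x => φ x) fun c x => ψ (c * x)
  have hinj : Function.Injective fam := by
    rintro (_ | c) (_ | d) h
    · rfl
    · exact absurd (fun x => congrFun h x) (hcon d)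
    · exact absurd (fun x => (congrFun h x).symm) (hcon c)
    · refine congrArg some (AddChar.to_mulShift_inj_of_isPrimitive hψ ?_)
      exact DFunLike.ext _ _ fun x => congrFun h x
  let g : Option F → (Multiplicative F →* K) := fun o =>
    { toFun := fun x => fam o x.toAdd
      map_one' := by cases o <;> simp [fam]
      map_mul' := fun x y => by cases o <;> simp [fam, mul_add, AddChar.map_add_eq_mul] }
  have hgi : Function.Injective g := fun o o' h => hinj (funext fun x => DFunLike.congr_fun h (Multiplicative.ofAdd x))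
  have hli := (linearIndependent_monoidHom (Multiplicative F) K).comp g hgi
  haveI : Fintype (Multiplicative F) := Multiplicative.fintype
  have := hli.fintype_card_le_finrank
  have e : Fintype.card F = Fintype.card (Multiplicative F) := Fintype.card_congr Multiplicative.ofAdd
  simp at this
  omega

/-- Coefficients of a character of the radical. -/
theorem exists_coeffs {ψ : AddChar F K} (hψ : ψ.IsPrimitive) (χ : AddChar (symMat n F) K) :
    ∃ D : Fin n → Fin n → F, (∀ i j, D i j = D j i) ∧
      (∀ (i j : Fin n) (c : F) (h : (Matrix.single i j c + Matrix.single j i c) ∈ symMat n F),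
        χ ⟨_, h⟩ = ψ (D i j * c)) := by
  classical
  have hmem : ∀ (i j : Fin n) (c : F), Matrix.single i j c + Matrix.single j i c ∈ symMat n F :=
    fun i j c => by
      show (_ : Matrix (Fin n) (Fin n) F)ᵀ = _
      rw [transpose_add, transpose_single, transpose_single, add_comm]
  let φ : Fin n → Fin n → AddChar F K := fun i j =>
    { toFun := fun c => χ ⟨_, hmem i j c⟩
      map_zero_eq_one' := by
        rw [show (⟨_, hmem i j 0⟩ : symMat n F) = 0 from Subtype.ext (by simp)]
        exact χ.map_zero_eq_one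
      map_add_eq_mul' := fun a b => by
        rw [← χ.map_add_eq_mul]
        exact congrArg χ (Subtype.ext (by
          show _ = _ + _
          simp only [single_add]; abel)) }
  choose D hD using fun i j => exists_shift hψ (φ i j)
  refine ⟨D, fun i j => ?_, fun i j c h => hD i j c⟩
  refine AddChar.to_mulShift_inj_of_isPrimitive hψ (DFunLike.ext _ _ fun c => ?_)
  simp only [AddChar.mulShift_apply]
  rw [← hD, ← hD]
  exact congrArg χ (Subtype.ext (add_comm _ _))

end Char

end H48
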