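import Mathlib
import Cfsg.Agent.H48.SymRadical

/-!
# The orbit of a character of the radical in odd characteristic
-/

set_option autoImplicit false

namespace H48

open Matrix

variable {n : ℕ} {F : Type*} [Field F]

theorem two_ne_zero_of_odd [Fintype F] (hodd : Odd (Fintype.card F)) : (2 : F) ≠ 0 := by
  intro h
  have h2 : ringChar F = 2 := CharP.ringChar_of_prime_eq_zero Nat.prime_two (by exact_mod_cast h)
  have := (FiniteField.even_card_iff_char_two (F := F)).1 h2
  rw [Nat.odd_iff] at hodd
  omega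

/-- An invertible matrix with prescribed first column. -/
theorem exists_col (i₀ : Fin n) {w : Fin n → F} (hw : w ≠ 0) :
    ∃ Y : Matrix (Fin n) (Fin n) F, IsUnit Y ∧ Y *ᵥ Pi.single i₀ 1 = w := by
  obtain ⟨k, hk⟩ : ∃ k, w k ≠ 0 := by
    by_contra hcon
    exact hw (funext fun k => by_contra fun h => hcon ⟨k, h⟩)
  refine ⟨((1 : Matrix (Fin n) (Fin n) F).updateCol k w).submatrix id (Equiv.swap i₀ k), ?_, ?_⟩
  · rw [Matrix.isUnit_iff_isUnit_det, Matrix.det_permute', ← Matrix.cramer_apply,
      Matrix.cramer_one]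
    refine IsUnit.mul ?_ (isUnit_iff_ne_zero.2 hk)
    rcases Int.units_eq_one_or (Equiv.Perm.sign (Equiv.swap i₀ k)) with h | h <;> simp [h]
  · ext i
    simp [Matrix.mulVec_single]

theorem eq_zero_of_quad_eq_zero (h2 : (2 : F) ≠ 0) {C : Matrix (Fin n) (Fin n) F} (hC : C.IsSymm)
    (h : ∀ v, v ⬝ᵥ C *ᵥ v = 0) : C = 0 := by
  ext i j
  have e : ∀ a b : Fin n, (Pi.single a (1 : F) : Fin n → F) ⬝ᵥ C *ᵥ Pi.single b 1 = C a b := by
    intro a b
    simp [Matrix.mulVec_single, single_dotProduct]
  have h1 := h (Pi.single i 1 + Pi.single j 1)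
  simp only [Matrix.mulVec_add, dotProduct_add, add_dotProduct, e, hC.apply i j] at h1
  have hii : C i i = 0 := (e i i).symm.trans (h _)
  have hjj : C j j = 0 := (e j j).symm.trans (h _)
  rw [hii, hjj, zero_add, add_zero] at h1
  have : (2 : F) * C i j = 0 := by linear_combination h1
  simpa [h2] using this

theorem quad_vecMulVec (u v : Fin n → F) :
    v ⬝ᵥ (vecMulVec u u) *ᵥ v = (u ⬝ᵥ v) * (u ⬝ᵥ v) := by
  rw [vecMulVec_mulVec, dotProduct_smul, MulOpposite.smul_eq_mul_unop, MulOpposite.unop_op,
    dotProduct_comm v u]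

/-- The congruence orbit of a non-zero symmetric matrix is large. -/
theorem orbit_ge [Fintype F] (hodd : Odd (Fintype.card F)) (hn : 1 ≤ n)
    {C : Matrix (Fin n) (Fin n) F} (hC : C.IsSymm) (hC0 : C ≠ 0) :
    Fintype.card F ^ n ≤
      2 * Nat.card {M : Matrix (Fin n) (Fin n) F | ∃ X, IsUnit X ∧ M = Xᵀ * C * X} + 1 := by
  classical
  have h2 : (2 : F) ≠ 0 := two_ne_zero_of_odd hodd
  set i₀ : Fin n := ⟨0, hn⟩
  set S := {M : Matrix (Fin n) (Fin n) F | ∃ X, IsUnit X ∧ M = Xᵀ * C * X} with hS
  obtain ⟨v, hv⟩ : ∃ v, v ⬝ᵥ C *ᵥ v ≠ 0 := by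
    by_contra hcon
    exact hC0 (eq_zero_of_quad_eq_zero h2 hC fun v => by_contra fun h => hcon ⟨v, h⟩)
  set b := v ⬝ᵥ C *ᵥ v with hb
  set u := C *ᵥ v with hu
  have hu0 : u ≠ 0 := fun h => hv (by rw [hb, h, dotProduct_zero])
  rw [Nat.card_eq_fintype_card, ← Set.toFinset_card]
  by_cases hrk : C = b⁻¹ • vecMulVec u u
  · -- rank one
    have hmaps : ∀ w : Fin n → F, w ≠ 0 → b⁻¹ • vecMulVec w w ∈ S.toFinset := by
      intro w hw
      obtain ⟨Y₁, hY₁, e₁⟩ := exists_col i₀ hu0
      obtain ⟨Y₂, hY₂, e₂⟩ := exists_col i₀ hw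
      have hd := (Matrix.isUnit_iff_isUnit_det Y₁).1 hY₁
      rw [Set.mem_toFinset]
      refine ⟨(Y₂ * Y₁⁻¹)ᵀ, ?_, ?_⟩
      · rw [Matrix.isUnit_transpose]
        exact hY₂.mul (Matrix.isUnit_nonsing_inv_iff.2 hY₁)
      · have ew : (Y₂ * Y₁⁻¹) *ᵥ u = w := by
          rw [← e₁, mulVec_mulVec, Matrix.mul_assoc, Matrix.nonsing_inv_mul _ hd, Matrix.mul_one, e₂]
        rw [transpose_transpose, hrk, Matrix.mul_smul, Matrix.smul_mul, mul_vecMulVec,
          vecMulVec_mul, vecMul_transpose, ew]
    have hcard : (Finset.univ.filter fun w : Fin n → F => w ≠ 0).card ≤ 2 * S.toFinset.card := by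
      refine le_trans ?_ (Nat.mul_le_mul_left 2 (Finset.card_le_card
        (s := (Finset.univ.filter fun w : Fin n → F => w ≠ 0).image fun w => b⁻¹ • vecMulVec w w) ?_))
      · refine Finset.card_le_mul_card_image _ 2 ?_
        intro M hM
        obtain ⟨w, hw, rfl⟩ := Finset.mem_image.1 hM
        refine le_trans (Finset.card_le_card (t := {w, -w}) ?_) Finset.card_le_two
        intro z hz
        rw [Finset.mem_filter] at hz
        have e : vecMulVec z z = vecMulVec w w := smul_right_injective _ (inv_ne_zero hv) hz.2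
        obtain ⟨k, hk⟩ : ∃ k, w k ≠ 0 := by
          by_contra hcon
          exact (Finset.mem_filter.1 hw).2 (funext fun k => by_contra fun h => hcon ⟨k, h⟩)
        have ek := congrFun (congrFun e k) k
        simp only [vecMulVec_apply] at ek
        simp only [Finset.mem_insert, Finset.mem_singleton]
        rcases mul_self_eq_mul_self_iff.1 ek with h | h
        · left; funext j
          have ej := congrFun (congrFun e k) j
          simp only [vecMulVec_apply, h] at ej
          exact mul_left_cancel₀ hk ej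
        · right; funext j
          have ej := congrFun (congrFun e k) j
          simp only [vecMulVec_apply, h, neg_mul] at ej
          exact neg_inj.1 ((mul_left_cancel₀ hk (by rw [mul_neg]; exact ej)) |>.trans (neg_neg _).symm)
      · intro M hM
        obtain ⟨w, hw, rfl⟩ := Finset.mem_image.1 hM
        exact hmaps w (Finset.mem_filter.1 hw).2
    have : (Finset.univ.filter fun w : Fin n → F => w ≠ 0).card = Fintype.card F ^ n - 1 := by
      rw [Finset.filter_ne', Finset.card_erase_of_mem (Finset.mem_univ _), Finset.card_univ,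
        Fintype.card_fun, Fintype.card_fin]
    omega
  · -- every non-zero value is represented
    have hrep : ∀ c : F, c ≠ 0 → ∃ w, w ≠ 0 ∧ w ⬝ᵥ C *ᵥ w = c := by
      obtain ⟨z, hz⟩ : ∃ z, z ⬝ᵥ (C - b⁻¹ • vecMulVec u u) *ᵥ z ≠ 0 := by
        by_contra hcon
        refine hrk (sub_eq_zero.1 (eq_zero_of_quad_eq_zero h2 ?_
          fun z => by_contra fun h => hcon ⟨z, h⟩))
        exact hC.sub ((show (vecMulVec u u).IsSymm from
          Matrix.IsSymm.ext fun i j => by simp [vecMulVec, mul_comm]).smul _)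
      set z' := z - ((u ⬝ᵥ z) / b) • v with hz'
      have hsymm : ∀ x y, x ⬝ᵥ C *ᵥ y = y ⬝ᵥ C *ᵥ x := fun x y => by
        rw [dotProduct_mulVec, ← mulVec_transpose, hC.eq, dotProduct_comm]
      have hvz : v ⬝ᵥ C *ᵥ z' = 0 := by
        rw [hz', mulVec_sub, mulVec_smul, dotProduct_sub, dotProduct_smul, ← hb, hsymm v z, ← hu,
          dotProduct_comm z u, smul_eq_mul, div_mul_cancel₀ _ hv, sub_self]
      have haz : z' ⬝ᵥ C *ᵥ z' ≠ 0 := by
        convert hz using 1
        rw [sub_mulVec, dotProduct_sub, smul_mulVec, dotProduct_smul, quad_vecMulVec, hz',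
          mulVec_sub, mulVec_smul, dotProduct_sub, sub_dotProduct, sub_dotProduct,
          smul_dotProduct, dotProduct_smul, smul_dotProduct, dotProduct_smul, ← hu, ← hb,
          hsymm v z, ← hu, dotProduct_comm z u, smul_eq_mul, smul_eq_mul, smul_eq_mul]
        field_simp
        ring_nf
        rw [mul_comm b ((u ⬝ᵥ z) ^ 2), mul_assoc, mul_inv_cancel₀ hv, mul_one]
      have hzu : z' ⬝ᵥ u = 0 := by rw [hu, hsymm]; exact hvz
      intro c hc
      obtain ⟨α, β, hαβ⟩ := FiniteField.exists_root_sum_quadratic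
        (f := Polynomial.C b * Polynomial.X ^ 2)
        (g := Polynomial.C (z' ⬝ᵥ C *ᵥ z') * Polynomial.X ^ 2 + Polynomial.C (-c))
        (Polynomial.degree_C_mul_X_pow 2 hv)
        (by
          rw [Polynomial.degree_add_C (by rw [Polynomial.degree_C_mul_X_pow 2 haz]; decide)]
          exact Polynomial.degree_C_mul_X_pow 2 haz)
        (Nat.odd_iff.1 hodd)
      simp only [Polynomial.eval_mul, Polynomial.eval_C, Polynomial.eval_pow, Polynomial.eval_X,
        Polynomial.eval_add] at hαβ
      have hQ : (α • v + β • z') ⬝ᵥ C *ᵥ (α • v + β • z') = c := by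
        simp only [mulVec_add, mulVec_smul, dotProduct_add, add_dotProduct, smul_dotProduct,
          dotProduct_smul, smul_eq_mul, ← hb, hsymm z' v, hvz, ← hu, hzu]
        linear_combination hαβ
      exact ⟨_, fun h0 => hc (by rw [← hQ, h0]; simp), hQ⟩
    have hcard : (Finset.univ.filter fun x : Fin n → F => x i₀ ≠ 0).card ≤ S.toFinset.card := by
      refine Finset.card_le_card_of_surjOn (fun M : Matrix (Fin n) (Fin n) F => M i₀) ?_
      intro x hx
      rw [Finset.coe_filter] at hx
      have hx0 : x i₀ ≠ 0 := hx.2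
      obtain ⟨w, hw0, hw⟩ := hrep _ hx0
      obtain ⟨Y, hY, eY⟩ := exists_col i₀ hw0
      set r : Fin n → F := (Yᵀ * C * Y) i₀ with hr
      have hr0 : r i₀ = x i₀ := by
        rw [← hw, ← eY, hr, mulVec_single_one]
        simp only [dotProduct, Matrix.mul_apply, Matrix.mulVec, col_apply, transpose_apply,
          Finset.sum_mul, Finset.mul_sum, mul_assoc]
        exact Finset.sum_comm
      set t : Fin n → F := fun j => if j = i₀ then 0 else (x j - r j) / x i₀ with ht
      set T : Matrix (Fin n) (Fin n) F := 1 + vecMulVec (Pi.single i₀ 1) t with hT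
      have hTu : IsUnit T := by
        refine IsUnit.of_mul_eq_one (1 - vecMulVec (Pi.single i₀ 1) t) ?_
        have : t ⬝ᵥ Pi.single i₀ (1 : F) = 0 := by simp [ht]
        simp [hT, Matrix.add_mul, Matrix.mul_sub, vecMulVec_mul_vecMulVec, this]
      refine ⟨(Y * T)ᵀ * C * (Y * T), ?_, ?_⟩
      · rw [Finset.mem_coe, Set.mem_toFinset]
        exact ⟨Y * T, hY.mul hTu, rfl⟩
      · funext j
        have e : (Y * T)ᵀ * C * (Y * T) = Tᵀ * ((Yᵀ * C * Y) * T) := by
          simp [transpose_mul, Matrix.mul_assoc]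
        show ((Y * T)ᵀ * C * (Y * T)) i₀ j = x j
        rw [e]
        have e1 : ∀ M : Matrix (Fin n) (Fin n) F, (Tᵀ * M) i₀ = M i₀ := fun M => by
          funext k
          rw [hT, transpose_add, transpose_one, Matrix.add_mul, Matrix.one_mul, Matrix.add_apply,
            transpose_vecMulVec, vecMulVec_mul, vecMulVec_apply]
          simp [ht]
        rw [e1, hT, Matrix.mul_add, Matrix.mul_one, Matrix.add_apply, mul_vecMulVec,
          vecMulVec_apply, mulVec_single]
        simp only [MulOpposite.op_one, one_smul, col_apply]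
        show r j + r i₀ * t j = x j
        rw [hr0, ht]
        by_cases hj : j = i₀
        · subst hj; simp [hr0]
        · simp only [hj, if_false]
          field_simp
          ring
    have hsplit : (Finset.univ.filter fun x : Fin n → F => x i₀ ≠ 0).card * Fintype.card F
        = Fintype.card F ^ n * (Fintype.card F - 1) := by
      have e : (Finset.univ.filter fun x : Fin n → F => x i₀ ≠ 0).card
          = Fintype.card {x : Fin n → F // x i₀ ≠ 0} := (Fintype.card_subtype _).symm
      obtain ⟨m, rfl⟩ : ∃ m, n = m + 1 := ⟨n - 1, by omega⟩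
      have e2 : Nat.card {x : Fin (m + 1) → F // x i₀ ≠ 0} = (Fintype.card F - 1) * Fintype.card F ^ m := by
        rw [Nat.card_congr (Equiv.subtypeEquiv (Fin.insertNthEquiv (fun _ => F) i₀).symm
          (q := fun p : F × (Fin m → F) => p.1 ≠ 0) (fun x => by simp)),
          Nat.card_congr (Equiv.prodSubtypeFstEquivSubtypeProd (p := fun a : F => a ≠ 0)),
          Nat.card_prod, Nat.card_eq_fintype_card, Nat.card_eq_fintype_card, Fintype.card_fun,
          Fintype.card_fin, Fintype.card_subtype_compl, Fintype.card_subtype_eq]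
      rw [e, ← Nat.card_eq_fintype_card, e2, pow_succ]
      ring
    have hq : 3 ≤ Fintype.card F := by
      have := Fintype.one_lt_card (α := F)
      obtain ⟨k, hk⟩ := hodd
      omega
    nlinarith [Nat.sub_add_cancel (show 1 ≤ Fintype.card F by omega),
      pow_pos (show 0 < Fintype.card F by omega) n]

end H48
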