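import Mathlib
import Cfsg.Agent.H48.Form
import Cfsg.Agent.H48.OrbitOdd

/-!
# The Schrödinger representation of the Heisenberg group and its intertwiners
-/

set_option autoImplicit false

namespace H48

namespace Weil

open Matrix

variable {n : ℕ} {F : Type*} [Field F]

/-- The space of the Schrödinger model. -/
abbrev Hs (n : ℕ) (F : Type*) := (Fin n → F) → ℂ

/-- Translation part. -/
def vR (v : Fin n ⊕ Fin n → F) : Fin n → F := fun i => v (Sum.inr i)

/-- Multiplication part. -/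
def vL (v : Fin n ⊕ Fin n → F) : Fin n → F := fun i => v (Sum.inl i)

theorem sf_eq (v w : Fin n ⊕ Fin n → F) : sf v w = vR v ⬝ᵥ vL w - vL v ⬝ᵥ vR w := by
  simp only [sf_def, Matrix.J, dotProduct, Fintype.sum_sum_type, fromBlocks_mulVec, vR, vL]
  simp [Matrix.neg_mulVec, Function.comp]
  ring

theorem vL_zero : vL (0 : Fin n ⊕ Fin n → F) = 0 := rfl

theorem vR_zero : vR (0 : Fin n ⊕ Fin n → F) = 0 := rfl

/-- The Schrödinger operators. -/
def T (ψ : AddChar F ℂ) (v : Fin n ⊕ Fin n → F) : Module.End ℂ (Hs n F) where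
  toFun f x := ψ (vL v ⬝ᵥ x + 2⁻¹ * (vL v ⬝ᵥ vR v)) * f (x + vR v)
  map_add' f g := by ext x; simp [mul_add]
  map_smul' c f := by ext x; simp [mul_left_comm]

theorem T_apply (ψ : AddChar F ℂ) (v : Fin n ⊕ Fin n → F) (f : Hs n F) (x : Fin n → F) :
    T ψ v f x = ψ (vL v ⬝ᵥ x + 2⁻¹ * (vL v ⬝ᵥ vR v)) * f (x + vR v) := rfl

theorem T_zero (ψ : AddChar F ℂ) : T ψ (0 : Fin n ⊕ Fin n → F) = 1 := by
  apply LinearMap.ext
  intro f
  funext x
  simp [T_apply, vL_zero, vR_zero]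

theorem T_mul (h2 : (2 : F) ≠ 0) (ψ : AddChar F ℂ) (v w : Fin n ⊕ Fin n → F) :
    T ψ v * T ψ w = ψ (2⁻¹ * sf v w) • T ψ (v + w) := by
  apply LinearMap.ext
  intro f
  funext x
  show T ψ v (T ψ w f) x = ψ _ * T ψ (v + w) f x
  rw [T_apply, T_apply, T_apply, ← mul_assoc, ← mul_assoc, ← AddChar.map_add_eq_mul,
    ← AddChar.map_add_eq_mul]
  have e1 : vL (v + w) = vL v + vL w := rfl
  have e2 : vR (v + w) = vR v + vR w := rfl
  rw [e1, e2, sf_eq, ← add_assoc x]
  congr 2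
  simp only [add_dotProduct, dotProduct_add, dotProduct_comm (vR v) (vL w)]
  field_simp
  ring

theorem T_neg_mul (h2 : (2 : F) ≠ 0) (ψ : AddChar F ℂ) (v : Fin n ⊕ Fin n → F) :
    T ψ (-v) * T ψ v = 1 := by
  rw [T_mul h2, neg_add_cancel, T_zero, sf_eq]
  simp [vL, vR, dotProduct, mul_comm]

section Sums

variable [Fintype F] [DecidableEq F] {ψ : AddChar F ℂ}

theorem sum_char (hψ : ψ.IsPrimitive) (z : Fin n → F) :
    ∑ b : Fin n → F, ψ (b ⬝ᵥ z) = if z = 0 then (Fintype.card (Fin n → F) : ℂ) else 0 := by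
  split_ifs with hz
  · simp [hz]
  · obtain ⟨k, hk⟩ : ∃ k, z k ≠ 0 := by
      by_contra hcon
      exact hz (funext fun k => by_contra fun h => hcon ⟨k, h⟩)
    obtain ⟨c, hc⟩ := AddChar.ne_one_iff.1 (hψ hk)
    let φ : AddChar (Fin n → F) ℂ := ψ.compAddMonoidHom
      { toFun := fun b => b ⬝ᵥ z, map_zero' := by simp, map_add' := fun a b => by simp [add_dotProduct] }
    refine AddChar.sum_eq_zero_of_ne_one (ψ := φ) (AddChar.ne_one_iff.2 ⟨Pi.single k c, ?_⟩)
    show ψ (Pi.single k c ⬝ᵥ z) ≠ 1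
    rw [single_dotProduct, mul_comm]
    simpa [AddChar.mulShift_apply] using hc

/-- Multiplication operator. -/
def mulVecL (b : Fin n → F) : Fin n ⊕ Fin n → F := Sum.elim b 0

/-- Translation operator. -/
def trVec (a : Fin n → F) : Fin n ⊕ Fin n → F := Sum.elim 0 a

theorem T_mulVecL (b : Fin n → F) (f : Hs n F) (x : Fin n → F) :
    T ψ (mulVecL b) f x = ψ (b ⬝ᵥ x) * f x := by
  rw [T_apply, show vL (mulVecL b) = b from rfl, show vR (mulVecL b) = 0 from rfl]
  simp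

theorem T_trVec (a : Fin n → F) (f : Hs n F) (x : Fin n → F) :
    T ψ (trVec a) f x = f (x + a) := by
  rw [T_apply, show vL (trVec a) = 0 from rfl, show vR (trVec a) = a from rfl]
  simp

theorem T_trVec_single (a y : Fin n → F) :
    T ψ (trVec a) (Pi.single y 1 : Hs n F) = Pi.single (y - a) 1 := by
  funext x
  rw [T_trVec]
  simp [Pi.single_apply, eq_sub_iff_add_eq]

/-- An invariant subspace is trivial or everything. -/
theorem irred (hψ : ψ.IsPrimitive) (U : Submodule ℂ (Hs n F))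
    (hU : ∀ v, ∀ f ∈ U, T ψ v f ∈ U) {f : Hs n F} (hf : f ∈ U) (hf0 : f ≠ 0) : U = ⊤ := by
  obtain ⟨y, hy⟩ : ∃ y, f y ≠ 0 := by
    by_contra hcon
    exact hf0 (funext fun k => by_contra fun h => hcon ⟨k, h⟩)
  have h1 : ∑ b : Fin n → F, ψ (-(b ⬝ᵥ y)) • T ψ (mulVecL b) f ∈ U :=
    U.sum_mem fun b _ => U.smul_mem _ (hU _ f hf)
  have h2 : ∑ b : Fin n → F, ψ (-(b ⬝ᵥ y)) • T ψ (mulVecL b) f
      = ((Fintype.card (Fin n → F) : ℂ) * f y) • (Pi.single y 1 : Hs n F) := by
    funext x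
    have e : ∀ b : Fin n → F, ψ (-(b ⬝ᵥ y)) * (ψ (b ⬝ᵥ x) * f x) = ψ (b ⬝ᵥ (x - y)) * f x := fun b => by
      rw [← mul_assoc, ← AddChar.map_add_eq_mul, dotProduct_sub, sub_eq_add_neg, add_comm]
    simp only [Finset.sum_apply, Pi.smul_apply, smul_eq_mul, T_mulVecL, e, ← Finset.sum_mul, sum_char hψ]
    rcases eq_or_ne x y with rfl | h
    · simp
    · simp [h, sub_eq_zero]
  rw [h2] at h1
  have h3 : (Pi.single y 1 : Hs n F) ∈ U := by
    have := U.smul_mem ((Fintype.card (Fin n → F) : ℂ) * f y)⁻¹ h1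
    rwa [inv_smul_smul₀ (mul_ne_zero (Nat.cast_ne_zero.2 Fintype.card_ne_zero) hy)] at this
  have h4 : ∀ z, (Pi.single z 1 : Hs n F) ∈ U := fun z => by
    have := hU (trVec (y - z)) _ h3
    rwa [T_trVec_single, sub_sub_cancel] at this
  rw [eq_top_iff]
  intro g _
  rw [pi_eq_sum_univ' g]
  exact U.sum_mem fun z _ => U.smul_mem _ (h4 z)

/-- `W` intertwines `v` with `g • v`. -/
def IsInt (ψ : AddChar F ℂ) (g : Matrix.symplecticGroup (Fin n) F) (W : Module.End ℂ (Hs n F)) :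
    Prop :=
  ∀ v, W * T ψ v = T ψ (g • v) * W

theorem comm_scalar (hψ : ψ.IsPrimitive) {R : Module.End ℂ (Hs n F)}
    (hR : ∀ v, R * T ψ v = T ψ v * R) : ∃ c : ℂ, R = c • 1 := by
  haveI : Nontrivial (Hs n F) := ⟨⟨0, 1, fun h => zero_ne_one (congrFun h 0)⟩⟩
  obtain ⟨c, hc⟩ := Module.End.exists_eigenvalue R
  refine ⟨c, ?_⟩
  have key : LinearMap.ker (R - c • 1) = ⊤ := by
    obtain ⟨f, hf⟩ := hc.exists_hasEigenvector
    refine irred hψ _ (fun v g hg => ?_) (f := f) ?_ hf.2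
    · rw [LinearMap.mem_ker, LinearMap.sub_apply, sub_eq_zero] at hg ⊢
      rw [← Module.End.mul_apply, hR, Module.End.mul_apply, hg]
      simp
    · rw [LinearMap.mem_ker, LinearMap.sub_apply, sub_eq_zero, hf.apply_eq_smul]
      rfl
  exact sub_eq_zero.1 (LinearMap.ker_eq_top.1 key)

theorem IsInt.isUnit (hψ : ψ.IsPrimitive) {g : Matrix.symplecticGroup (Fin n) F}
    {W : Module.End ℂ (Hs n F)} (hW : IsInt ψ g W) (hW0 : W ≠ 0) : IsUnit W := by
  rw [LinearMap.isUnit_iff_ker_eq_bot]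
  by_contra hk
  obtain ⟨f, hf, hf0⟩ := Submodule.exists_mem_ne_zero_of_ne_bot hk
  refine hW0 (LinearMap.ker_eq_top.1 (irred hψ _ (fun v k hk => ?_) hf hf0))
  rw [LinearMap.mem_ker] at hk ⊢
  rw [← Module.End.mul_apply, hW, Module.End.mul_apply, hk, map_zero]

theorem IsInt.unique (hψ : ψ.IsPrimitive) {g : Matrix.symplecticGroup (Fin n) F}
    {W W' : Module.End ℂ (Hs n F)} (hW : IsInt ψ g W) (hW0 : W ≠ 0) (hW' : IsInt ψ g W') :
    ∃ c : ℂ, W' = c • W := by
  obtain ⟨u, rfl⟩ := hW.isUnit hψ hW0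
  obtain ⟨c, hc⟩ := comm_scalar (ψ := ψ) hψ (R := (↑u⁻¹ : Module.End ℂ (Hs n F)) * W') fun v => by
    apply u.isUnit.mul_left_cancel
    rw [← mul_assoc, ← mul_assoc, ← mul_assoc, Units.mul_inv, one_mul, hW', hW]
    simp only [mul_assoc, Units.mul_inv_cancel_left]
  refine ⟨c, ?_⟩
  calc W' = ↑u * ((↑u⁻¹ : Module.End ℂ (Hs n F)) * W') := by rw [← mul_assoc, Units.mul_inv, one_mul]
    _ = c • ↑u := by rw [hc, mul_smul_comm, mul_one]

theorem IsInt.one : IsInt ψ (1 : Matrix.symplecticGroup (Fin n) F) 1 := fun v => by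
  rw [one_smul, one_mul, mul_one]

theorem IsInt.mul {g h : Matrix.symplecticGroup (Fin n) F}
    {W W' : Module.End ℂ (Hs n F)} (hW : IsInt ψ g W) (hW' : IsInt ψ h W') :
    IsInt ψ (g * h) (W * W') := fun v => by
  rw [mul_smul, mul_assoc, hW' v, ← mul_assoc, hW (h • v), mul_assoc]

theorem exists_int (hψ : ψ.IsPrimitive) (h2 : (2 : F) ≠ 0) (g : Matrix.symplecticGroup (Fin n) F) :
    ∃ W : Module.End ℂ (Hs n F), IsInt ψ g W ∧ W ≠ 0 := by
  let Av : Module.End ℂ (Hs n F) → Module.End ℂ (Hs n F) :=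
    fun R => ∑ v : Fin n ⊕ Fin n → F, T ψ (g • v) * R * T ψ (-v)
  have hint : ∀ R, IsInt ψ g (Av R) := by
    intro R u
    simp only [Av, Finset.sum_mul, Finset.mul_sum]
    symm
    refine Fintype.sum_equiv (Equiv.addLeft u) _ _ fun w => ?_
    simp only [Equiv.coe_addLeft, ← mul_assoc, T_mul h2, smul_mul_assoc, mul_assoc _ (T ψ (-(u + w))),
      mul_smul_comm, sf_smul_smul, smul_add]
    rw [show -(u + w) + u = -w by abel]
    congr 2
    simp only [neg_add_rev, map_add, map_neg, LinearMap.add_apply, LinearMap.neg_apply]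
    rw [sf_self, sf_swap u w]
    ring
  by_contra hcon
  simp only [not_exists, not_and, not_not] at hcon
  have h0 : ∀ y x : Fin n → F,
      ∑ b : Fin n → F, ψ (-(b ⬝ᵥ y)) • T ψ (g • mulVecL b) (Pi.single x 1 : Hs n F) = 0 := by
    intro y x
    let R : Module.End ℂ (Hs n F) :=
      (LinearMap.proj (R := ℂ) (φ := fun _ : Fin n → F => ℂ) y).smulRight (Pi.single x 1 : Hs n F)
    have e := LinearMap.congr_fun (hcon _ (hint R)) (Pi.single y 1 : Hs n F)
    have e2 : ∀ v, (T ψ (-v) (Pi.single y 1 : Hs n F)) y =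
        if vR v = 0 then ψ (-(vL v ⬝ᵥ y)) else 0 := by
      intro v
      have a1 : vL (-v) = -vL v := rfl
      have a2 : vR (-v) = -vR v := rfl
      rw [T_apply, a1, a2]
      split_ifs with h
      · simp [h]
      · simp [h]
    simp only [Av, LinearMap.sum_apply, Module.End.mul_apply, LinearMap.zero_apply, R,
      LinearMap.smulRight_apply, LinearMap.proj_apply, e2, ite_smul, zero_smul,
      apply_ite, _root_.map_zero, map_smul, ← Finset.sum_filter] at e
    rw [← e]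
    refine Finset.sum_bij (fun b _ => mulVecL b) ?_ ?_ ?_ ?_
    · intro b _; rw [Finset.mem_filter]; exact ⟨Finset.mem_univ _, rfl⟩
    · intro b _ b' _ h; exact funext fun i => congrFun h (Sum.inl i)
    · intro v hv
      refine ⟨vL v, Finset.mem_univ _, ?_⟩
      funext i
      rcases i with i | i
      · rfl
      · exact (congrFun (Finset.mem_filter.1 hv).2 i).symm
    · intro b _; rfl
  have h1 : ∀ x : Fin n → F, (Fintype.card (Fin n → F) : ℂ) • (Pi.single x 1 : Hs n F) = 0 := by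
    intro x
    have h := Finset.sum_eq_zero fun y (_ : y ∈ (Finset.univ : Finset (Fin n → F))) => h0 y x
    rw [Finset.sum_comm] at h
    simp only [← Finset.sum_smul] at h
    have e : ∀ b : Fin n → F, ∑ y : Fin n → F, ψ (-(b ⬝ᵥ y))
        = if b = 0 then (Fintype.card (Fin n → F) : ℂ) else 0 := fun b => by
      have e1 : ∀ y : Fin n → F, -(b ⬝ᵥ y) = y ⬝ᵥ (-b) := fun y => by
        rw [dotProduct_neg, dotProduct_comm]
      simp only [e1, sum_char hψ, neg_eq_zero]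
    simp only [e, ite_smul, zero_smul, Finset.sum_ite_eq', Finset.mem_univ, if_true] at h
    rwa [show mulVecL (0 : Fin n → F) = 0 by funext i; rcases i with i | i <;> rfl, smul_zero,
      T_zero, Module.End.one_apply] at h
  have := congrFun (h1 0) 0
  simp at this

end Sums

end Weil

end H48
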