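import Mathlib
import Cfsg.Agent.H48.OrbitOdd

/-!
# Cross characteristic degree bound for `Sp_{2n}(q)`, `q` odd
-/

set_option autoImplicit false

namespace H48

open Matrix

variable {n : ℕ} {F : Type*} [Field F]

theorem card_symMat_ne_zero [Fintype F] {K : Type*} [Field K] (hK : ringChar K ≠ ringChar F) :
    (Nat.card (symMat n F) : K) ≠ 0 := by
  haveI hpp : Fact (ringChar F).Prime := ⟨CharP.char_is_prime F _⟩
  obtain ⟨k, hp, hk⟩ := FiniteField.card F (ringChar F)
  have hdvd : Nat.card (symMat n F) ∣ ringChar F ^ ((k : ℕ) * n * n) := by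
    refine (AddSubgroup.card_addSubgroup_dvd_card _).trans (dvd_of_eq ?_)
    rw [Matrix, Nat.card_fun, Nat.card_fun, Nat.card_fin, Nat.card_eq_fintype_card, hk, ← pow_mul,
      ← pow_mul, mul_assoc]
  obtain ⟨j, -, hj⟩ := (Nat.dvd_prime_pow hpp.out).1 hdvd
  rw [hj, Nat.cast_pow]
  refine pow_ne_zero _ fun h0 => ?_
  rw [ringChar.spec] at h0
  rcases CharP.char_is_prime_or_zero K (ringChar K) with hq | hq
  · exact hK ((Nat.prime_dvd_prime_iff_eq hq hpp.out).1 h0)
  · rw [hq] at h0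
    exact hpp.out.ne_zero (zero_dvd_iff.1 h0)

/-- The character of `symMat` attached to a matrix. -/
def chiOf {K : Type*} [Field K] (ψ : AddChar F K) (C : Matrix (Fin n) (Fin n) F) :
    AddChar (symMat n F) K :=
  ψ.compAddMonoidHom
    { toFun := fun B => (C * B.1).trace
      map_zero' := by simp
      map_add' := fun A B => by simp [Matrix.mul_add] }

theorem chiOf_apply {K : Type*} [Field K] (ψ : AddChar F K) (C : Matrix (Fin n) (Fin n) F)
    (B : symMat n F) : chiOf ψ C B = ψ ((C * B.1).trace) := rfl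

variable [Fintype F] {K : Type*} [Field K]

theorem sym_single_mem (i j : Fin n) (c : F) :
    Matrix.single i j c + Matrix.single j i c ∈ symMat n F := by
  show (_ : Matrix (Fin n) (Fin n) F)ᵀ = _
  rw [transpose_add, transpose_single, transpose_single, add_comm]

theorem trace_mul_sym_single {C : Matrix (Fin n) (Fin n) F} (hC : C.IsSymm) (i j : Fin n) (c : F) :
    (C * (Matrix.single i j c + Matrix.single j i c)).trace = 2 * C i j * c := by
  rw [Matrix.mul_add, Matrix.trace_add, Matrix.trace_mul_comm C, Matrix.trace_mul_comm C]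
  simp only [Matrix.trace_single_mul, hC.apply i j]
  ring

theorem addChar_sum {A M ι : Type*} [AddCommMonoid A] [CommMonoid M] (φ : AddChar A M) (s : Finset ι)
    (f : ι → A) : φ (∑ i ∈ s, f i) = ∏ i ∈ s, φ (f i) := by
  classical
  induction s using Finset.induction_on with
  | empty => simp
  | insert a s ha ih => rw [Finset.sum_insert ha, Finset.prod_insert ha, AddChar.map_add_eq_mul, ih]

/-- Every character is `chiOf` of a symmetric matrix. -/
theorem exists_chiOf {ψ : AddChar F K} (hψ : ψ.IsPrimitive) (h2 : (2 : F) ≠ 0)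
    (χ : AddChar (symMat n F) K) :
    ∃ C : Matrix (Fin n) (Fin n) F, C.IsSymm ∧ χ = chiOf ψ C := by
  classical
  obtain ⟨D, hsym, hD⟩ := exists_coeffs hψ χ
  let C : Matrix (Fin n) (Fin n) F := Matrix.of fun i j => 2⁻¹ * D i j
  have hC : C.IsSymm := Matrix.IsSymm.ext fun i j => by simp [C, hsym i j]
  refine ⟨C, hC, DFunLike.ext _ _ fun B => ?_⟩
  have hB : B.1ᵀ = B.1 := B.2
  have key : B = ∑ p : Fin n × Fin n, (⟨_, sym_single_mem p.1 p.2 (2⁻¹ * B.1 p.1 p.2)⟩ : symMat n F) := by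
    apply Subtype.ext
    rw [AddSubgroup.val_finsetSum]
    show B.1 = ∑ p : Fin n × Fin n, (Matrix.single p.1 p.2 (2⁻¹ * B.1 p.1 p.2) +
      Matrix.single p.2 p.1 (2⁻¹ * B.1 p.1 p.2))
    rw [Finset.sum_add_distrib]
    have e1 : ∑ p : Fin n × Fin n, Matrix.single p.1 p.2 (2⁻¹ * B.1 p.1 p.2) = (2⁻¹ : F) • B.1 := by
      rw [Fintype.sum_prod_type]
      exact ((2⁻¹ : F) • B.1).matrix_eq_sum_single.symm
    have e2 : ∑ p : Fin n × Fin n, Matrix.single p.2 p.1 (2⁻¹ * B.1 p.1 p.2) = (2⁻¹ : F) • B.1 := by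
      rw [Fintype.sum_prod_type, Finset.sum_comm]
      conv_rhs => rw [← hB]
      exact ((2⁻¹ : F) • B.1ᵀ).matrix_eq_sum_single.symm
    rw [e1, e2, ← add_smul]
    have : (2⁻¹ : F) + 2⁻¹ = 1 := by rw [← two_mul, mul_inv_cancel₀ h2]
    rw [this, one_smul]
  rw [key, addChar_sum, addChar_sum]
  refine Finset.prod_congr rfl fun p _ => ?_
  rw [hD, chiOf_apply, trace_mul_sym_single hC]
  congr 1
  show _ = 2 * (2⁻¹ * D p.1 p.2) * _
  rw [← mul_assoc (2 : F), mul_inv_cancel₀ h2, one_mul]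

theorem chiOf_injOn {ψ : AddChar F K} (hψ : ψ.IsPrimitive) (h2 : (2 : F) ≠ 0)
    {C C' : Matrix (Fin n) (Fin n) F} (hC : C.IsSymm) (hC' : C'.IsSymm)
    (h : chiOf ψ C = chiOf ψ C') : C = C' := by
  ext i j
  have e : ψ.mulShift (2 * C i j) = ψ.mulShift (2 * C' i j) := by
    refine DFunLike.ext _ _ fun c => ?_
    have := DFunLike.congr_fun h ⟨_, sym_single_mem i j c⟩
    rw [chiOf_apply, chiOf_apply, trace_mul_sym_single hC, trace_mul_sym_single hC'] at this
    simpa [AddChar.mulShift_apply] using this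
  exact mul_left_cancel₀ h2 (AddChar.to_mulShift_inj_of_isPrimitive hψ e)

/-- Cross characteristic bound: a linear action non-trivial on the radical has dimension at least
`(q^n - 1)/2`. -/
theorem finrank_ge_of_radical [IsAlgClosed K] (hK : ringChar K ≠ ringChar F)
    (hodd : Odd (Fintype.card F)) (hn : 1 ≤ n) {M : Type*} [AddCommGroup M] [Module K M]
    [FiniteDimensional K M] (ρ : Matrix.symplecticGroup (Fin n) F →* Module.End K M)
    (hne : ∃ B, ρ (radical B) ≠ 1) :
    Fintype.card F ^ n ≤ 2 * Module.finrank K M + 1 := by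
  classical
  have h2 : (2 : F) ≠ 0 := two_ne_zero_of_odd hodd
  obtain ⟨ψ, hψ⟩ := exists_psi (F := F) (K := K) hK
  have hact : AbW.IsAct (fun a : symMat n F => ρ (radical a)) :=
    ⟨by rw [radical_zero, _root_.map_one], fun a b => by rw [radical_add, _root_.map_mul]⟩
  obtain ⟨χ, hχ1, v, hv0, hv⟩ := hact.exists_hasChar (card_symMat_ne_zero hK) hne
  obtain ⟨C, hC, rfl⟩ := exists_chiOf hψ h2 χ
  have hC0 : C ≠ 0 := by
    rintro rfl
    exact hχ1 (DFunLike.ext _ _ fun B => by simp [chiOf_apply])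
  refine (orbit_ge hodd hn hC hC0).trans ?_
  gcongr
  set O := {M : Matrix (Fin n) (Fin n) F | ∃ X, IsUnit X ∧ M = Xᵀ * C * X}
  have hO : ∀ A ∈ O, A.IsSymm := by
    rintro A ⟨X, -, rfl⟩
    show (_ : Matrix (Fin n) (Fin n) F)ᵀ = _
    simp [Matrix.transpose_mul, hC.eq, Matrix.mul_assoc]
  rw [← Nat.card_image_of_injOn (f := chiOf ψ) fun A hA B hB h =>
    chiOf_injOn hψ h2 (hO A hA) (hO B hB) h]
  refine AbW.IsAct.card_orbit_le ρ radical hv0 hv _ ?_
  rintro _ ⟨A, ⟨X, hX, rfl⟩, rfl⟩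
  obtain ⟨g, hg⟩ := exists_conj_radical X hX
  refine ⟨g, fun a => ⟨congr' X a, hg a, ?_⟩⟩
  rw [chiOf_apply, chiOf_apply]
  congr 1
  show (Xᵀ * C * X * a.1).trace = (C * (X * a.1 * Xᵀ)).trace
  rw [Matrix.mul_assoc, Matrix.trace_mul_comm, ← Matrix.mul_assoc, Matrix.mul_assoc _ Xᵀ C]
  rw [Matrix.trace_mul_comm (X * a.1) (Xᵀ * C), Matrix.mul_assoc Xᵀ C, Matrix.trace_mul_comm,
    Matrix.mul_assoc C]

theorem radical_not_central (hn : 1 ≤ n) :
    ∃ B : symMat n F, radical B ∉ Subgroup.center (Matrix.symplecticGroup (Fin n) F) := by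
  set i : Fin n := ⟨0, hn⟩
  haveI : Nonempty (Fin n) := ⟨i⟩
  refine ⟨sqMat 1 (Pi.single i 1), fun h => ?_⟩
  obtain ⟨a, -, ha⟩ := (mem_center_iff _).1 h
  have := congrFun (ha (Pi.single (Sum.inr i) 1)) (Sum.inl i)
  change ((radical (sqMat 1 (Pi.single i 1))).1 *ᵥ Pi.single (Sum.inr i) 1) (Sum.inl i) = _ at this
  simp [radical, upperSp, sqMat, Matrix.mulVec_single, vecMulVec] at this

end H48
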