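import Mathlib
import Cfsg.Agent.H48.Heisenberg
import Cfsg.Agent.H48.RepBoundOdd

/-!
# The odd Weil representation of `Sp_{2n}(q)`, `q` odd
-/

set_option autoImplicit false

namespace H48

namespace Weil

open Matrix

variable {n : ℕ} {F : Type*} [Field F] [Fintype F] [DecidableEq F] {ψ : AddChar F ℂ}

/-- Parity. -/
def parity : Module.End ℂ (Hs n F) := LinearMap.funLeft ℂ ℂ (fun x : Fin n → F => -x)

omit [Fintype F] [DecidableEq F] in
theorem parity_apply (f : Hs n F) (x : Fin n → F) : parity f x = f (-x) := rfl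

omit [Fintype F] [DecidableEq F] in
theorem parity_mul_self : (parity * parity : Module.End ℂ (Hs n F)) = 1 := by
  apply LinearMap.ext
  intro f
  funext x
  show f (- -x) = f x
  rw [neg_neg]

omit [Fintype F] [DecidableEq F] in
theorem parity_mul_T (ψ : AddChar F ℂ) (v : Fin n ⊕ Fin n → F) :
    parity * T ψ v = T ψ (-v) * parity := by
  apply LinearMap.ext
  intro f
  funext x
  show T ψ v f (-x) = T ψ (-v) (parity f) x
  rw [T_apply, T_apply, parity_apply, show vL (-v) = -vL v from rfl, show vR (-v) = -vR v from rfl]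
  simp [neg_add_rev, add_comm]

theorem trace_parity (hodd : Odd (Fintype.card F)) :
    LinearMap.trace ℂ (Hs n F) parity = 1 := by
  have h2 := two_ne_zero_of_odd hodd
  rw [LinearMap.trace_eq_matrix_trace ℂ (Pi.basisFun ℂ (Fin n → F))]
  simp only [Matrix.trace, Matrix.diag_apply, LinearMap.toMatrix_apply, Pi.basisFun_repr,
    Pi.basisFun_apply, parity_apply, Pi.single_apply]
  have e : ∀ x : Fin n → F, -x = x ↔ x = 0 := fun x => by
    refine ⟨fun h => funext fun i => ?_, fun h => by simp [h]⟩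
    have := congrFun h i
    simp only [Pi.neg_apply] at this
    have : (2 : F) * x i = 0 := by linear_combination -this
    simpa [h2] using this
  simp [e]

theorem IsInt.comm_parity (hψ : ψ.IsPrimitive) (hodd : Odd (Fintype.card F))
    {g : Matrix.symplecticGroup (Fin n) F} {W : Module.End ℂ (Hs n F)} (hW : IsInt ψ g W)
    (hW0 : W ≠ 0) : W * parity = parity * W := by
  have h1 : IsInt ψ g (parity * W * parity) := fun v => by
    rw [mul_assoc, parity_mul_T, ← mul_assoc, mul_assoc _ W, hW, ← mul_assoc, parity_mul_T,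
      smul_neg, neg_neg, mul_assoc, mul_assoc, mul_assoc]
  obtain ⟨c, hc⟩ := hW.unique hψ hW0 h1
  have e : W * parity = c • (parity * W) := by
    calc W * parity = parity * (parity * W * parity) := by
          rw [← mul_assoc, ← mul_assoc, parity_mul_self, one_mul]
      _ = c • (parity * W) := by rw [hc, mul_smul_comm]
  have e2 : c * c = 1 := by
    have : W = (c * c) • W := by
      calc W = W * parity * parity := by rw [mul_assoc, parity_mul_self, mul_one]
        _ = c • (parity * (W * parity)) := by conv_lhs => rw [e, smul_mul_assoc, mul_assoc]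
        _ = (c * c) • W := by rw [e, mul_smul_comm, smul_smul, ← mul_assoc, parity_mul_self, one_mul]
    by_contra hne
    exact hne (smul_left_injective ℂ hW0 (this.symm.trans (one_smul ℂ W).symm))
  rcases mul_self_eq_one_iff.1 e2 with rfl | rfl
  · simpa using e
  · exfalso
    obtain ⟨u, rfl⟩ := hW.isUnit hψ hW0
    replace e : (↑u : Module.End ℂ (Hs n F)) * parity = -((parity : Module.End ℂ (Hs n F)) * (↑u : Module.End ℂ (Hs n F))) := e.trans (LinearMap.ext fun f => neg_one_smul ℂ (((parity : Module.End ℂ (Hs n F)) * (↑u : Module.End ℂ (Hs n F))) f))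
    have h3 : (↑u : Module.End ℂ (Hs n F)) * parity * (↑u⁻¹ : Module.End ℂ (Hs n F)) = -(parity : Module.End ℂ (Hs n F)) := by
      rw [e]
      apply LinearMap.ext
      intro f
      show -(parity ((↑u : Module.End ℂ (Hs n F)) ((↑u⁻¹ : Module.End ℂ (Hs n F)) f))) = _
      have h5 : (↑u : Module.End ℂ (Hs n F)) ((↑u⁻¹ : Module.End ℂ (Hs n F)) f) = f := by
        rw [← Module.End.mul_apply, Units.mul_inv]; rfl
      rw [h5]
      rfl
    have h4 := congrArg (LinearMap.trace ℂ (Hs n F)) h3
    rw [LinearMap.trace_mul_comm, ← mul_assoc, Units.inv_mul, one_mul, map_neg,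
      trace_parity hodd] at h4
    norm_num at h4

/-- The even functions. -/
def evenSub : Submodule ℂ (Hs n F) := LinearMap.ker ((parity : Module.End ℂ (Hs n F)) - 1)

/-- The odd functions. -/
def oddSub : Submodule ℂ (Hs n F) := LinearMap.ker ((parity : Module.End ℂ (Hs n F)) + 1)

omit [Fintype F] [DecidableEq F] in
theorem mem_evenSub {f : Hs n F} : f ∈ (evenSub : Submodule ℂ (Hs n F)) ↔ parity f = f := by
  simp [evenSub, sub_eq_zero]

omit [Fintype F] [DecidableEq F] in
theorem mem_oddSub {f : Hs n F} : f ∈ (oddSub : Submodule ℂ (Hs n F)) ↔ parity f = -f := by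
  simp [oddSub, add_eq_zero_iff_eq_neg]

theorem finrank_even_odd (hodd : Odd (Fintype.card F)) :
    2 * Module.finrank ℂ (evenSub : Submodule ℂ (Hs n F)) = Fintype.card F ^ n + 1 ∧
    2 * Module.finrank ℂ (oddSub : Submodule ℂ (Hs n F)) + 1 = Fintype.card F ^ n := by
  have hpp : ∀ f : Hs n F, parity (parity f) = f := fun f => by
    rw [← Module.End.mul_apply, parity_mul_self, Module.End.one_apply]
  have hp : LinearMap.IsProj (evenSub : Submodule ℂ (Hs n F))
      ((2⁻¹ : ℂ) • (1 + (parity : Module.End ℂ (Hs n F)))) := by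
    refine ⟨fun f => mem_evenSub.2 ?_, fun f hf => ?_⟩
    · simp [map_add, hpp, add_comm]
    · simp [mem_evenSub.1 hf]
      rw [← add_smul]; norm_num
  have hm : LinearMap.IsProj (oddSub : Submodule ℂ (Hs n F))
      ((2⁻¹ : ℂ) • (1 - (parity : Module.End ℂ (Hs n F)))) := by
    refine ⟨fun f => mem_oddSub.2 ?_, fun f hf => ?_⟩
    · simp [map_sub, hpp, ← smul_neg]
    · simp [mem_oddSub.1 hf, ← two_smul ℂ f, smul_smul]
  have tp := hp.trace
  have tm := hm.trace
  rw [map_smul, map_add, LinearMap.trace_one, trace_parity hodd, Module.finrank_fintype_fun_eq_card,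
    Fintype.card_fun, Fintype.card_fin, smul_eq_mul] at tp
  rw [map_smul, map_sub, LinearMap.trace_one, trace_parity hodd, Module.finrank_fintype_fun_eq_card,
    Fintype.card_fun, Fintype.card_fin, smul_eq_mul] at tm
  constructor
  · have : ((2 * Module.finrank ℂ (evenSub : Submodule ℂ (Hs n F)) : ℕ) : ℂ)
        = ((Fintype.card F ^ n + 1 : ℕ) : ℂ) := by
      push_cast at tp ⊢; linear_combination (-2 : ℂ) * tp
    exact_mod_cast this
  · have : ((2 * Module.finrank ℂ (oddSub : Submodule ℂ (Hs n F)) + 1 : ℕ) : ℂ)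
        = ((Fintype.card F ^ n : ℕ) : ℂ) := by
      push_cast at tm ⊢; linear_combination (-2 : ℂ) * tm
    exact_mod_cast this

omit [Fintype F] [DecidableEq F] in
theorem maps_even {W : Module.End ℂ (Hs n F)} (h : W * parity = parity * W) :
    ∀ f ∈ (evenSub : Submodule ℂ (Hs n F)), W f ∈ (evenSub : Submodule ℂ (Hs n F)) := fun f hf => by
  rw [mem_evenSub, ← Module.End.mul_apply, ← h, Module.End.mul_apply, mem_evenSub.1 hf]

omit [Fintype F] [DecidableEq F] in
theorem maps_odd {W : Module.End ℂ (Hs n F)} (h : W * parity = parity * W) :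
    ∀ f ∈ (oddSub : Submodule ℂ (Hs n F)), W f ∈ (oddSub : Submodule ℂ (Hs n F)) := fun f hf => by
  rw [mem_oddSub, ← Module.End.mul_apply, ← h, Module.End.mul_apply, mem_oddSub.1 hf, map_neg]

/-- `W` is the normalised intertwiner of `g`. -/
def IsNorm (ψ : AddChar F ℂ) (g : Matrix.symplecticGroup (Fin n) F) (W : Module.End ℂ (Hs n F)) :
    Prop :=
  IsInt ψ g W ∧ W ≠ 0 ∧ ∃ h : W * parity = parity * W,
    LinearMap.det (W.restrict (maps_even h)) = LinearMap.det (W.restrict (maps_odd h))

theorem det_restrict_ne_zero {W : Module.End ℂ (Hs n F)} (hu : IsUnit W) (S : Submodule ℂ (Hs n F))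
    (h : ∀ f ∈ S, W f ∈ S) : LinearMap.det (W.restrict h) ≠ 0 := by
  intro h0
  have h1 : Function.Injective (W.restrict h) := fun a b hab => Subtype.ext
    (LinearMap.ker_eq_bot.1 ((LinearMap.isUnit_iff_ker_eq_bot _).1 hu) (congrArg Subtype.val hab))
  have h2 := (LinearMap.isUnit_iff_ker_eq_bot _).2 (LinearMap.ker_eq_bot.2 h1)
  exact (isUnit_iff_ne_zero.1 (h2.map (LinearMap.det : Module.End ℂ S →* ℂ))) h0

theorem det_restrict_smul {W W' : Module.End ℂ (Hs n F)} (c : ℂ) (e : W' = c • W)
    (S : Submodule ℂ (Hs n F)) (h : ∀ f ∈ S, W f ∈ S) (h' : ∀ f ∈ S, W' f ∈ S) :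
    LinearMap.det (W'.restrict h') = c ^ Module.finrank ℂ S * LinearMap.det (W.restrict h) := by
  rw [← LinearMap.det_smul]
  congr 1
  subst e
  exact LinearMap.ext fun f => Subtype.ext rfl

theorem exists_norm (hψ : ψ.IsPrimitive) (hodd : Odd (Fintype.card F))
    (g : Matrix.symplecticGroup (Fin n) F) : ∃ W, IsNorm ψ g W := by
  obtain ⟨W, hW, hW0⟩ := exists_int hψ (two_ne_zero_of_odd hodd) g
  have hc := hW.comm_parity hψ hodd hW0
  have hu := hW.isUnit hψ hW0
  set a := LinearMap.det (W.restrict (maps_even hc)) with ha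
  set b := LinearMap.det (W.restrict (maps_odd hc)) with hb
  have ha0 : a ≠ 0 := det_restrict_ne_zero hu _ _
  have hb0 : b ≠ 0 := det_restrict_ne_zero hu _ _
  have hl : b / a ≠ 0 := div_ne_zero hb0 ha0
  refine ⟨(b / a) • W, fun v => ?_, smul_ne_zero hl hW0, ?_, ?_⟩
  · rw [smul_mul_assoc, mul_smul_comm, hW]
  · rw [smul_mul_assoc, mul_smul_comm, hc]
  · rw [det_restrict_smul (b / a) rfl _ (maps_even hc), det_restrict_smul (b / a) rfl _ (maps_odd hc),
      ← ha, ← hb]
    obtain ⟨h1, h2⟩ := finrank_even_odd (n := n) (F := F) hodd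
    rw [show Module.finrank ℂ (evenSub : Submodule ℂ (Hs n F))
      = Module.finrank ℂ (oddSub : Submodule ℂ (Hs n F)) + 1 by omega, pow_succ, mul_assoc,
      div_mul_cancel₀ _ ha0]

theorem IsNorm.unique (hψ : ψ.IsPrimitive) (hodd : Odd (Fintype.card F))
    {g : Matrix.symplecticGroup (Fin n) F} {W W' : Module.End ℂ (Hs n F)}
    (h : IsNorm ψ g W) (h' : IsNorm ψ g W') : W' = W := by
  obtain ⟨hW, hW0, hc, hd⟩ := h
  obtain ⟨hW', hW0', hc', hd'⟩ := h'
  obtain ⟨c, e⟩ := hW.unique hψ hW0 hW'
  have hu := hW.isUnit hψ hW0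
  rw [det_restrict_smul c e _ (maps_even hc), det_restrict_smul c e _ (maps_odd hc), ← hd] at hd'
  obtain ⟨h1, h2⟩ := finrank_even_odd (n := n) (F := F) hodd
  rw [show Module.finrank ℂ (evenSub : Submodule ℂ (Hs n F))
      = Module.finrank ℂ (oddSub : Submodule ℂ (Hs n F)) + 1 by omega] at hd'
  have hc0 : c ≠ 0 := fun h => hW0' (by rw [e, h, zero_smul])
  have h3 := mul_right_cancel₀ (det_restrict_ne_zero hu _ (maps_even hc)) hd'
  rw [pow_succ, mul_eq_left₀ (pow_ne_zero _ hc0)] at h3
  rw [e, h3, one_smul]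

theorem IsNorm.one : IsNorm ψ (1 : Matrix.symplecticGroup (Fin n) F) 1 := by
  haveI : Nontrivial (Hs n F) := ⟨⟨0, 1, fun h => zero_ne_one (congrFun h 0)⟩⟩
  refine ⟨IsInt.one, one_ne_zero, by rw [one_mul, mul_one], ?_⟩
  have e : ∀ (S : Submodule ℂ (Hs n F)) (h : ∀ f ∈ S, (1 : Module.End ℂ (Hs n F)) f ∈ S),
      LinearMap.det ((1 : Module.End ℂ (Hs n F)).restrict h) = 1 := fun S h => by
    rw [show (1 : Module.End ℂ (Hs n F)).restrict h = 1 from LinearMap.ext fun f => Subtype.ext rfl]
    exact _root_.map_one _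
  rw [e, e]

theorem IsNorm.mul (hψ : ψ.IsPrimitive) {g g' : Matrix.symplecticGroup (Fin n) F}
    {W W' : Module.End ℂ (Hs n F)} (h : IsNorm ψ g W) (h' : IsNorm ψ g' W') :
    IsNorm ψ (g * g') (W * W') := by
  obtain ⟨hW, hW0, hc, hd⟩ := h
  obtain ⟨hW', hW0', hc', hd'⟩ := h'
  haveI : Nontrivial (Hs n F) := ⟨⟨0, 1, fun h => zero_ne_one (congrFun h 0)⟩⟩
  refine ⟨hW.mul hW', ((hW.isUnit hψ hW0).mul (hW'.isUnit hψ hW0')).ne_zero, ?_, ?_⟩
  · rw [mul_assoc, hc', ← mul_assoc, hc, mul_assoc]
  · have e : ∀ (S : Submodule ℂ (Hs n F)) (h₁ : ∀ f ∈ S, W f ∈ S) (h₂ : ∀ f ∈ S, W' f ∈ S)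
        (h₃ : ∀ f ∈ S, (W * W') f ∈ S), LinearMap.det ((W * W').restrict h₃)
          = LinearMap.det (W.restrict h₁) * LinearMap.det (W'.restrict h₂) := fun S h₁ h₂ h₃ => by
      rw [← map_mul]
      exact congrArg _ (LinearMap.ext fun f => Subtype.ext rfl)
    rw [e _ (maps_even hc) (maps_even hc'), e _ (maps_odd hc) (maps_odd hc'), hd, hd']

/-- The Weil representation. -/
noncomputable def weil (hψ : ψ.IsPrimitive) (hodd : Odd (Fintype.card F)) :
    Matrix.symplecticGroup (Fin n) F →* Module.End ℂ (Hs n F) where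
  toFun g := Classical.choose (exists_norm hψ hodd g)
  map_one' := (IsNorm.unique hψ hodd IsNorm.one (Classical.choose_spec (exists_norm hψ hodd 1)))
  map_mul' g h := IsNorm.unique hψ hodd
    ((Classical.choose_spec (exists_norm hψ hodd g)).mul hψ (Classical.choose_spec (exists_norm hψ hodd h)))
    (Classical.choose_spec (exists_norm hψ hodd (g * h)))

theorem weil_spec (hψ : ψ.IsPrimitive) (hodd : Odd (Fintype.card F))
    (g : Matrix.symplecticGroup (Fin n) F) : IsNorm ψ g (weil hψ hodd g) :=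
  Classical.choose_spec (exists_norm hψ hodd g)

/-- The representation on odd functions. -/
noncomputable def weilOdd (hψ : ψ.IsPrimitive) (hodd : Odd (Fintype.card F)) :
    Representation ℂ (Matrix.symplecticGroup (Fin n) F) (oddSub : Submodule ℂ (Hs n F)) where
  toFun g := (weil hψ hodd g).restrict (maps_odd (weil_spec hψ hodd g).2.2.1)
  map_one' := LinearMap.ext fun f => Subtype.ext (by
    show weil hψ hodd 1 f.1 = f.1
    rw [map_one]; rfl)
  map_mul' g h := LinearMap.ext fun f => Subtype.ext (by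
    show weil hψ hodd (g * h) f.1 = weil hψ hodd g (weil hψ hodd h f.1)
    rw [map_mul]; rfl)

/-- No non-zero odd function is fixed by the whole group. -/
theorem weilOdd_no_fixed (hψ : ψ.IsPrimitive) (hodd : Odd (Fintype.card F)) (hn : 2 ≤ n)
    {f : Hs n F} (hf : f ∈ (oddSub : Submodule ℂ (Hs n F))) (hfix : ∀ g, weil hψ hodd g f = f) :
    f = 0 := by
  have h2 := two_ne_zero_of_odd hodd
  by_contra hf0
  obtain ⟨x₀, hx⟩ : ∃ y, f y ≠ 0 := by
    by_contra hcon
    exact hf0 (funext fun k => by_contra fun h => hcon ⟨k, h⟩)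
  have hodd' : ∀ x, f (-x) = -f x := fun x => congrFun (mem_oddSub.1 hf) x
  have hx0 : x₀ ≠ 0 := by
    rintro rfl
    have := hodd' 0
    rw [neg_zero] at this
    exact hx (by linear_combination this / 2)
  -- a function fixed by the group is an eigenfunction of every intertwiner
  have heig : ∀ g (W : Module.End ℂ (Hs n F)), IsInt ψ g W → ∃ c : ℂ, W f = c • f := by
    intro g W hW
    obtain ⟨c, hc⟩ := (weil_spec hψ hodd g).1.unique hψ (weil_spec hψ hodd g).2.1 hW
    exact ⟨c, by rw [hc, LinearMap.smul_apply, hfix]⟩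
  -- support
  have hsupp : ∀ y, f y ≠ 0 → y = x₀ ∨ y = -x₀ := by
    intro y hy
    have key : ∀ i j : Fin n, x₀ i * x₀ j = y i * y j := by
      intro i j
      have hpt : ∀ c, ψ.mulShift (x₀ i * x₀ j) c = ψ.mulShift (y i * y j) c := by
        intro c
        let B : symMat n F := ⟨_, sym_single_mem i j (-c)⟩
        let M : Module.End ℂ (Hs n F) :=
          { toFun := fun f x => ψ (-(2⁻¹ * (x ⬝ᵥ B.1 *ᵥ x))) * f x
            map_add' := fun f g => by ext x; simp [mul_add]
            map_smul' := fun c f => by ext x; simp [mul_left_comm] }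
        have hM : IsInt ψ (radical B) M := by
          intro v
          apply LinearMap.ext
          intro h
          funext x
          show ψ _ * T ψ v h x = T ψ (radical B • v) (M h) x
          have eg : radical B • v = (fromBlocks 1 B.1 0 1) *ᵥ v := rfl
          have eL : vL (radical B • v) = vL v + B.1 *ᵥ vR v := by
            rw [eg, fromBlocks_mulVec]; funext k
            simp [vL, vR, Function.comp]
            rfl
          have eR : vR (radical B • v) = vR v := by
            rw [eg, fromBlocks_mulVec]; funext k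
            simp [vR]
          rw [T_apply, T_apply, eL, eR]
          show _ = ψ _ * (ψ _ * h (x + vR v))
          rw [← mul_assoc, ← mul_assoc, ← AddChar.map_add_eq_mul, ← AddChar.map_add_eq_mul]
          congr 2
          have hs : ∀ a b : Fin n → F, a ⬝ᵥ B.1 *ᵥ b = b ⬝ᵥ B.1 *ᵥ a := fun a b => by
            rw [dotProduct_mulVec, ← mulVec_transpose, show B.1ᵀ = B.1 from B.2, dotProduct_comm]
          simp only [mulVec_add, add_dotProduct, dotProduct_add, dotProduct_comm (B.1 *ᵥ vR v),
            hs (vR v) x]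
          field_simp
          ring
        obtain ⟨d, hd⟩ := heig _ _ hM
        have d1 := congrFun hd x₀
        have d2 := congrFun hd y
        change ψ _ * f x₀ = d * f x₀ at d1
        change ψ _ * f y = d * f y at d2
        have e := (mul_right_cancel₀ hx d1).trans (mul_right_cancel₀ hy d2).symm
        have eq : ∀ z : Fin n → F, -(2⁻¹ * (z ⬝ᵥ B.1 *ᵥ z)) = z i * z j * c := by
          intro z
          simp only [B, add_mulVec, single_mulVec, dotProduct_add, dotProduct_single,
            show ∀ (k : Fin n) (a : F), Function.update (0 : Fin n → F) k a = Pi.single k a from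
              fun _ _ => rfl]
          field_simp
          ring
        rw [eq, eq] at e
        simpa [AddChar.mulShift_apply] using e
      exact AddChar.to_mulShift_inj_of_isPrimitive hψ (DFunLike.ext _ _ hpt)
    obtain ⟨k, hk⟩ : ∃ k, x₀ k ≠ 0 := by
      by_contra hcon
      exact hx0 (funext fun k => by_contra fun h => hcon ⟨k, h⟩)
    rcases mul_self_eq_mul_self_iff.1 (key k k).symm with h | h
    · left; funext j
      have := key k j
      rw [h] at this
      exact (mul_left_cancel₀ hk this).symm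
    · right; funext j
      have := key k j
      rw [h, neg_mul, ← mul_neg] at this
      exact (neg_eq_iff_eq_neg.1 (mul_left_cancel₀ hk this).symm)
  -- a Levi element moves the support
  obtain ⟨w, hw0, hw1, hw2⟩ : ∃ w : Fin n → F, w ≠ 0 ∧ w ≠ x₀ ∧ w ≠ -x₀ := by
    by_contra hcon
    simp only [not_exists, not_and, not_not] at hcon
    have : (Finset.univ : Finset (Fin n → F)) ⊆ {0, x₀, -x₀} := fun w _ => by
      simp only [Finset.mem_insert, Finset.mem_singleton]
      by_cases a : w = 0
      · exact Or.inl a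
      · by_cases b : w = x₀
        · exact Or.inr (Or.inl b)
        · exact Or.inr (Or.inr (hcon w a b))
    have h3 := (Finset.card_le_card this).trans Finset.card_le_three
    rw [Finset.card_univ, Fintype.card_fun, Fintype.card_fin] at h3
    have h4 : Fintype.card F ^ 2 ≤ Fintype.card F ^ n :=
      Nat.pow_le_pow_right Fintype.card_pos hn
    have h5 := Fintype.one_lt_card (α := F)
    nlinarith
  obtain ⟨Y₁, hY₁, e₁⟩ := exists_col (⟨0, by omega⟩ : Fin n) hw0
  obtain ⟨Y₂, hY₂, e₂⟩ := exists_col (⟨0, by omega⟩ : Fin n) hx0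
  set A := Y₂ * Y₁⁻¹ with hA
  have hdA : IsUnit A.det := (Matrix.isUnit_iff_isUnit_det A).1
    (hY₂.mul (Matrix.isUnit_nonsing_inv_iff.2 hY₁))
  have eA : A *ᵥ w = x₀ := by
    rw [hA, ← e₁, mulVec_mulVec, Matrix.mul_assoc,
      Matrix.nonsing_inv_mul _ ((Matrix.isUnit_iff_isUnit_det Y₁).1 hY₁), Matrix.mul_one, e₂]
  have hm : fromBlocks Aᵀ 0 0 A⁻¹ ∈ Matrix.symplecticGroup (Fin n) F := by
    rw [SymplecticGroup.fromBlocks_mem_iff]
    simp [← Matrix.transpose_mul, Matrix.mul_nonsing_inv _ hdA, Matrix.nonsing_inv_mul _ hdA]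
  let L : Module.End ℂ (Hs n F) := LinearMap.funLeft ℂ ℂ fun x => A *ᵥ x
  have hL : IsInt ψ ⟨_, hm⟩ L := by
    intro v
    apply LinearMap.ext
    intro h
    funext x
    show T ψ v h (A *ᵥ x) = T ψ _ (L h) x
    have eg : (⟨_, hm⟩ : Matrix.symplecticGroup (Fin n) F) • v = (fromBlocks Aᵀ 0 0 A⁻¹) *ᵥ v := rfl
    have eL : vL ((⟨_, hm⟩ : Matrix.symplecticGroup (Fin n) F) • v) = Aᵀ *ᵥ vL v := by
      rw [eg, fromBlocks_mulVec]; funext k
      simp [vL, Function.comp]
      rfl
    have eR : vR ((⟨_, hm⟩ : Matrix.symplecticGroup (Fin n) F) • v) = A⁻¹ *ᵥ vR v := by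
      rw [eg, fromBlocks_mulVec]; funext k
      simp [vR, Function.comp]
      rfl
    rw [T_apply, T_apply, eL, eR]
    show _ = _ * h (A *ᵥ (x + A⁻¹ *ᵥ vR v))
    have et : ∀ a b : Fin n → F, (Aᵀ *ᵥ a) ⬝ᵥ b = a ⬝ᵥ A *ᵥ b := fun a b => by
      rw [mulVec_transpose, dotProduct_mulVec]
    rw [et, et, mulVec_add, mulVec_mulVec, Matrix.mul_nonsing_inv _ hdA, one_mulVec]
  obtain ⟨d, hd⟩ := heig _ _ hL
  have d1 := congrFun hd w
  change f (A *ᵥ w) = d * f w at d1
  rw [eA] at d1
  have : f w = 0 := by_contra fun h => (hsupp w h).elim hw1 hw2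
  rw [this, mul_zero] at d1
  exact hx d1

end Weil

end H48
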