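import Mathlib
import Cfsg.Agent.H48.WeilRep

/-!
# Irreducibility of the odd Weil representation and minimality of its degree
-/

set_option autoImplicit false

namespace H48

open Matrix

variable {n : ℕ} {F : Type*} [Field F] [Fintype F] [DecidableEq F]

omit [DecidableEq F] in
theorem ringChar_complex_ne : ringChar ℂ ≠ ringChar F := by
  rw [show ringChar ℂ = 0 from ringChar.eq_zero]
  exact (CharP.ringChar_ne_zero_of_finite F).symm

omit [DecidableEq F] in
/-- Either the group acts trivially or the dimension is at least `(q^n-1)/2`. -/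
theorem trivial_or_ge (hodd : Odd (Fintype.card F)) (hn : 1 ≤ n) {M : Type*} [AddCommGroup M]
    [Module ℂ M] [FiniteDimensional ℂ M]
    (ρ : Representation ℂ (Matrix.symplecticGroup (Fin n) F) M) :
    (∀ g, ρ g = 1) ∨ Fintype.card F ^ n ≤ 2 * Module.finrank ℂ M + 1 := by
  by_cases h : ∃ B, ρ (radical B) ≠ 1
  · exact Or.inr (finrank_ge_of_radical ringChar_complex_ne hodd hn ρ h)
  · left
    simp only [not_exists, not_not] at h
    let φ := MonoidHom.toHomUnits ρ
    have : φ.ker = ⊤ := eq_top_of_radical_le hn φ.ker fun B => MonoidHom.mem_ker.2 (Units.ext (h B))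
    intro g
    exact congrArg Units.val (MonoidHom.mem_ker.1 (this ▸ Subgroup.mem_top g : g ∈ φ.ker))

omit [DecidableEq F] in
theorem degree_ge_of_irreducible (hodd : Odd (Fintype.card F)) (hn : 1 ≤ n) {k : ℕ}
    (ρ : Representation ℂ (Matrix.symplecticGroup (Fin n) F) (Fin k → ℂ)) (hρ : ρ.IsIrreducible)
    (hk : 2 ≤ k) : (Fintype.card F ^ n - 1) / 2 ≤ k := by
  rcases trivial_or_ge hodd hn ρ with h | h
  · exfalso
    set f : Fin k → ℂ := Pi.single ⟨0, by omega⟩ 1 with hf
    let σ : Subrepresentation ρ := ⟨Submodule.span ℂ {f}, fun g v hv => by rwa [h g]⟩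
    haveI : IsSimpleOrder (Subrepresentation ρ) := hρ
    rcases IsSimpleOrder.eq_bot_or_eq_top σ with hσ | hσ
    · have h1 : f ∈ σ.toSubmodule := Submodule.subset_span rfl
      rw [hσ] at h1
      have := congrFun ((Submodule.mem_bot ℂ).1 h1) ⟨0, by omega⟩
      simp [hf] at this
    · have e : Submodule.span ℂ {f} = (⊤ : Submodule ℂ (Fin k → ℂ)) := congrArg Subrepresentation.toSubmodule hσ
      have h1 := finrank_span_le_card (R := ℂ) ({f} : Set (Fin k → ℂ))
      rw [e, finrank_top, Module.finrank_fin_fun] at h1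
      simp at h1
      omega
  · rw [Module.finrank_fin_fun] at h
    omega

theorem exists_weil_irreducible (hodd : Odd (Fintype.card F)) (hn : 2 ≤ n) :
    ∃ ρ : Representation ℂ (Matrix.symplecticGroup (Fin n) F)
      (Fin ((Fintype.card F ^ n - 1) / 2) → ℂ), ρ.IsIrreducible := by
  obtain ⟨ψ, hψ⟩ := exists_psi (F := F) (K := ℂ) ringChar_complex_ne
  have h2 := (Weil.finrank_even_odd (n := n) (F := F) hodd).2
  set m := (Fintype.card F ^ n - 1) / 2 with hm
  have hfr : Module.finrank ℂ (Weil.oddSub : Submodule ℂ (Weil.Hs n F)) = Module.finrank ℂ (Fin m → ℂ) := by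
    rw [Module.finrank_fin_fun]; omega
  let e := LinearEquiv.ofFinrankEq _ _ hfr
  let ρ : Representation ℂ (Matrix.symplecticGroup (Fin n) F) (Fin m → ℂ) :=
    (e.conjAlgEquiv ℂ).toMulEquiv.toMonoidHom.comp (Weil.weilOdd hψ hodd)
  have hρ : ∀ g v, ρ g v = e (Weil.weilOdd hψ hodd g (e.symm v)) := fun g v => rfl
  have hq : 1 < Fintype.card F ^ n :=
    Nat.one_lt_pow (by omega) (Fintype.one_lt_card (α := F))
  haveI : Nontrivial (Subrepresentation ρ) := by
    refine ⟨⊥, ⊤, fun h => ?_⟩
    have h1 : (⊥ : Submodule ℂ (Fin m → ℂ)) = ⊤ := congrArg Subrepresentation.toSubmodule h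
    have := congrArg (fun U : Submodule ℂ (Fin m → ℂ) => Module.finrank ℂ U) h1
    simp only [finrank_bot, finrank_top, Module.finrank_fin_fun] at this
    omega
  refine ⟨ρ, ?_⟩
  show IsSimpleOrder (Subrepresentation ρ)
  refine ⟨fun σ => ?_⟩
  by_cases hbot : σ.toSubmodule = ⊥
  · exact Or.inl (Subrepresentation.toSubmodule_injective hbot)
  right
  apply Subrepresentation.toSubmodule_injective
  show σ.toSubmodule = ⊤
  rcases trivial_or_ge hodd (by omega) σ.toRepresentation with h | h
  · exfalso
    obtain ⟨v, hv, hv0⟩ := Submodule.exists_mem_ne_zero_of_ne_bot hbot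
    refine hv0 ?_
    have := Weil.weilOdd_no_fixed hψ hodd hn (e.symm v).2 fun g => by
      have h1 := congrArg Subtype.val (LinearMap.congr_fun (h g) ⟨v, hv⟩)
      change ρ g v = v at h1
      rw [hρ] at h1
      exact congrArg Subtype.val (e.injective (h1.trans (e.apply_symm_apply v).symm))
    exact e.symm.injective (Subtype.ext (by rw [this, map_zero]; rfl))
  · apply Submodule.eq_top_of_finrank_eq
    have := Submodule.finrank_le σ.toSubmodule
    rw [Module.finrank_fin_fun] at this ⊢
    omega

end H48
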