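import Mathlib
import Cfsg.Agent.H48.Simple
import Cfsg.Agent.H55.PSpField

/-!
# Orders of inner and inner-diagonal automorphism groups of `PSp`
-/

set_option autoImplicit false

namespace H48

variable {m : ℕ} {F : Type*} [Field F] [Fintype F]

theorem center_psp_eq_bot (hm : 2 ≤ m) (h22 : m = 2 → 3 ≤ Fintype.card F) :
    Subgroup.center (Cfsg.PSp m F) = ⊥ := by
  classical
  haveI : Nonempty (Fin m) := ⟨⟨0, by omega⟩⟩
  have h : 3 ≤ Fintype.card (Fin m) ∨ (2 ≤ Fintype.card (Fin m) ∧ 3 ≤ Fintype.card F) ∨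
      4 ≤ Fintype.card F := by
    rw [Fintype.card_fin]
    rcases Nat.lt_or_ge 2 m with hm3 | hm3
    · exact Or.inl hm3
    · exact Or.inr (Or.inl ⟨hm, h22 (by omega)⟩)
  haveI hsimple : IsSimpleGroup (Cfsg.PSp m F) := isSimpleGroup_psp h
  rcases hsimple.eq_bot_or_eq_top_of_normal _ (inferInstance : (Subgroup.center (Cfsg.PSp m F)).Normal) with hc | hc
  · exact hc
  · exfalso
    have hcom : commutator (Cfsg.PSp m F) = ⊥ := by
      rw [commutator_eq_bot_iff_center_eq_top]; exact hc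
    have hsur := QuotientGroup.mk'_surjective (Subgroup.center (Matrix.symplecticGroup (Fin m) F))
    have e : commutator (Cfsg.PSp m F) = ⊤ := by
      rw [commutator_def, ← Subgroup.map_top_of_surjective _ hsur, ← Subgroup.map_commutator,
        ← commutator_def, perfect h]
    rw [hcom] at e
    exact (bot_ne_top : (⊥ : Subgroup (Cfsg.PSp m F)) ≠ ⊤) e

theorem card_Inn_psp (hm : 2 ≤ m) (h22 : m = 2 → 3 ≤ Fintype.card F) :
    Nat.card (Cfsg.Inn (Cfsg.PSp m F)) = Nat.card (Cfsg.PSp m F) := by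
  refine (Nat.card_congr (MonoidHom.ofInjective (f := (MulAut.conj : Cfsg.PSp m F →* MulAut (Cfsg.PSp m F))) ?_).toEquiv).symm
  rw [injective_iff_map_eq_one]
  intro x hx
  rw [← Subgroup.mem_bot, ← center_psp_eq_bot hm h22, Subgroup.mem_center_iff]
  intro y
  have h := DFunLike.congr_fun hx y
  rw [MulAut.conj_apply, MulAut.one_apply, mul_inv_eq_iff_eq_mul] at h
  exact h.symm

theorem card_inndiag_psp (hm : 2 ≤ m) (h22 : m = 2 → 3 ≤ Fintype.card F) :
    Nat.card (H55.Psp.conjPs (m := m) (F := F)).range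
      = Nat.gcd 2 (Fintype.card F - 1) * Nat.card (Cfsg.PSp m F) := by
  classical
  have hm1 : 1 ≤ m := by omega
  set H : Subgroup (Cfsg.GSp m F) :=
    (powMonoidHom 2 : Fˣ →* Fˣ).range.comap (H55.Psp.mult (F := F) hm1)
  have hker : (H55.Psp.conjPs (m := m) (F := F)).ker ≤ H := by
    intro g hg
    obtain ⟨c, hc⟩ := (H55.Psp.conjPs_eq_one_iff hm1).1 hg
    refine ⟨c, ?_⟩
    rw [show g = H55.Psp.scG c from Subtype.ext hc, H55.Psp.mult_scG, powMonoidHom_apply, sq]
  have hsurj : Function.Surjective (H55.Psp.mult (F := F) (m := m) hm1) := fun c => by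
    obtain ⟨g, hg, -⟩ := H55.Psp.exists_mult (F := F) hm1 c
    exact ⟨g, hg⟩
  have h1 : H.index = Nat.gcd 2 (Fintype.card F - 1) := by
    rw [Subgroup.index_comap_of_surjective _ hsurj, IsCyclic.index_powMonoidHom_range,
      Nat.card_eq_fintype_card, Fintype.card_units, Nat.gcd_comm]
  rw [← Subgroup.index_ker, ← Subgroup.relIndex_mul_index hker, Subgroup.relIndex_ker,
    h1, ← H55.Psp.Inn_eq hm1, card_Inn_psp hm h22, mul_comm]

end H48
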