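import Mathlib
import Cfsg.Agent.H48.InnCard
import Cfsg.Agent.H49.Sp4Aut
import Cfsg.Agent.H55.GaloisCard
import Cfsg.Agent.H10.Basic

/-!
# Centralisers of field automorphisms of `PSp` and their `p'`-cores
-/

set_option autoImplicit false

namespace H48

namespace Balance

open Matrix
open H55.Psp (conjPs fieldPs psmk ptv KeepsTv SpG GG Mt)

variable {m : ℕ} {F : Type*} [Field F]

theorem map_J {K : Type*} [Field K] (f : K →+* F) :
    (Matrix.J (Fin m) K).map f = Matrix.J (Fin m) F := by
  simp [Matrix.J, fromBlocks_map, Matrix.map_neg f (map_neg f), Matrix.map_one f (map_zero f) (map_one f),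
    Matrix.map_zero f (map_zero f)]

/-- Base change `Sp(K) → Sp(F)`. -/
def baseSp {K : Type*} [Field K] (f : K →+* F) :
    SpG m K →* SpG m F where
  toFun s := ⟨(s : Mt m K).map f, by
    have h := SymplecticGroup.mem_iff.1 s.2
    rw [SymplecticGroup.mem_iff]
    have hJ : (Matrix.J (Fin m) K).map f = Matrix.J (Fin m) F := by
      simp [Matrix.J, fromBlocks_map, Matrix.map_neg f (map_neg f), Matrix.map_one f (map_zero f) (map_one f),
        Matrix.map_zero f (map_zero f)]
    rw [← hJ, ← transpose_map, ← Matrix.map_mul, ← Matrix.map_mul, h]⟩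
  map_one' := Subtype.ext (Matrix.map_one f (map_zero f) (map_one f))
  map_mul' s t := Subtype.ext (by simp [Matrix.map_mul])

theorem baseSp_injective {K : Type*} [Field K] (f : K →+* F) :
    Function.Injective (baseSp (m := m) f) := fun _ _ h =>
  Subtype.ext (Matrix.map_injective f.injective (congrArg Subtype.val h))

theorem baseSp_tv {K : Type*} [Field K] (f : K →+* F) (v : Fin m ⊕ Fin m → K) (c : K) :
    baseSp f (tv v c) = tv (fun i => f (v i)) (f c) := by
  apply Subtype.ext
  show (transMat v c).map f = transMat (fun i => f (v i)) (f c)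
  have hJ : (fun i => f ((Matrix.J (Fin m) K *ᵥ v) i)) = Matrix.J (Fin m) F *ᵥ fun i => f (v i) := by
    funext i
    rcases i with i | i <;> simp [Matrix.J, fromBlocks_mulVec, mulVec, dotProduct, map_sum, one_apply, apply_ite f]
  ext a b
  simp [transMat, vecMulVec, one_apply, apply_ite f, ← congrFun hJ b]

/-- Squares lie in the derived group of `Sp`. -/
theorem sq_mem_commutator [Fintype F] (hm : 2 ≤ m) (g : SpG m F) : g * g ∈ commutator (SpG m F) := by
  by_cases h : 3 ≤ Fintype.card F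
  · rw [perfect (Or.inr (Or.inl ⟨by rw [Fintype.card_fin]; exact hm, h⟩))]
    exact Subgroup.mem_top _
  · have h2 : (2 : F) = 0 := by
      have hc : Fintype.card F = 2 := by have := Fintype.one_lt_card (α := F); omega
      have := FiniteField.cast_card_eq_zero F
      rwa [hc] at this
    rw [← QuotientGroup.eq_one_iff]
    show Abelianization.of (g * g) = 1
    rw [_root_.map_mul]
    have hg : g ∈ transGroup (Fin m) F := transGroup_eq_top (l := Fin m) (F := F) ▸ Subgroup.mem_top g
    induction hg using Subgroup.closure_induction with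
    | mem x hx =>
      obtain ⟨v, c, hx⟩ := hx
      obtain rfl : x = tv v c := Subtype.ext hx
      rw [← _root_.map_mul, tv_mul, show c + c = 0 by rw [← two_mul, h2, zero_mul], tv_zero, _root_.map_one]
    | one => simp
    | mul x y _ _ hx hy => rw [_root_.map_mul, mul_mul_mul_comm, hx, hy, one_mul]
    | inv x _ hx => rw [map_inv, ← _root_.mul_inv_rev, hx, inv_one]

theorem card_GSp_dvd [Fintype F] (hm : 1 ≤ m) :
    Nat.card (Cfsg.GSp m F) = (Fintype.card F - 1) * Nat.card (SpG m F) := by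
  classical
  have hs : Function.Surjective (H55.Psp.mult (F := F) (m := m) hm) := fun c => by
    obtain ⟨g, hg, -⟩ := H55.Psp.exists_mult (F := F) hm c
    exact ⟨g, hg⟩
  have e : (H55.Psp.mult (F := F) (m := m) hm).ker = (H55.Psp.toGSp (m := m) (F := F)).range := by
    apply le_antisymm
    · intro g hg
      have h1 : H55.Psp.mult hm g = 1 := hg
      refine ⟨⟨((g : GG m F) : Mt m F), H48.mem_symplectic_iff.2 fun u v => ?_⟩, Subtype.ext (Units.ext rfl)⟩
      rw [H55.Psp.mult_spec hm, h1, Units.val_one, one_mul]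
    · rintro _ ⟨s, rfl⟩
      exact H55.Psp.mult_eq hm fun u v => by
        rw [Units.val_one, one_mul]
        exact H48.mem_symplectic_iff.1 s.2 u v
  have hinj : Function.Injective (H55.Psp.toGSp (m := m) (F := F)) := fun a b h =>
    Subtype.ext (congrArg (fun g : Cfsg.GSp m F => ((g : GG m F) : Mt m F)) h)
  have h1 := (H55.Psp.mult (F := F) (m := m) hm).ker.index_mul_card
  rw [Subgroup.index_ker, MonoidHom.range_eq_top.2 hs, Subgroup.card_top, Nat.card_eq_fintype_card,
    Fintype.card_units, e] at h1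
  rw [← h1, ← Nat.card_congr (MonoidHom.ofInjective hinj).toEquiv]

theorem card_sub_one_dvd [Fintype F] (hm : 1 ≤ m) : Fintype.card F - 1 ∣ Nat.card (SpG m F) := by
  classical
  rw [card_sp, Fintype.card_fin]
  refine Dvd.dvd.mul_left (Dvd.dvd.trans ?_ (Finset.dvd_prod_of_mem _ (Finset.mem_range.2 hm))) _
  have : Fintype.card F ^ (2 * (0 + 1)) - 1 = (Fintype.card F + 1) * (Fintype.card F - 1) := by
    rw [← Nat.sq_sub_sq, one_pow]
  exact this ▸ dvd_mul_left _ _

variable [Fintype F]

/-- Automorphisms of `F` fixing a subfield of index of degree `p` have order dividing `p`. -/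
theorem pow_eq_one_of_fix {p : ℕ} [Fact p.Prime] {σ τ : F ≃+* F} (hσ : orderOf σ = p)
    (hτ : ∀ a, σ a = a → τ a = a) : τ ^ p = 1 := by
  classical
  haveI : Finite (F ≃+* F) := Finite.of_injective _ DFunLike.coe_injective
  set K := H55.fixF σ
  haveI : Fintype K := Fintype.ofFinite _
  let T : Subgroup (F ≃+* F) :=
    { carrier := {g | ∀ a ∈ K, g a = a}
      mul_mem' := fun {g h} hg hh a ha => by
        show g (h a) = a
        rw [hh a ha, hg a ha]
      one_mem' := fun a _ => rfl
      inv_mem' := fun {g} hg a ha => by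
        show g.symm a = a
        rw [RingEquiv.symm_apply_eq, hg a ha] }
  have hfr : Module.finrank K F = p := by
    have h1 : Nat.card F = Nat.card K ^ Module.finrank K F := Module.natCard_eq_pow_finrank
    have h2 := H55.card_fixF σ
    rw [hσ] at h2
    exact (Nat.pow_right_injective (Finite.one_lt_card) (h1.symm.trans h2))
  have hT : Nat.card T ≤ p := by
    rw [← hfr]
    let e : T → (F ≃ₐ[K] F) := fun g =>
      AlgEquiv.ofRingEquiv (f := g.1) fun a => g.2 _ a.2
    have he : Function.Injective e := fun g h hgh => Subtype.ext (RingEquiv.ext fun x =>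
      DFunLike.congr_fun hgh x)
    refine (Nat.card_le_card_of_injective e he).trans ?_
    rw [Nat.card_eq_fintype_card]
    exact AlgEquiv.card_le
  have hσT : σ ∈ T := fun a ha => ha
  have hTp : Nat.card T = p := by
    refine le_antisymm hT (Nat.le_of_dvd Nat.card_pos ?_)
    rw [← hσ, ← Nat.card_zpowers]
    exact Subgroup.card_dvd_of_le (Subgroup.zpowers_le.2 hσT)
  have h1 : (⟨τ, hτ⟩ : T) ^ p = 1 := hTp ▸ pow_card_eq_one'
  exact congrArg Subtype.val h1

/-- An automorphism centralising the subfield group is a field automorphism fixing the subfield. -/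
theorem exists_field_of_fixes (hm : 2 ≤ m) {r : ℕ} [Fact r.Prime] [CharP F r] {σ : F ≃+* F}
    {α : MulAut (Cfsg.PSp m F)}
    (hα : ∀ s : SpG m (H55.fixF σ), α (psmk (baseSp (H55.fixF σ).subtype s)) = psmk (baseSp (H55.fixF σ).subtype s)) :
    ∃ τ : F ≃+* F, (∀ a, σ a = a → τ a = a) ∧ α = fieldPs τ := by
  classical
  haveI : Nonempty (Fin m) := ⟨⟨0, by omega⟩⟩
  set K := H55.fixF σ
  have hfix : ∀ (v : Fin m ⊕ Fin m → K),
      α (ptv (fun i => (v i : F)) 1) = ptv (fun i => (v i : F)) 1 := by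
    intro v
    have := hα (tv v 1)
    rwa [baseSp_tv, map_one] at this
  have hk : KeepsTv α ∧ KeepsTv α⁻¹ := by
    by_cases h4 : m = 2 → r ≠ 2
    · exact ⟨H55.Psp.keepsTv (p := r) hm h4 α, H55.Psp.keepsTv (p := r) hm h4 α⁻¹⟩
    · obtain ⟨rfl, rfl⟩ : m = 2 ∧ r = 2 := by
        simp only [Classical.not_imp, not_not] at h4; exact h4
      have hl : H49.Sp4.Long (α H49.Sp4.baseTv) := by
        have e : (fun i => ((lagr (F := K) (0 : Fin 2) i : K) : F)) = lagr (0 : Fin 2) := by
          funext i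
          rcases i with i | i <;> simp [lagr, Pi.single_apply, apply_ite (Subtype.val : K → F)]
        have h1 := hfix (lagr (0 : Fin 2))
        rw [e] at h1
        show H49.Sp4.Long (α (ptv (lagr (0 : Fin 2)) 1))
        rw [h1]
        exact H49.Sp4.long_base
      have := H49.Sp4.keepsTv_of_base hl
      exact ⟨this, H49.Sp4.keepsTv_inv this⟩
  obtain ⟨g, τ, rfl⟩ := H55.Psp.exists_induced hm α hk.1 hk.2
  have hline : ∀ v : Fin m ⊕ Fin m → K, v ≠ 0 → ∃ c : F,
      ((g : GG m F) : Mt m F) *ᵥ (fun i => τ (v i : F)) = c • fun i => (v i : F) := by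
    intro v hv
    have hv' : (fun i => (v i : F)) ≠ 0 := fun h => hv (funext fun i => Subtype.ext (congrFun h i))
    obtain ⟨d, hd, e⟩ := H55.Psp.induced_ptv g τ (fun i => (v i : F)) one_ne_zero
    rw [hfix v] at e
    obtain ⟨c, hc, hc'⟩ := H55.Psp.prop_of_ptv_eq (by omega) hv' one_ne_zero e
    exact ⟨c⁻¹, by rw [hc', smul_smul, inv_mul_cancel₀ hc, one_smul]⟩
  -- columns
  have hcol : ∀ i, ∃ c : F, ∀ a, ((g : GG m F) : Mt m F) a i = if a = i then c else 0 := by
    intro i
    obtain ⟨c, hc⟩ := hline (Pi.single i 1) (by simp)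
    refine ⟨c, fun a => ?_⟩
    have e : (fun j => τ ((Pi.single i (1 : K) : _ → K) j : F)) = Pi.single i 1 := by
      funext j; rcases eq_or_ne j i with rfl | h <;> simp_all
    rw [e] at hc
    have := congrFun hc a
    simp [Matrix.mulVec_single] at this
    rw [this]
    rcases eq_or_ne a i with rfl | h <;> simp_all
  choose l hl using hcol
  have hpair : ∀ i j, i ≠ j → ∀ a : K, l j ≠ 0 → τ (a : F) * l i = (a : F) * l j := by
    intro i j hij a _
    obtain ⟨c, hc⟩ := hline (Pi.single i a + Pi.single j 1) (fun h => by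
      have := congrFun h j; simp [hij.symm] at this)
    have e : (fun k => τ (((Pi.single i a + Pi.single j 1 : _ → K)) k : F)) =
        Pi.single i (τ (a : F)) + Pi.single j 1 := by
      funext k
      rcases eq_or_ne k i with rfl | h
      · simp [hij]
      · rcases eq_or_ne k j with rfl | h' <;> simp_all
    rw [e] at hc
    have hi := congrFun hc i
    have hj := congrFun hc j
    simp [Matrix.mulVec_add, Matrix.mulVec_single, hl, hij, hij.symm] at hi hj
    rw [← hj] at hi
    linear_combination hi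
  have hl0 : ∀ i, l i ≠ 0 := by
    intro i h0
    have hdet : ((g : GG m F) : Mt m F).det ≠ 0 :=
      (Matrix.isUnit_iff_isUnit_det _ |>.1 ⟨(g : GG m F), rfl⟩).ne_zero
    exact hdet (Matrix.det_eq_zero_of_column_eq_zero i fun a => by rw [hl]; split_ifs <;> simp [h0])
  set i₀ : Fin m ⊕ Fin m := Sum.inl ⟨0, by omega⟩
  have hall : ∀ i, l i = l i₀ := by
    intro i
    rcases eq_or_ne i i₀ with rfl | h
    · rfl
    · have := hpair i i₀ h 1 (hl0 _)
      simpa using this
  have hτ : ∀ a, σ a = a → τ a = a := by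
    intro a ha
    have := hpair (Sum.inr ⟨0, by omega⟩) i₀ (by simp [i₀]) ⟨a, ha⟩ (hl0 _)
    rw [hall] at this
    exact mul_right_cancel₀ (hl0 i₀) this
  refine ⟨τ, hτ, ?_⟩
  have hg : conjPs g = 1 := (H55.Psp.conjPs_eq_one_iff (by omega)).2 ⟨Units.mk0 (l i₀) (hl0 _), by
    apply Units.ext
    ext a b
    rw [hl, GeneralLinearGroup.coe_scalar, scalar_apply, hall]
    simp [diagonal_apply]⟩
  rw [hg, one_mul]

theorem conjPs_conj (α : MulAut (Cfsg.PSp m F)) (y : Cfsg.PSp m F) :
    α * MulAut.conj y * α⁻¹ = MulAut.conj (α y) := by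
  apply MulEquiv.ext
  intro z
  show α (y * α⁻¹ z * y⁻¹) = α y * z * (α y)⁻¹
  rw [_root_.map_mul, _root_.map_mul, map_inv, show α (α⁻¹ z) = z from α.apply_symm_apply z]

theorem conj_injective (hm : 2 ≤ m) (h22 : m = 2 → 3 ≤ Fintype.card F) :
    Function.Injective (MulAut.conj : Cfsg.PSp m F →* MulAut (Cfsg.PSp m F)) := by
  rw [injective_iff_map_eq_one]
  intro x hx
  rw [← Subgroup.mem_bot, ← center_psp_eq_bot hm h22, Subgroup.mem_center_iff]
  intro y
  have h := DFunLike.congr_fun hx y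
  rw [MulAut.conj_apply, MulAut.one_apply, mul_inv_eq_iff_eq_mul] at h
  exact h.symm

/-- The `p'`-core of the centraliser of a standard field automorphism of order `p`. -/
theorem core_ne_bot_iff (hm : 2 ≤ m) (h22 : m = 2 → 3 ≤ Fintype.card F) {r : ℕ} [Fact r.Prime]
    [CharP F r] {p : ℕ} [Fact p.Prime] (hpr : p ≠ r) {σ : F ≃+* F} (hσ : orderOf σ = p)
    (A : Subgroup (MulAut (Cfsg.PSp m F))) (hinn : ∀ k, MulAut.conj k ∈ A) :
    Cfsg.pPrimeCore p ↥(A ⊓ Subgroup.centralizer {fieldPs σ}) ≠ ⊥ ↔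
      Nat.Coprime p (Nat.card ↥(MonoidHom.eqLocus (fieldPs σ : MulAut (Cfsg.PSp m F)).toMonoidHom
        (MonoidHom.id (Cfsg.PSp m F)))) := by
  classical
  haveI : Nonempty (Fin m) := ⟨⟨0, by omega⟩⟩
  set φ : MulAut (Cfsg.PSp m F) := fieldPs σ with hφ
  set D := A ⊓ Subgroup.centralizer {φ} with hD
  set L := Cfsg.Inn (Cfsg.PSp m F) ⊓ Subgroup.centralizer {φ} with hL
  set K := H55.fixF σ
  haveI : Fintype K := Fintype.ofFinite _
  let Φ : SpG m K →* MulAut (Cfsg.PSp m F) := MulAut.conj.comp (psmk.comp (baseSp K.subtype))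
  have hconjφ : ∀ y, MulAut.conj y ∈ Subgroup.centralizer ({φ} : Set (MulAut (Cfsg.PSp m F))) ↔ φ y = y := by
    intro y
    rw [Subgroup.mem_centralizer_singleton_iff]
    constructor
    · intro h
      apply conj_injective hm h22
      rw [← conjPs_conj, ← h, mul_inv_cancel_right]
    · intro h
      conv_lhs => rw [← h, ← conjPs_conj, inv_mul_cancel_right]
  have hLD : L ≤ D := by
    rintro _ ⟨⟨y, rfl⟩, hc⟩
    exact ⟨hinn y, hc⟩
  have hΦL : ∀ s, Φ s ∈ L := by
    intro s
    refine ⟨⟨_, rfl⟩, (hconjφ _).2 ?_⟩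
    show psmk (H55.Psp.fieldSp σ (baseSp K.subtype s)) = psmk (baseSp K.subtype s)
    congr 1
    apply Subtype.ext
    ext i j
    exact ((s : Mt m K) i j).2
  have hcardL : Nat.card L = Nat.card ↥(MonoidHom.eqLocus φ.toMonoidHom (MonoidHom.id (Cfsg.PSp m F))) := by
    symm
    refine Nat.card_eq_of_bijective (fun y => (⟨MulAut.conj y.1, ⟨y.1, rfl⟩, (hconjφ _).2 y.2⟩ : L)) ⟨?_, ?_⟩
    · intro a b h
      exact Subtype.ext (conj_injective hm h22 (congrArg Subtype.val h))
    · rintro ⟨_, ⟨y, rfl⟩, hc⟩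
      exact ⟨⟨y, (hconjφ y).1 hc⟩, rfl⟩
  have hLn : (L.subgroupOf D).Normal := by
    refine ⟨fun a ha g => ?_⟩
    rw [Subgroup.mem_subgroupOf] at ha ⊢
    rw [Subgroup.coe_mul, Subgroup.coe_mul, Subgroup.coe_inv]
    exact ⟨(Cfsg.innNormal _).conj_mem _ ha.1 _,
      (Subgroup.centralizer {φ}).mul_mem ((Subgroup.centralizer {φ}).mul_mem g.2.2 ha.2) ((Subgroup.centralizer {φ}).inv_mem g.2.2)⟩
  have hker : ∀ s, Φ s = 1 → s ∈ Subgroup.center (SpG m K) := by
    intro s hs
    have h1 : psmk (baseSp K.subtype s) = 1 := conj_injective hm h22 (by rw [_root_.map_one]; exact hs)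
    rw [H55.Psp.psmk_eq_one_iff, Subgroup.mem_center_iff] at h1
    rw [Subgroup.mem_center_iff]
    intro t
    apply baseSp_injective K.subtype
    rw [_root_.map_mul, _root_.map_mul, h1]
  have hcen : ∀ s ∈ Subgroup.center (SpG m K), Φ s = 1 := by
    intro s hs
    obtain ⟨a, -, ha⟩ := (mem_center_iff s).1 hs
    have hmat : (s : Mt m K) = a • (1 : Mt m K) := Matrix.ext_iff_mulVec.2 fun v => by
      rw [smul_mulVec, one_mulVec]; exact ha v
    have h1 : psmk (baseSp K.subtype s) = 1 := by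
      rw [H55.Psp.psmk_eq_one_iff, Subgroup.mem_center_iff]
      intro t
      apply Subtype.ext
      show (t : Mt m F) * (s : Mt m K).map K.subtype = (s : Mt m K).map K.subtype * (t : Mt m F)
      have : (s : Mt m K).map K.subtype = (a : F) • (1 : Mt m F) := by
        rw [hmat]; ext i j; rcases eq_or_ne i j with rfl | h <;> simp_all
      rw [this, Matrix.mul_smul, Matrix.smul_mul, Matrix.mul_one, Matrix.one_mul]
    show MulAut.conj (psmk (baseSp K.subtype s)) = 1
    rw [h1, _root_.map_one]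
  constructor
  swap
  · intro hcop
    have hle : L.subgroupOf D ≤ Cfsg.pPrimeCore p D := H10.le_pPrimeCore hLn (by
      rw [Nat.card_congr (Subgroup.subgroupOfEquivOfLe hLD).toEquiv, hcardL]
      exact hcop.symm)
    intro hbot
    rw [hbot, le_bot_iff, Subgroup.subgroupOf_eq_bot, disjoint_iff, inf_eq_left.2 hLD] at hle
    obtain ⟨B, hB⟩ : ∃ s : SpG m K, s ∉ Subgroup.center (SpG m K) := by
      refine ⟨tv (Pi.single (Sum.inl ⟨0, by omega⟩) 1) 1, fun h => ?_⟩
      obtain ⟨a, -, ha⟩ := (mem_center_iff _).1 h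
      have h2 := congrFun (ha (Pi.single (Sum.inr ⟨0, by omega⟩) 1)) (Sum.inl ⟨0, by omega⟩)
      simp [sf_apply, Pi.single_apply] at h2
    exact hB (hker _ (Subgroup.mem_bot.1 (hle ▸ hΦL B)))
  · intro hne
    by_contra hcop
    apply hne
    have hp : p ∣ Nat.card L := hcardL ▸ (Fact.out : p.Prime).dvd_iff_not_coprime.2 hcop
    have hrK : ringChar K = r := (Algebra.ringChar_eq K F).trans (ringChar.eq F r)
    have hpsp : p ∣ Nat.card (SpG m K) := by
      obtain ⟨e⟩ := H55.Psp.centralizer_fieldPs (m := m) (by omega : 1 ≤ m) (σ := σ) (RingEquiv.refl K)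
      have hLle : L ≤ Cfsg.inndiagPSp m F ⊓ Subgroup.centralizer {φ} := fun y hy =>
        ⟨H55.Psp.inndiagPSp_eq_range (m := m) (F := F) ▸ H55.Psp.Inn_le hy.1, hy.2⟩
      have h1 := hp.trans (Subgroup.card_dvd_of_le hLle)
      rw [Nat.card_congr e.toEquiv] at h1
      have h2 : p ∣ Nat.card (Cfsg.GSp m K) := h1.trans (Subgroup.card_quotient_dvd_card _)
      rw [card_GSp_dvd (by omega)] at h2
      rcases ((Fact.out : p.Prime).dvd_mul).1 h2 with h3 | h3
      · exact h3.trans (card_sub_one_dvd (by omega))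
      · exact h3
    set N := (Cfsg.pPrimeCore p D).map D.subtype with hN
    have hNcop : (Nat.card N).Coprime p :=
      Nat.Coprime.coprime_dvd_left (Subgroup.card_map_dvd _ _) H10.pPrimeCore_coprime
    have hNconj : ∀ d ∈ D, ∀ x ∈ N, d * x * d⁻¹ ∈ N := by
      rintro d hd _ ⟨x, hx, rfl⟩
      exact ⟨⟨d, hd⟩ * x * ⟨d, hd⟩⁻¹, H10.pPrimeCore_normal.conj_mem _ hx _, rfl⟩
    have hLconj : ∀ d ∈ D, ∀ x ∈ L, d * x * d⁻¹ ∈ L := fun d hd x hx =>
      hLn.conj_mem ⟨x, hLD hx⟩ hx ⟨d, hd⟩
    set M := N ⊓ L with hM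
    have hMcop : (Nat.card M).Coprime p :=
      Nat.Coprime.coprime_dvd_left (Subgroup.card_dvd_of_le inf_le_left) hNcop
    have hpM : ∀ x ∈ M, x ^ p = 1 → x = 1 := by
      intro x hx h1
      have h2 : orderOf x ∣ Nat.card M := by
        rw [← Nat.card_zpowers]; exact Subgroup.card_dvd_of_le (Subgroup.zpowers_le.2 hx)
      exact orderOf_eq_one_iff.1 (Nat.eq_one_of_dvd_coprimes hMcop h2 (orderOf_dvd_of_pow_eq_one h1))
    -- the intersection with the subfield group
    have hrange : ∀ s, Φ s ∈ M → Φ s = 1 := by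
      set P := M.comap Φ with hP
      haveI : P.Normal := ⟨fun s hs t => by
        rw [hP, Subgroup.mem_comap] at hs ⊢
        rw [_root_.map_mul, _root_.map_mul, map_inv]
        exact ⟨hNconj _ (hLD (hΦL t)) _ hs.1, hLconj _ (hLD (hΦL t)) _ hs.2⟩⟩
      rcases normal_le_center_or P with h | h
      · exact fun s hs => hcen s (h hs)
      exfalso
      by_cases hp2 : p = 2
      · subst hp2
        have hK3 : 3 ≤ Fintype.card K := by
          have h1 := Fintype.one_lt_card (α := K)
          by_contra h3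
          have hc : Fintype.card K = 2 := by omega
          have h20 : (2 : K) = 0 := by
            have := FiniteField.cast_card_eq_zero K
            rwa [hc] at this
          exact hpr (hrK ▸ (CharP.ringChar_of_prime_eq_zero Nat.prime_two (by exact_mod_cast h20)).symm)
        let J : SpG m K := ⟨Matrix.J (Fin m) K, SymplecticGroup.J_mem _ _⟩
        have hJ : Φ J ∈ M := h (by
          rw [perfect (Or.inr (Or.inl ⟨by rw [Fintype.card_fin]; exact hm, hK3⟩))]; exact Subgroup.mem_top _)
        have hJ2 : J ^ 2 ∈ Subgroup.center (SpG m K) := by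
          rw [Subgroup.mem_center_iff]
          intro t
          apply Subtype.ext
          rw [sq]
          show (t : Mt m K) * (Matrix.J (Fin m) K * Matrix.J (Fin m) K) = (Matrix.J (Fin m) K * Matrix.J (Fin m) K) * (t : Mt m K)
          rw [Matrix.J_squared]; simp
        have hc : J ∈ Subgroup.center (SpG m K) :=
          hker J (hpM _ hJ (by rw [← map_pow]; exact hcen _ hJ2))
        obtain ⟨a, -, ha⟩ := (mem_center_iff _).1 hc
        have h2 := congrFun (ha (Pi.single (Sum.inl ⟨0, by omega⟩) 1)) (Sum.inr ⟨0, by omega⟩)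
        change (Matrix.J (Fin m) K *ᵥ Pi.single _ 1) _ = _ at h2
        simp [Matrix.J, Matrix.mulVec_single] at h2
      · obtain ⟨s, hs⟩ := exists_prime_orderOf_dvd_card' p hpsp
        have hodd : Odd p := (Fact.out : p.Prime).odd_of_ne_two hp2
        obtain ⟨k, hk⟩ := hodd
        have hsc : s ∈ commutator (SpG m K) := by
          have e : s ^ (k + 1) * s ^ (k + 1) = s := by
            rw [← pow_add, show k + 1 + (k + 1) = p + 1 by omega, pow_succ, ← hs, pow_orderOf_eq_one, one_mul]
          rw [← e]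
          exact sq_mem_commutator hm _
        have hs1 : Φ s = 1 := hpM _ (h hsc) (by rw [← map_pow, ← hs, pow_orderOf_eq_one, _root_.map_one])
        obtain ⟨a, ha2, ha⟩ := (mem_center_iff s).1 (hker s hs1)
        have h2 : s ^ 2 = 1 := sp_ext fun v => by rw [sq, mul_smul, ha, ha, smul_smul, ha2, one_smul, one_smul]
        have h3 := Nat.le_of_dvd (by norm_num) (orderOf_dvd_of_pow_eq_one h2)
        have := (Fact.out : p.Prime).two_le
        omega
    have hnormal : ∀ y ∈ L, ∀ s, ∃ t, y * Φ s * y⁻¹ = Φ t := by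
      intro y hy s
      obtain ⟨g, hg⟩ := H55.Psp.Inn_le hy.1
      have hgC : g ∈ H55.preCentralizer conjPs (fieldPs σ) := by
        show conjPs g ∈ Subgroup.centralizer {φ}
        rw [hg]; exact hy.2
      obtain ⟨c, h', hh, rfl⟩ := (H55.Psp.preCentralizer_fieldPs (by omega)).1 hgC
      rw [_root_.map_mul, H55.Psp.conjPs_scG, one_mul] at hg
      set u := H55.Psp.conjSp h' (baseSp K.subtype s) with hu
      have hinv : ((h' : GG m F)⁻¹ : GG m F) = H55.mapGLι σ ((h' : GG m F)⁻¹) := by rw [map_inv, hh]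
      have hu' : ∀ i j, σ ((u : Mt m F) i j) = (u : Mt m F) i j := by
        have e : (u : Mt m F).map σ = (u : Mt m F) := by
          rw [hu, H55.Psp.coe_conjSp, Matrix.map_mul, Matrix.map_mul]
          have e1 : ((h' : GG m F) : Mt m F).map σ = ((h' : GG m F) : Mt m F) := congrArg Units.val hh
          have e2 : (((h' : GG m F)⁻¹ : GG m F) : Mt m F).map σ = (((h' : GG m F)⁻¹ : GG m F) : Mt m F) :=
            congrArg Units.val hinv.symm
          have e3 : ((baseSp K.subtype s : SpG m F) : Mt m F).map σ = ((baseSp K.subtype s : SpG m F) : Mt m F) := by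
            ext i j
            exact ((s : Mt m K) i j).2
          rw [e1, e2, e3]
        exact fun i j => congrFun (congrFun e i) j
      let t : SpG m K := ⟨Matrix.of fun i j => ⟨(u : Mt m F) i j, hu' i j⟩, by
        apply SymplecticGroup.mem_iff.2
        apply Matrix.map_injective K.subtype.injective
        beta_reduce
        rw [Matrix.map_mul, Matrix.map_mul, transpose_map, map_J K.subtype]
        exact SymplecticGroup.mem_iff.1 u.2⟩
      refine ⟨t, ?_⟩
      show y * MulAut.conj (psmk (baseSp K.subtype s)) * y⁻¹ = MulAut.conj (psmk (baseSp K.subtype t))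
      rw [conjPs_conj, ← hg]
      have ht : baseSp K.subtype t = u := Subtype.ext (by ext i j; rfl)
      rw [ht]
      rfl
    -- elements commuting with the subfield group
    have hfield : ∀ n, (∀ s, n * Φ s * n⁻¹ = Φ s) → ∃ τ : F ≃+* F, (∀ a, σ a = a → τ a = a) ∧ n = fieldPs τ := by
      intro n hn
      refine exists_field_of_fixes (r := r) hm fun s => ?_
      apply conj_injective hm h22
      rw [← conjPs_conj]
      exact hn s
    have hMbot : ∀ y ∈ M, y = 1 := by
      intro y hy
      have hc : ∀ s, y * Φ s * y⁻¹ = Φ s := by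
        intro s
        obtain ⟨t, ht⟩ := hnormal y hy.2 s
        have h1 : Φ (t * s⁻¹) ∈ M := by
          rw [_root_.map_mul, map_inv, ← ht]
          have e : y * Φ s * y⁻¹ * (Φ s)⁻¹ = y * (Φ s * y⁻¹ * (Φ s)⁻¹) := by group
          rw [e]
          exact M.mul_mem hy ⟨hNconj _ (hLD (hΦL s)) _ (N.inv_mem hy.1), hLconj _ (hLD (hΦL s)) _ (L.inv_mem hy.2)⟩
        have h2 := hrange _ h1
        rw [_root_.map_mul, map_inv, mul_inv_eq_one] at h2
        rw [ht, h2]
      obtain ⟨τ, -, rfl⟩ := hfield y hc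
      obtain ⟨g, hg⟩ := H55.Psp.Inn_le hy.2.1
      rw [(H55.Psp.conjPs_eq_fieldPs (by omega) hg).1, show (RingEquiv.refl F : F ≃+* F) = 1 from rfl,
        _root_.map_one]
    rw [eq_bot_iff]
    intro x hx
    rw [Subgroup.mem_bot]
    have hxN : (x : MulAut (Cfsg.PSp m F)) ∈ N := ⟨x, hx, rfl⟩
    have hc : ∀ s, (x : MulAut (Cfsg.PSp m F)) * Φ s * (x : MulAut (Cfsg.PSp m F))⁻¹ = Φ s := by
      intro s
      have h1 : (x : MulAut (Cfsg.PSp m F)) * Φ s * (x : MulAut (Cfsg.PSp m F))⁻¹ * (Φ s)⁻¹ ∈ M := by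
        refine ⟨?_, L.mul_mem (hLconj _ x.2 _ (hΦL s)) (L.inv_mem (hΦL s))⟩
        have e : (x : MulAut (Cfsg.PSp m F)) * Φ s * (x : MulAut (Cfsg.PSp m F))⁻¹ * (Φ s)⁻¹
            = (x : MulAut (Cfsg.PSp m F)) * (Φ s * (x : MulAut (Cfsg.PSp m F))⁻¹ * (Φ s)⁻¹) := by group
        rw [e]
        exact N.mul_mem hxN (hNconj _ (hLD (hΦL s)) _ (N.inv_mem hxN))
      exact mul_inv_eq_one.1 (hMbot _ h1)
    obtain ⟨τ, hτ, he⟩ := hfield _ hc
    have hpow : (x : MulAut (Cfsg.PSp m F)) ^ p = 1 := by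
      rw [he, ← map_pow, pow_eq_one_of_fix hσ hτ, _root_.map_one]
    have h2 : orderOf (x : MulAut (Cfsg.PSp m F)) ∣ Nat.card N := by
      rw [← Nat.card_zpowers]; exact Subgroup.card_dvd_of_le (Subgroup.zpowers_le.2 hxN)
    exact Subtype.ext (orderOf_eq_one_iff.1
      (Nat.eq_one_of_dvd_coprimes hNcop h2 (orderOf_dvd_of_pow_eq_one hpow)))

/-- An automorphism of prime order `p ≠ r` that is not inner-diagonal is conjugate to a field one. -/
theorem exists_normal_form (hm : 2 ≤ m) {r : ℕ} [Fact r.Prime] [CharP F r] {p : ℕ} [Fact p.Prime]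
    (hpr : p ≠ r) (x : MulAut (Cfsg.PSp m F)) (hord : orderOf x = p)
    (hnot : ¬ Cfsg.IsInnerDiagonalAutPSp x) :
    ∃ (σ : F ≃+* F) (k : Cfsg.GSp m F), orderOf σ = p ∧ x = conjPs k * fieldPs σ * (conjPs k)⁻¹ := by
  have hxp : x ^ p = 1 := by rw [← hord, pow_orderOf_eq_one]
  have hdec : ∃ (g : Cfsg.GSp m F) (σ : F ≃+* F), x = conjPs g * fieldPs σ := by
    by_cases h4 : m = 2 → r ≠ 2
    · exact H55.Psp.aut_PSp (p := r) hm h4 x
    · obtain ⟨rfl, rfl⟩ : m = 2 ∧ r = 2 := by
        simp only [Classical.not_imp, not_not] at h4; exact h4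
      -- `x` is a power of its square
      have hp2 : p % 2 = 1 := Nat.odd_iff.1 ((Fact.out : p.Prime).odd_of_ne_two hpr)
      have hgood : ∀ δ : MulAut (Cfsg.PSp 2 F),
          KeepsTv δ ∨ KeepsTv (H49.Sp4.tauPs⁻¹ * δ) := fun δ => by
        rcases H49.Sp4.long_or_short ((H55.Psp.isGood_map (p := 2) (N := Fintype.card F ^ (2 * 2) - 1) δ _).2
          (H55.Psp.isGood_ptv (by omega) (H49.Sp4.lagr_ne_zero 0) one_ne_zero)) with h | h
        · exact Or.inl (H49.Sp4.keepsTv_of_base h)
        · exact Or.inr (H49.Sp4.keepsTv_of_base h)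
      have hk : KeepsTv (x * x) := by
        rcases hgood x with h | hγ
        · exact H49.Sp4.keepsTv_mul h h
        set γ := H49.Sp4.tauPs⁻¹ * x with hγd
        have hc : KeepsTv (H49.Sp4.tauPs * γ * H49.Sp4.tauPs⁻¹) := by
          rcases hgood (H49.Sp4.tauPs * γ * H49.Sp4.tauPs⁻¹) with h | h
          · exact h
          · exfalso
            apply H49.Sp4.not_keepsTv_tauPs (F := F)
            have e : (H49.Sp4.tauPs : MulAut (Cfsg.PSp 2 F))
                = (γ⁻¹ * (H49.Sp4.tauPs⁻¹ * (H49.Sp4.tauPs * γ * H49.Sp4.tauPs⁻¹)))⁻¹ := by group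
            rw [e]
            exact H49.Sp4.keepsTv_inv (H49.Sp4.keepsTv_mul (H49.Sp4.keepsTv_inv hγ) h)
        have e : x * x = (H49.Sp4.tauPs * γ * H49.Sp4.tauPs⁻¹) * ((H49.Sp4.tauPs * H49.Sp4.tauPs) * γ) := by
          rw [hγd]; group
        rw [e, H49.Sp4.tauPs_sq]
        refine H49.Sp4.keepsTv_mul hc (H49.Sp4.keepsTv_mul ?_ hγ)
        simpa using H49.Sp4.keepsTv_induced 1 H49.Sp4.frobF
      have hxk : KeepsTv x ∧ KeepsTv x⁻¹ := by
        obtain ⟨j, hj⟩ : ∃ j, p = 2 * j + 1 := ⟨p / 2, by omega⟩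
        have hpow : ∀ i, KeepsTv ((x * x) ^ i) := by
          intro i
          induction i with
          | zero => simpa using H49.Sp4.keepsTv_induced (1 : Cfsg.GSp 2 F) 1
          | succ i ih => rw [pow_succ]; exact H49.Sp4.keepsTv_mul ih hk
        have e : x = (x * x) ^ (j + 1) := by
          rw [← sq, ← pow_mul, show 2 * (j + 1) = p + 1 by omega, pow_succ, hxp, one_mul]
        have := hpow (j + 1)
        rw [← e] at this
        exact ⟨this, H49.Sp4.keepsTv_inv this⟩
      exact H55.Psp.exists_induced le_rfl x hxk.1 hxk.2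
  obtain ⟨g, σ, rfl⟩ := hdec
  have hσ : σ ≠ 1 := by
    rintro rfl
    exact hnot (H55.Psp.isInnerDiagonal_iff.2 ⟨g, by rw [_root_.map_one, mul_one]⟩)
  have hσp : orderOf σ = p := orderOf_eq_prime (H55.Psp.pow_eq_one_of (by omega) hxp) hσ
  obtain ⟨k, hk⟩ := H55.Psp.coset_conj_PSp (by omega) (σ := σ) (g := g) (by rw [hσp]; exact hxp)
  exact ⟨σ, k, hσp, hk⟩

end Balance

end H48
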