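import Mathlib
import Cfsg.Agent.H48.SemisimpleClasses

/-!
# The number of semisimple classes of `Sp_{2n}(q)`
-/

set_option autoImplicit false

namespace H48

namespace SS

open Polynomial

universe u

variable {F : Type u} [Field F]

theorem Pal.coeff_symm {P : F[X]} (h : Pal P) {k : ℕ} (hk : k ≤ P.natDegree) :
    P.coeff (P.natDegree - k) = P.coeff k := by
  conv_rhs => rw [← h.rev, coeff_reverse, revAt_le hk]

theorem Pal.ext {n : ℕ} {P R : F[X]} (hP : Pal P) (hR : Pal R) (dP : P.natDegree = 2 * n)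
    (dR : R.natDegree = 2 * n) (h : ∀ i : Fin n, P.coeff (i + 1) = R.coeff (i + 1)) : P = R := by
  have low : ∀ k, k ≤ n → P.coeff k = R.coeff k := by
    intro k hk
    rcases Nat.eq_zero_or_pos k with rfl | h0
    · rw [← hP.rev, ← hR.rev, coeff_zero_reverse, coeff_zero_reverse, hP.monic.leadingCoeff, hR.monic.leadingCoeff]
    · have := h ⟨k - 1, by omega⟩
      rwa [show (k - 1) + 1 = k by omega] at this
  ext k
  rcases Nat.lt_or_ge (2 * n) k with h2 | h2
  · rw [coeff_eq_zero_of_natDegree_lt (by omega), coeff_eq_zero_of_natDegree_lt (by omega)]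
  rcases Nat.lt_or_ge n k with h1 | h1
  · have e1 := hP.coeff_symm (k := k) (by omega)
    have e2 := hR.coeff_symm (k := k) (by omega)
    rw [← e1, ← e2, dP, dR]
    exact low _ (by omega)
  · exact low k h1

theorem exists_pal {n : ℕ} (a : Fin n → F) :
    ∃ P : F[X], Pal P ∧ P.natDegree = 2 * n ∧ ∀ i : Fin n, P.coeff (i + 1) = a i := by
  classical
  let w : ℕ → F := fun j => if h : 1 ≤ j ∧ j ≤ n then a ⟨j - 1, by omega⟩ else 1
  let P : F[X] := ∑ k ∈ Finset.range (2 * n + 1), C (w (min k (2 * n - k))) * X ^ k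
  have hco : ∀ k, P.coeff k = if k ≤ 2 * n then w (min k (2 * n - k)) else 0 := by
    intro k
    simp only [P, finsetSum_coeff, coeff_C_mul, coeff_X_pow, mul_ite, mul_one, mul_zero,
      Finset.sum_ite_eq, Finset.mem_range, Nat.lt_succ_iff]
  have htop : P.coeff (2 * n) = 1 := by
    rw [hco, if_pos le_rfl, Nat.sub_self, Nat.min_zero]
    simp [w]
  have hdeg : P.natDegree = 2 * n := natDegree_eq_of_le_of_coeff_ne_zero
    (natDegree_le_iff_coeff_eq_zero.2 fun k hk => by rw [hco, if_neg (by omega)])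
    (by rw [htop]; exact one_ne_zero)
  refine ⟨P, ⟨?_, by rw [hdeg]; exact ⟨n, two_mul n⟩, ?_⟩, hdeg, fun i => ?_⟩
  · show P.leadingCoeff = 1
    rw [leadingCoeff, hdeg, htop]
  · ext k
    rcases Nat.lt_or_ge (2 * n) k with hk | hk
    · rw [coeff_eq_zero_of_natDegree_lt (by have := reverse_natDegree_le P; omega),
        coeff_eq_zero_of_natDegree_lt (by omega)]
    · rw [coeff_reverse, hdeg, revAt_le hk, hco, hco, if_pos (Nat.sub_le _ _), if_pos hk,
        show 2 * n - (2 * n - k) = k by omega, min_comm]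
  · have := i.2
    rw [hco, if_pos (by omega), show min ((i : ℕ) + 1) (2 * n - (i + 1)) = i + 1 by omega]
    simp only [w]
    rw [dif_pos ⟨by omega, by omega⟩]
    congr 1

theorem card_semisimple_classes [Fintype F] (p : ℕ) [Fact p.Prime] [CharP F p] (n : ℕ) :
    Nat.card {c : ConjClasses ↥(Matrix.symplecticGroup (Fin n) F) //
      ∃ g : ↥(Matrix.symplecticGroup (Fin n) F), ConjClasses.mk g = c ∧ (orderOf g).Coprime p}
      = Fintype.card F ^ n := by
  classical
  let cp : ↥(Matrix.symplecticGroup (Fin n) F) → F[X] := fun g =>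
    (g : Matrix (Fin n ⊕ Fin n) (Fin n ⊕ Fin n) F).charpoly
  have hconj : ∀ g h, IsConj g h → cp g = cp h := by
    intro g h hgh
    obtain ⟨c, rfl⟩ := isConj_iff.1 hgh
    let u : (Matrix (Fin n ⊕ Fin n) (Fin n ⊕ Fin n) F)ˣ :=
      ⟨c, ↑c⁻¹, by rw [← Submonoid.coe_mul, mul_inv_cancel]; rfl, by rw [← Submonoid.coe_mul, inv_mul_cancel]; rfl⟩
    show _ = (((c * g * c⁻¹ : ↥(Matrix.symplecticGroup (Fin n) F))) : Matrix (Fin n ⊕ Fin n) (Fin n ⊕ Fin n) F).charpoly
    rw [Submonoid.coe_mul, Submonoid.coe_mul]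
    have := Matrix.charpoly_units_conj u (g : Matrix (Fin n ⊕ Fin n) (Fin n ⊕ Fin n) F)
    rw [← Matrix.coe_units_inv] at this
    exact this.symm
  have hpal : ∀ g : ↥(Matrix.symplecticGroup (Fin n) F), Pal (cp g) ∧ (cp g).natDegree = 2 * n := fun g => by
    refine ⟨⟨Matrix.charpoly_monic _, ?_, charpoly_inv_sp g⟩, ?_⟩
    · rw [Matrix.charpoly_natDegree_eq_dim, Fintype.card_sum]; exact ⟨_, rfl⟩
    · rw [Matrix.charpoly_natDegree_eq_dim, Fintype.card_sum, Fintype.card_fin, two_mul]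
  let Φ : {c : ConjClasses ↥(Matrix.symplecticGroup (Fin n) F) //
      ∃ g : ↥(Matrix.symplecticGroup (Fin n) F), ConjClasses.mk g = c ∧ (orderOf g).Coprime p} → (Fin n → F) :=
    fun c i => (cp c.2.choose).coeff (i + 1)
  rw [Nat.card_eq_of_bijective Φ ⟨?_, ?_⟩, Nat.card_eq_fintype_card, Fintype.card_fun, Fintype.card_fin]
  · intro c d h
    obtain ⟨hc1, hc2⟩ := c.2.choose_spec
    obtain ⟨hd1, hd2⟩ := d.2.choose_spec
    refine Subtype.ext (hc1 ▸ hd1 ▸ ConjClasses.mk_eq_mk_iff_isConj.2 (isConj_of_charpoly _ _ hc2 hd2 ?_))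
    exact (hpal _).1.ext (hpal _).1 (hpal _).2 (hpal _).2 fun i => congrFun h i
  · intro a
    obtain ⟨P, hP, hdeg, hco⟩ := exists_pal a
    obtain ⟨r, A, hA, hm, hAP⟩ := hP.real
    have hr : r = n := by
      have := congrArg natDegree hAP
      rw [Matrix.charpoly_natDegree_eq_dim, hdeg, Fintype.card_sum, Fintype.card_fin] at this
      omega
    subst hr
    obtain ⟨m, hm0, hm1⟩ := hm
    let g : ↥(Matrix.symplecticGroup (Fin r) F) := ⟨A, hA⟩
    have hg : (orderOf g).Coprime p := (H40.primeToChar_iff (F := F) p).2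
      ⟨m, hm0, Subtype.ext (by rw [SubmonoidClass.coe_pow]; exact hm1)⟩
    let c : {c : ConjClasses ↥(Matrix.symplecticGroup (Fin r) F) //
      ∃ g : ↥(Matrix.symplecticGroup (Fin r) F), ConjClasses.mk g = c ∧ (orderOf g).Coprime p} :=
      ⟨ConjClasses.mk g, g, rfl, hg⟩
    refine ⟨c, funext fun i => ?_⟩
    show (cp c.2.choose).coeff (i + 1) = a i
    rw [hconj _ g (ConjClasses.mk_eq_mk_iff_isConj.1 c.2.choose_spec.1), ← hco i, ← hAP]

end SS

end H48
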