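import Mathlib
import Cfsg.Agent.H48.Involution

/-!
# Conjugacy classes of involutions of `Sp_{2m}(q)`, `q` even
-/

set_option autoImplicit false

namespace H48

open Matrix

variable {l : Type*} [Fintype l] [DecidableEq l] {F : Type*} [Field F] [CharP F 2]

local notation "V" => (l ⊕ l → F)
local notation "Sp" => Matrix.symplecticGroup l F

/-- Gram data after a change of basis. -/
theorem gram_change {t : Sp} {s : ℕ} (x w : Fin s → V) (hx : LinearIndependent F x)
    (hw : ∀ i, nil t (w i) = x i) (hspan : ∀ v, nil t v ∈ Submodule.span F (Set.range x))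
    {ι : Type} [Fintype ι] [DecidableEq ι] (P : Matrix (Fin s) ι F) (hι : Fintype.card ι = s)
    (M : Matrix ι ι F) (hM : IsUnit M)
    (hP : Pᵀ * Matrix.of (fun i j => sf (w i) (x j)) * P = M) :
    ∃ x' w' : ι → V, LinearIndependent F x' ∧ (∀ i, nil t (w' i) = x' i) ∧
      (∀ v, nil t v ∈ Submodule.span F (Set.range x')) ∧
      ∀ i j, sf (w' i) (x' j) = M i j := by
  refine ⟨fun j => ∑ i, P i j • x i, fun j => ∑ i, P i j • w i, ?_, ?_, ?_, ?_⟩
  · rw [Fintype.linearIndependent_iff]
    intro c hc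
    have h1 : P *ᵥ c = 0 := by
      funext i
      refine Fintype.linearIndependent_iff.1 hx (P *ᵥ c) ?_ i
      rw [← hc]
      simp only [mulVec, dotProduct, Finset.sum_smul, Finset.smul_sum, smul_smul]
      rw [Finset.sum_comm]
      exact Finset.sum_congr rfl fun j _ => Finset.sum_congr rfl fun i _ => by rw [mul_comm]
    have h2 : M *ᵥ c = 0 := by rw [← hP, ← mulVec_mulVec, h1, mulVec_zero]
    intro j
    exact congrFun (Matrix.mulVec_injective_iff_isUnit.2 hM (h2.trans (mulVec_zero M).symm)) j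
  · intro j
    simp [map_sum, map_smul, hw]
  · intro v
    have hli : LinearIndependent F (fun j => ∑ i, P i j • x i) := by
      rw [Fintype.linearIndependent_iff]
      intro c hc
      have h1 : P *ᵥ c = 0 := by
        funext i
        refine Fintype.linearIndependent_iff.1 hx (P *ᵥ c) ?_ i
        rw [← hc]
        simp only [mulVec, dotProduct, Finset.sum_smul, Finset.smul_sum, smul_smul]
        rw [Finset.sum_comm]
        exact Finset.sum_congr rfl fun j _ => Finset.sum_congr rfl fun i _ => by rw [mul_comm]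
      have h2 : M *ᵥ c = 0 := by rw [← hP, ← mulVec_mulVec, h1, mulVec_zero]
      intro j
      exact congrFun (Matrix.mulVec_injective_iff_isUnit.2 hM (h2.trans (mulVec_zero M).symm)) j
    have hle : Submodule.span F (Set.range fun j => ∑ i, P i j • x i) ≤
        Submodule.span F (Set.range x) :=
      Submodule.span_le.2 (Set.range_subset_iff.2 fun j =>
        Submodule.sum_mem _ fun i _ => Submodule.smul_mem _ _ (Submodule.subset_span ⟨i, rfl⟩))
    rw [Submodule.eq_of_le_of_finrank_eq hle (by
      rw [finrank_span_eq_card hli, finrank_span_eq_card hx, hι, Fintype.card_fin])]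
    exact hspan v
  · intro i j
    rw [← hP]
    simp only [map_sum, map_smul, LinearMap.sum_apply, LinearMap.smul_apply, smul_eq_mul,
      Matrix.mul_apply, transpose_apply, Matrix.of_apply, Finset.sum_mul, Finset.mul_sum]
    exact Finset.sum_congr rfl fun a _ => Finset.sum_congr rfl fun b _ => by ring

/-- The invariants rank and "alternating" determine the class. -/
theorem conj_of_invariants (hsq : ∀ a : F, ∃ b, b * b = a) {t t' : Sp} (ht : t * t = 1)
    (ht' : t' * t' = 1)
    (hrk : ((t : Matrix (l ⊕ l) (l ⊕ l) F) - 1).rank = ((t' : Matrix (l ⊕ l) (l ⊕ l) F) - 1).rank)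
    (halt : (∀ v : V, sf v (t • v) = 0) ↔ ∀ v : V, sf v (t' • v) = 0) : IsConj t t' := by
  obtain ⟨x, w, hx, hw, hspan, -, hu, hs, hd⟩ := exists_gram ht
  obtain ⟨x', w', hx', hw', hspan', -, hu', hs', hd'⟩ := exists_gram ht'
  by_cases h : ∀ v : V, sf v (t • v) = 0
  · obtain ⟨r, P, hr, hP⟩ := exists_congr_J _ hs hu (hd.2 h)
    obtain ⟨r', P', hr', hP'⟩ := exists_congr_J _ hs' hu' (hd'.2 (halt.1 h))
    rw [Fintype.card_fin] at hr hr'
    obtain rfl : r = r' := by omega
    have hJ : IsUnit (Matrix.J (Fin r) F) :=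
      (Matrix.isUnit_iff_isUnit_det _).2 (Matrix.isUnit_det_J _ _)
    have hc : Fintype.card (Fin r ⊕ Fin r) = 2 * r := by simp; omega
    obtain ⟨y, z, hy, hz, hsy, hG⟩ := gram_change x w hx hw hspan P (hc.trans hr.symm) _ hJ hP
    obtain ⟨y', z', hy', hz', hsy', hG'⟩ :=
      gram_change x' w' hx' hw' hspan' P' (hc.trans hr'.symm) _ hJ hP'
    refine conj_of_gram ht ht' y z y' z' hy hy' hz hz' hsy hsy' ?_ (fun i j => by rw [hG, hG'])
    convert hJ using 1
    ext i j; exact hG i j
  · have hne : ∃ i, (Matrix.of fun i j => sf (w i) (x j)) i i ≠ 0 := by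
      by_contra hcon
      simp only [not_exists, not_not] at hcon
      exact h (hd.1 hcon)
    have hne' : ∃ i, (Matrix.of fun i j => sf (w' i) (x' j)) i i ≠ 0 := by
      by_contra hcon
      simp only [not_exists, not_not] at hcon
      exact h (halt.2 (hd'.1 hcon))
    obtain ⟨P, -, hP⟩ := exists_congr_one hsq _ _ _ (Fintype.card_fin _) hs hu hne
    obtain ⟨P', -, hP'⟩ := exists_congr_one hsq _ _ _ (Fintype.card_fin _) hs' hu' hne'
    obtain ⟨y, z, hy, hz, hsy, hG⟩ := gram_change x w hx hw hspan P (Fintype.card_fin _) _ isUnit_one hP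
    let e := finCongr hrk
    obtain ⟨y', z', hy', hz', hsy', hG'⟩ :=
      gram_change x' w' hx' hw' hspan' P' (Fintype.card_fin _) _ isUnit_one hP'
    refine conj_of_gram ht ht' y z (y' ∘ e) (z' ∘ e) hy (hy'.comp _ e.injective) hz
      (fun i => hz' _) hsy (by rw [e.surjective.range_comp]; exact hsy') ?_
      (fun i j => by rw [hG, Function.comp_apply, Function.comp_apply, hG']; simp [Matrix.one_apply, e])
    convert (isUnit_one : IsUnit (1 : Matrix (Fin ((t : Matrix (l ⊕ l) (l ⊕ l) F) - 1).rank)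
      (Fin ((t : Matrix (l ⊕ l) (l ⊕ l) F) - 1).rank) F)) using 1
    ext i j; exact hG i j

/-- An alternating involution moves a space of even dimension. -/
theorem even_rank_of_alt {t : Sp} (ht : t * t = 1) (h : ∀ v : V, sf v (t • v) = 0) :
    Even ((t : Matrix (l ⊕ l) (l ⊕ l) F) - 1).rank := by
  obtain ⟨x, w, -, -, -, -, hu, hs, hd⟩ := exists_gram ht
  obtain ⟨r, P, hr, -⟩ := exists_congr_J _ hs hu (hd.2 h)
  rw [Fintype.card_fin] at hr
  exact ⟨r, by omega⟩

theorem qmap_smul (t : Sp) (a : F) (v : V) : sf (a • v) (t • (a • v)) = a * a * sf v (t • v) := by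
  rw [smul_comm t a v, LinearMap.map_smul, LinearMap.map_smul₂, smul_eq_mul, smul_eq_mul, mul_assoc]

theorem card_qzero [Fintype F] {t : Sp} (ht : t * t = 1) :
    ((∀ v : V, sf v (t • v) = 0) ∧
      Nat.card {v : V // sf v (t • v) = 0} = Fintype.card F ^ (2 * Fintype.card l)) ∨
    (¬ (∀ v : V, sf v (t • v) = 0) ∧
      Nat.card {v : V // sf v (t • v) = 0} * Fintype.card F =
        Fintype.card F ^ (2 * Fintype.card l)) := by
  have hcardV : Nat.card V = Fintype.card F ^ (2 * Fintype.card l) := by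
    rw [Nat.card_fun, Nat.card_eq_fintype_card, Nat.card_eq_fintype_card, Fintype.card_sum, two_mul]
  by_cases h : ∀ v : V, sf v (t • v) = 0
  · exact .inl ⟨h, (Nat.card_congr (Equiv.subtypeUnivEquiv h)).trans hcardV⟩
  refine .inr ⟨h, ?_⟩
  simp only [not_forall] at h
  obtain ⟨u, hu⟩ := h
  let φ : V →+ F := AddMonoidHom.mk' (fun v => sf v (t • v)) (qmap_add ht)
  have hsurj : Function.Surjective φ := fun c => by
    obtain ⟨b, hb⟩ : IsSquare (c / sf u (t • u)) :=
      FiniteField.isSquare_of_char_two (ringChar.eq F 2) _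
    exact ⟨b • u, by
      show sf (b • u) (t • (b • u)) = c
      rw [qmap_smul, ← hb, div_mul_cancel₀ _ hu]⟩
  have h1 := AddSubgroup.card_eq_card_quotient_mul_card_addSubgroup φ.ker
  rw [Nat.card_congr (QuotientAddGroup.quotientKerEquivOfSurjective φ hsurj).toEquiv, hcardV,
    Nat.card_eq_fintype_card (α := F)] at h1
  rw [h1, mul_comm]
  rfl

end H48
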