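import Mathlib
import Cfsg.Agent.H48.Block
import Cfsg.Agent.H48.Parabolic

/-!
# The stabiliser of a non-degenerate subspace
-/

set_option autoImplicit false

namespace H48

open Matrix

variable {l : Type*} [Fintype l] [DecidableEq l] {F : Type*} [Field F]

local notation "V" => (l ⊕ l → F)

/-- A non-degenerate subspace is spanned by a hyperbolic family. -/
theorem exists_hyp_basis (W : Submodule F V) (hW : ∀ u ∈ W, (∀ v ∈ W, sf u v = 0) → u = 0) :
    ∃ (r : ℕ) (p : Fin r ⊕ Fin r → V), IsHyp sf p ∧ Submodule.span F (Set.range p) = W ∧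
      Module.finrank F W = 2 * r := by
  obtain ⟨r, p, hpW, hp, hrad⟩ := exists_hyp (sf : V →ₗ[F] V →ₗ[F] F) _ W inferInstance rfl
    (fun v _ => sf_self v)
  have hli := hp.linearIndependent
  have hspan : Submodule.span F (Set.range p) = W := by
    refine le_antisymm (Submodule.span_le.2 (Set.range_subset_iff.2 hpW)) fun w hw => ?_
    set w₁ := w - colMat p *ᵥ (projMat p *ᵥ w) with hw₁
    have hin : colMat p *ᵥ (projMat p *ᵥ w) ∈ Submodule.span F (Set.range p) := by
      rw [colMat_mulVec]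
      exact Submodule.sum_mem _ fun a _ => Submodule.smul_mem _ _ (Submodule.subset_span ⟨a, rfl⟩)
    have hw₁W : w₁ ∈ W :=
      W.sub_mem hw (Submodule.span_le.2 (Set.range_subset_iff.2 hpW) hin)
    have hperp : ∀ a, sf (p a) w₁ = 0 := by
      refine projMat_mulVec_eq_zero.1 ?_
      rw [hw₁, mulVec_sub, mulVec_mulVec _ (projMat p) (colMat p), projMat_mul_colMat hp,
        one_mulVec, sub_self]
    have h0 : w₁ = 0 := hW w₁ hw₁W fun v hv => hrad w₁ hw₁W hperp v hv
    rw [sub_eq_zero] at h0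
    exact h0 ▸ hin
  refine ⟨r, p, hp, hspan, ?_⟩
  rw [← hspan, finrank_span_eq_card hli, Fintype.card_sum, Fintype.card_fin]
  omega

variable {m : ℕ}

/-- The stabiliser of a non-degenerate `2k`-space is `Sp_2k × Sp_2(m-k)`. -/
theorem stabilizer_split (k : ℕ) (W : Submodule F (Fin m ⊕ Fin m → F))
    (hWk : Module.finrank F W = 2 * k) (hW : ∀ u ∈ W, (∀ v ∈ W, sf u v = 0) → u = 0) :
    Nonempty (↥(Cfsg.stabilizing (Cfsg.spToMat m F) (W : Set (Fin m ⊕ Fin m → F))) ≃*
      Matrix.symplecticGroup (Fin k) F × Matrix.symplecticGroup (Fin (m - k)) F) := by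
  obtain ⟨r, p, hp, hspan, hr⟩ := exists_hyp_basis W hW
  obtain rfl : r = k := by omega
  set L := LinearMap.ker (Matrix.mulVecLin (projMat p)) with hL
  have hcol : ∀ c, colMat p *ᵥ c ∈ W := fun c => by
    rw [← hspan, colMat_mulVec]
    exact Submodule.sum_mem _ fun a _ => Submodule.smul_mem _ _ (Submodule.subset_span ⟨a, rfl⟩)
  have hWcol : ∀ w ∈ W, colMat p *ᵥ (projMat p *ᵥ w) = w := by
    intro w hw
    rw [← hspan] at hw
    induction hw using Submodule.span_induction with
    | mem x hx =>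
      obtain ⟨a, rfl⟩ := hx
      rw [← colMat_mulVec_single p a, mulVec_mulVec, mulVec_mulVec, Matrix.mul_assoc,
        projMat_mul_colMat hp, Matrix.mul_one]
    | zero => simp
    | add x y _ _ hx hy => rw [mulVec_add, mulVec_add, hx, hy]
    | smul c x _ hx => rw [mulVec_smul, mulVec_smul, hx]
  have hLperp : ∀ x, x ∈ L ↔ ∀ w ∈ W, sf w x = 0 := by
    intro x
    rw [hL, LinearMap.mem_ker, mulVecLin_apply, projMat_mulVec_eq_zero]
    refine ⟨fun h w hw => ?_, fun h a => h _ ?_⟩
    · rw [← hspan] at hw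
      induction hw using Submodule.span_induction with
      | mem x hx => obtain ⟨a, rfl⟩ := hx; exact h a
      | zero => simp
      | add x y _ _ hx hy => simp [hx, hy]
      | smul c x _ hx => simp [hx]
    · rw [← hspan]; exact Submodule.subset_span ⟨a, rfl⟩
  have hres : ∀ x, x - colMat p *ᵥ (projMat p *ᵥ x) ∈ L := fun x => by
    rw [hL, LinearMap.mem_ker, mulVecLin_apply, mulVec_sub, mulVec_mulVec _ (projMat p) (colMat p),
      projMat_mul_colMat hp, one_mulVec, sub_self]
  have hLnd : ∀ u ∈ L, (∀ v ∈ L, sf u v = 0) → u = 0 := by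
    intro u hu h
    refine eq_zero_of_sf fun v => ?_
    have h1 : sf u (colMat p *ᵥ (projMat p *ᵥ v)) = 0 :=
      sf_eq_zero_comm ((hLperp u).1 hu _ (hcol _))
    have h2 := h _ (hres v)
    rw [map_sub, h1, sub_zero] at h2
    exact h2
  obtain ⟨s, q, hq, hqspan, hs⟩ := exists_hyp_basis L hLnd
  have hrank := LinearMap.finrank_range_add_finrank_ker (Matrix.mulVecLin (projMat p))
  have hsurj : LinearMap.range (Matrix.mulVecLin (projMat p)) = ⊤ :=
    LinearMap.range_eq_top.2 fun c => ⟨colMat p *ᵥ c, by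
      rw [mulVecLin_apply, mulVec_mulVec, projMat_mul_colMat hp, one_mulVec]⟩
  rw [hsurj, finrank_top, ← hL, hs] at hrank
  simp only [Module.finrank_fintype_fun_eq_card, Fintype.card_sum, Fintype.card_fin] at hrank
  obtain rfl : s = m - r := by omega
  have horth : ∀ a b, sf (p a) (q b) = 0 := fun a b =>
    (hLperp (q b)).1 (hqspan ▸ Submodule.subset_span ⟨b, rfl⟩) _
      (hspan ▸ Submodule.subset_span ⟨a, rfl⟩)
  have hdec : ∀ x, colMat p *ᵥ (projMat p *ᵥ x) + colMat q *ᵥ (projMat q *ᵥ x) = x := by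
    intro x
    have hq0 : projMat q *ᵥ (colMat p *ᵥ (projMat p *ᵥ x)) = 0 :=
      projMat_mulVec_eq_zero.2 fun b => sf_eq_zero_comm
        ((hLperp (q b)).1 (hqspan ▸ Submodule.subset_span ⟨b, rfl⟩) _ (hcol _))
    have hrec : ∀ y ∈ L, colMat q *ᵥ (projMat q *ᵥ y) = y := by
      intro y hy
      rw [← hqspan] at hy
      induction hy using Submodule.span_induction with
      | mem x hx =>
        obtain ⟨a, rfl⟩ := hx
        rw [← colMat_mulVec_single q a, mulVec_mulVec, mulVec_mulVec, Matrix.mul_assoc,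
          projMat_mul_colMat hq, Matrix.mul_one]
      | zero => simp
      | add x y _ _ hx hy => rw [mulVec_add, mulVec_add, hx, hy]
      | smul c x _ hx => rw [mulVec_smul, mulVec_smul, hx]
    have h := hrec _ (hres x)
    rw [mulVec_sub, hq0, sub_zero] at h
    rw [h]
    abel
  let Φ := (extHom hp).noncommCoprod (extHom hq) (extHom_commute hp hq horth)
  have hΦp : ∀ g h c, Φ (g, h) • (colMat p *ᵥ c) = colMat p *ᵥ (g • c) := by
    intro g h c
    show (extHom hp g * extHom hq h) • _ = _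
    rw [mul_smul, extHom_smul_of_orth hq h (fun b => sf_eq_zero_comm
      ((hLperp (q b)).1 (hqspan ▸ Submodule.subset_span ⟨b, rfl⟩) _ (hcol c))), extHom_smul_colMat]
  have hΦq : ∀ g h c, Φ (g, h) • (colMat q *ᵥ c) = colMat q *ᵥ (h • c) := by
    intro g h c
    show (extHom hp g * extHom hq h) • _ = _
    rw [mul_smul, extHom_smul_colMat hq, extHom_smul_of_orth hp g]
    intro a
    rw [colMat_mulVec, map_sum]
    exact Finset.sum_eq_zero fun b _ => by simp [horth]
  have hmem : ∀ gh, Φ gh ∈ Cfsg.stabilizing (Cfsg.spToMat m F) (W : Set (Fin m ⊕ Fin m → F)) := by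
    rintro ⟨g, h⟩
    refine mem_stabilizing_of_maps fun w hw => ?_
    rw [← hWcol w hw, hΦp]
    exact hcol _
  refine ⟨(MulEquiv.ofBijective (Φ.codRestrict _ hmem) ⟨?_, ?_⟩).symm⟩
  · rintro ⟨g, h⟩ ⟨g', h'⟩ e
    have e' : Φ (g, h) = Φ (g', h') := congrArg Subtype.val e
    refine Prod.ext (sp_ext fun c => ?_) (sp_ext fun c => ?_)
    · have := hΦp g h c
      rw [e', hΦp] at this
      have := congrArg (projMat p *ᵥ ·) this
      simpa [mulVec_mulVec, projMat_mul_colMat hp] using this.symm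
    · have := hΦq g h c
      rw [e', hΦq] at this
      have := congrArg (projMat q *ᵥ ·) this
      simpa [mulVec_mulVec, projMat_mul_colMat hq] using this.symm
  · rintro ⟨t, ht⟩
    have htW : ∀ c, t • (colMat p *ᵥ c) ∈ W := fun c => (ht _).1 (hcol c)
    have htL : ∀ c, t • (colMat q *ᵥ c) ∈ L := by
      intro c
      rw [hLperp]
      intro w hw
      have hw' : t⁻¹ • w ∈ W := (ht _).2 (by
        show t • (t⁻¹ • w) ∈ W
        rwa [smul_inv_smul])
      rw [← smul_inv_smul t w, sf_smul_smul]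
      refine (hLperp _).1 ?_ _ hw'
      rw [← hqspan, colMat_mulVec]
      exact Submodule.sum_mem _ fun a _ => Submodule.smul_mem _ _ (Submodule.subset_span ⟨a, rfl⟩)
    have hblk : ∀ {α : Type} [Fintype α] [DecidableEq α] {u : α ⊕ α → (Fin m ⊕ Fin m → F)},
        IsHyp sf u → (∀ c, ∃ d, t • (colMat u *ᵥ c) = colMat u *ᵥ d) →
        ∃ g : Matrix.symplecticGroup α F, ∀ c, colMat u *ᵥ (g • c) = t • (colMat u *ᵥ c) := by
      intro α _ _ u hu hd
      have hA : ∀ c, colMat u *ᵥ ((projMat u * t.1 * colMat u) *ᵥ c) = t • (colMat u *ᵥ c) := by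
        intro c
        obtain ⟨d, hd⟩ := hd c
        rw [← mulVec_mulVec, ← mulVec_mulVec]
        change colMat u *ᵥ (projMat u *ᵥ (t • (colMat u *ᵥ c))) = _
        rw [hd, mulVec_mulVec _ (projMat u) (colMat u), projMat_mul_colMat hu, one_mulVec]
      have hiso : ∀ c d, sf (colMat u *ᵥ c) (colMat u *ᵥ d) = sf c d := by
        intro c d
        rw [sf_def, sf_def, ← vecMul_transpose, ← dotProduct_mulVec, mulVec_mulVec, mulVec_mulVec,
          isHyp_iff.1 hu]
      exact ⟨⟨_, mem_symplectic_iff.2 fun c d => by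
        rw [← hiso, hA, hA, sf_smul_smul, hiso]⟩, hA⟩
    obtain ⟨g, hg⟩ := hblk hp (fun c => ⟨_, (hWcol _ (htW c)).symm⟩)
    obtain ⟨h, hh⟩ := hblk hq (fun c => by
      refine ⟨projMat q *ᵥ (t • (colMat q *ᵥ c)), ?_⟩
      have := hdec (t • (colMat q *ᵥ c))
      rw [show projMat p *ᵥ (t • (colMat q *ᵥ c)) = 0 from htL c, mulVec_zero, zero_add] at this
      exact this.symm)
    refine ⟨(g, h), Subtype.ext (sp_ext fun x => ?_)⟩
    show Φ (g, h) • x = t • x
    rw [← hdec x, smul_add, smul_add, hΦp, hΦq, hg, hh]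

end H48
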