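import Mathlib
import Cfsg.Agent.H40.LargeSylow
import Cfsg.Agent.H49.SpBlock
import Cfsg.Agent.H49.SpElements
import Cfsg.Agent.H48.Count

/-!
# Sylow `r`-subgroups of `Sp_{2n}(q)` for `r > n`
-/

set_option autoImplicit false

namespace H48

variable {F : Type*} [Field F] [Fintype F]

theorem exists_pi_embedding {H : Type*} [Group H] {η : ℕ}
    (ψ : H →* Matrix.symplecticGroup (Fin η) F) (hψ : Function.Injective ψ) :
    ∀ a n : ℕ, a * η ≤ n →
      ∃ φ : (Fin a → H) →* Matrix.symplecticGroup (Fin n) F, Function.Injective φ := by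
  intro a
  induction a with
  | zero => exact fun n _ => ⟨1, fun x y _ => Subsingleton.elim x y⟩
  | succ a ih =>
    intro n hn
    rw [Nat.succ_mul] at hn
    obtain ⟨φ, hφ⟩ := ih (n - η) (by omega)
    let e : Fin n ≃ Fin η ⊕ Fin (n - η) := (finCongr (by omega : n = η + (n - η))).trans finSumFinEquiv.symm
    let g : (Fin (a + 1) → H) →* Matrix.symplecticGroup (Fin η) F × Matrix.symplecticGroup (Fin (n - η)) F :=
      { toFun := fun c => (ψ (c 0), φ (Fin.tail c))
        map_one' := Prod.ext (map_one ψ) (map_one φ)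
        map_mul' := fun c d => Prod.ext (map_mul ψ _ _) (map_mul φ (Fin.tail c) (Fin.tail d)) }
    refine ⟨(H49.spBlock e).comp g, (H49.spBlock_injective e).comp fun c d h => ?_⟩
    rw [← Fin.cons_self_tail c, ← Fin.cons_self_tail d, hψ (congrArg Prod.fst h), hφ (congrArg Prod.snd h)]

theorem sylow_sp_large {q : ℕ} (hq : Fintype.card F = q) (n r : ℕ) [hr : Fact r.Prime] (hr2 : r ≠ 2)
    (hrn : n < r) (hrq : ¬ r ∣ q) (P : Sylow r (Matrix.symplecticGroup (Fin n) F)) :
    Nonempty ((P : Subgroup (Matrix.symplecticGroup (Fin n) F)) ≃*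
      (Fin ((Finset.Icc 1 n).filter fun i => orderOf (q : ZMod r) ∣ 2 * i).card →
        Multiplicative (ZMod (r ^ H40.cycloExp q r)))) := by
  classical
  subst hq
  set q := Fintype.card F with hqdef
  have hq2 : 2 ≤ q := Fintype.one_lt_card
  set d := orderOf (q : ZMod r) with hd
  have hd0 : 0 < d := H40.orderOf_pos_of_not_dvd q r hrq
  have hrq2 : ¬ r ∣ q ^ 2 := fun h => hrq (hr.out.dvd_of_dvd_pow h)
  have hq22 : 2 ≤ q ^ 2 := by nlinarith
  set η := orderOf ((q ^ 2 : ℕ) : ZMod r) with hη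
  have hηd : η = d / Nat.gcd d 2 := by rw [hη, hd, Nat.cast_pow, orderOf_pow' _ two_ne_zero]
  set c := H40.cycloExp q r with hc
  have hvd : padicValNat r (q ^ d - 1) = c := H40.padicValNat_pow_order_sub_one q r hq2 hrq
  have hfac : ∀ x, 0 < x → q ^ (2 * x) - 1 = (q ^ x + 1) * (q ^ x - 1) := fun x _ => by
    rw [mul_comm 2 x, pow_mul]
    conv_lhs => rw [← one_pow 2, Nat.sq_sub_sq]
  have hpos : ∀ x, 0 < x → 0 < q ^ x - 1 := fun x hx => Nat.sub_pos_of_lt (Nat.one_lt_pow hx.ne' hq2)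
  have hnb : ∀ x, r ∣ q ^ x - 1 → ¬ r ∣ q ^ x + 1 := fun x h1 h2 => by
    have h := Nat.dvd_sub h2 h1
    rw [show q ^ x + 1 - (q ^ x - 1) = 2 by have := Nat.one_le_pow x q (by omega); omega] at h
    exact hr2 ((Nat.prime_dvd_prime_iff_eq hr.out Nat.prime_two).1 h)
  -- the torus element
  obtain ⟨hη0, hdvd, hc2⟩ : 0 < η ∧ (r ^ c ∣ q ^ η - 1 ∨ r ^ c ∣ q ^ η + 1) ∧ H40.cycloExp (q ^ 2) r = c := by
    have hc2' : H40.cycloExp (q ^ 2) r = padicValNat r (q ^ (2 * η) - 1) := by
      rw [← H40.padicValNat_pow_order_sub_one (q ^ 2) r hq22 hrq2, ← hη, ← pow_mul]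
    rcases Nat.even_or_odd d with he | ho
    · have h2 : 2 * η = d := by
        rw [hηd, Nat.gcd_eq_right he.two_dvd]; exact Nat.mul_div_cancel' he.two_dvd
      have h0 : 0 < η := by omega
      refine ⟨h0, Or.inr ?_, by rw [hc2', h2, hvd]⟩
      have h : r ^ c ∣ (q ^ η + 1) * (q ^ η - 1) := by
        rw [← hfac η h0, h2, ← hvd]; exact pow_padicValNat_dvd
      refine (Nat.Coprime.pow_left c ((Nat.Prime.coprime_iff_not_dvd hr.out).2 fun h' => ?_)).dvd_of_dvd_mul_right h
      have := Nat.le_of_dvd h0 ((H40.dvd_pow_sub_one_iff q r (by omega) η).1 h')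
      omega
    · have h1 : η = d := by rw [hηd, Nat.Coprime.gcd_eq_one (Nat.coprime_two_right.2 ho), Nat.div_one]
      refine ⟨by omega, Or.inl (by rw [h1, ← hvd]; exact pow_padicValNat_dvd), ?_⟩
      rw [hc2', h1, hfac d hd0, padicValNat.mul (by positivity) (hpos d hd0).ne',
        padicValNat.eq_zero_of_not_dvd (hnb d ((H40.dvd_pow_sub_one_iff q r (by omega) d).2 dvd_rfl)),
        zero_add, hvd]
  rw [← Nat.card_eq_fintype_card] at hqdef
  obtain ⟨x, hx⟩ := H49.exists_orderOf_sp (F := F) hη0 (hqdef ▸ hdvd)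
  haveI : NeZero (r ^ c) := ⟨pow_ne_zero _ hr.out.ne_zero⟩
  let e : Multiplicative (ZMod (r ^ c)) ≃* Subgroup.zpowers x :=
    mulEquivOfCyclicCardEq (by rw [Nat.card_zpowers, hx, Nat.card_congr Multiplicative.toAdd, Nat.card_zmod])
  have hset : ((Finset.Icc 1 n).filter fun i => d ∣ 2 * i).card = n / η := by
    rw [← Nat.Ioc_filter_dvd_card_eq_div]
    congr 1
    ext i
    simp only [Finset.mem_filter, Finset.mem_Icc, Finset.mem_Ioc, hη, orderOf_dvd_iff_pow_eq_one,
      Nat.cast_pow, ← pow_mul, hd]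
    rfl
  rw [hset]
  obtain ⟨φ, hφ⟩ := exists_pi_embedding ((Subgroup.zpowers x).subtype.comp e.toMonoidHom)
    ((Subgroup.subtype_injective _).comp e.injective) (n / η) n (Nat.div_mul_le_self n η)
  refine H40.sylow_iso_of_embedding r φ hφ ?_ P
  rw [H40.card_torus, ← pow_mul]
  congr 1
  have hne : ∀ i ∈ Finset.range n, q ^ (2 * (i + 1)) - 1 ≠ 0 := fun i _ => (hpos _ (by omega)).ne'
  rw [card_sp, Fintype.card_fin, ← Nat.card_eq_fintype_card, ← hqdef, Nat.factorization_def _ hr.out,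
    padicValNat.mul (pow_ne_zero _ (by omega)) (Finset.prod_ne_zero_iff.2 hne), padicValNat.pow,
    padicValNat.eq_zero_of_not_dvd hrq, mul_zero, zero_add,
    ← Nat.factorization_def _ hr.out, Nat.factorization_prod hne, Finset.sum_apply']
  rw [Finset.sum_congr rfl fun i hi => (by
    rw [Nat.factorization_def _ hr.out, pow_mul,
      H40.padicValNat_pow_sub_one (q ^ 2) r hq22 hrq2 (Nat.succ_pos i) (by simp at hi; omega), ← hη, hc2] :
    (q ^ (2 * (i + 1)) - 1).factorization r = if η ∣ i + 1 then c else 0),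
    ← Finset.sum_filter, Finset.sum_const, smul_eq_mul, mul_comm]
  congr 1
  rw [← Nat.Ioc_filter_dvd_card_eq_div]
  refine Finset.card_nbij' (fun i => i - 1) (fun i => i + 1) ?_ ?_ ?_ ?_
  · intro i hi
    simp only [Finset.coe_filter, Finset.mem_range, Finset.mem_Ioc, Set.mem_setOf_eq] at hi ⊢
    exact ⟨by omega, by rw [Nat.sub_add_cancel hi.1.1]; exact hi.2⟩
  · intro i hi
    simp only [Finset.coe_filter, Finset.mem_range, Finset.mem_Ioc, Set.mem_setOf_eq] at hi ⊢
    exact ⟨by omega, hi.2⟩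
  · intro i hi
    simp only [Finset.coe_filter, Finset.mem_Ioc, Set.mem_setOf_eq] at hi
    exact Nat.sub_add_cancel hi.1.1
  · intro i hi
    exact Nat.add_sub_cancel i 1

end H48
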