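import Mathlib
import Cfsg.Agent.H48.PointRad
import Cfsg.Agent.H48.SymRadical
import Cfsg.Agent.H49.StabMax

/-!
# A lower bound for the index of a subgroup from a point stabiliser
-/

set_option autoImplicit false

namespace H48

namespace MinIdx

open Matrix
open H49 (IsCtr)

/-- Multipliers of a proper additive subgroup of a finite field. -/
theorem scalar_bound {F : Type*} [Field F] [Fintype F] (hq : 3 ≤ Fintype.card F) (W : AddSubgroup F)
    (hW : W ≠ ⊤) (L : Set F) (hL : ∀ a ∈ L, a ≠ 0 ∧ ∀ w ∈ W, a * a * w ∈ W) :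
    (Fintype.card F + 2) * (Nat.card W * Nat.card L) ≤
        2 * Fintype.card F * (Fintype.card F - 1) ∧
      ((2 : F) = 0 → W ≠ ⊥ →
        (Fintype.card F + 2) * (Nat.card W * Nat.card L) ≤
          Fintype.card F * (Fintype.card F - 1)) := by
  classical
  set q := Fintype.card F with hq'
  have hLq : Nat.card L ≤ q - 1 := by
    rw [hq', ← Fintype.card_units, ← Nat.card_eq_fintype_card]
    exact Nat.card_le_card_of_injective (fun a : L => Units.mk0 a.1 (hL a.1 a.2).1)
      fun a b e => Subtype.ext (by simpa using congrArg Units.val e)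
  by_cases hb : W = ⊥
  · subst hb
    refine ⟨?_, fun _ h => absurd rfl h⟩
    rw [AddSubgroup.card_bot, one_mul]
    exact (Nat.mul_le_mul_left _ hLq).trans (Nat.mul_le_mul_right _ (by omega))
  obtain ⟨e, he⟩ : ∃ e, e ∉ W := by
    by_contra hcon
    exact hW (eq_top_iff.2 fun a _ => by_contra fun h => hcon ⟨a, h⟩)
  obtain ⟨w₀, hw₀, hw₀0⟩ : ∃ w ∈ W, w ≠ 0 := by
    by_contra hcon
    exact hb ((AddSubgroup.eq_bot_iff_forall _).2 fun a ha => by_contra fun h => hcon ⟨a, ha, h⟩)
  let S : AddSubgroup F :=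
    { carrier := {a | ∀ w ∈ W, a * w ∈ W}
      add_mem' := fun {a b} ha hb w hw => by rw [add_mul]; exact W.add_mem (ha w hw) (hb w hw)
      zero_mem' := fun w _ => by rw [zero_mul]; exact W.zero_mem
      neg_mem' := fun {a} ha w hw => by rw [neg_mul]; exact W.neg_mem (ha w hw) }
  have hmul : ∀ a b, a ∈ S → b ∈ S → a * b ∈ S := fun a b ha hb w hw => by
    rw [mul_assoc]; exact ha _ (hb w hw)
  have hpow : ∀ a ∈ S, ∀ k : ℕ, a ^ k ∈ S := by
    intro a ha k
    induction k with
    | zero => intro w hw; rwa [pow_zero, one_mul]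
    | succ k ih => rw [pow_succ]; exact hmul _ _ ih ha
  have hindep : ∀ a w, a ∈ S → w ∈ W → w + a * e = 0 → a = 0 := by
    intro a w ha hw h
    by_contra ha0
    have h1 : a * e ∈ W := by rw [eq_neg_of_add_eq_zero_right h]; exact W.neg_mem hw
    have h2 := hpow a ha (q - 2) _ h1
    rw [← mul_assoc, ← pow_succ, show q - 2 + 1 = q - 1 by omega, hq',
      FiniteField.pow_card_sub_one_eq_one a ha0, one_mul] at h2
    exact he h2
  set f := Nat.card S with hf
  have hWS : Nat.card W * f ≤ q := by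
    rw [hq', ← Nat.card_eq_fintype_card (α := F), hf, ← Nat.card_prod]
    refine Nat.card_le_card_of_injective (fun p : W × S => p.1.1 + p.2.1 * e) ?_
    rintro ⟨⟨w, hw⟩, ⟨a, ha⟩⟩ ⟨⟨w', hw'⟩, ⟨a', ha'⟩⟩ h
    have h' : w + a * e = w' + a' * e := h
    have h0 := hindep (a - a') (w - w') (S.sub_mem ha ha') (W.sub_mem hw hw')
      (by linear_combination h')
    rw [sub_eq_zero] at h0
    subst h0
    obtain rfl : w = w' := by linear_combination h'
    rfl
  have hSS : f * f ≤ q := by
    rw [hq', ← Nat.card_eq_fintype_card (α := F), hf, ← Nat.card_prod]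
    refine Nat.card_le_card_of_injective (fun p : S × S => p.1.1 * w₀ + p.2.1 * e) ?_
    rintro ⟨⟨b, hb⟩, ⟨a, ha⟩⟩ ⟨⟨b', hb'⟩, ⟨a', ha'⟩⟩ h
    have h' : b * w₀ + a * e = b' * w₀ + a' * e := h
    have h0 := hindep (a - a') ((b - b') * w₀) (S.sub_mem ha ha')
      (S.sub_mem hb hb' w₀ hw₀) (by linear_combination h')
    rw [sub_eq_zero] at h0
    subst h0
    obtain rfl : b = b' := mul_right_cancel₀ hw₀0 (by linear_combination h')
    rfl
  have hf2 : 2 ≤ f := by
    haveI : Nontrivial S := ⟨⟨0, ⟨1, fun w hw => by rwa [one_mul]⟩,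
      fun h => zero_ne_one (congrArg Subtype.val h)⟩⟩
    exact Finite.one_lt_card
  have hmain : (q + 2) * (f - 1) ≤ f * (q - 1) := by
    obtain ⟨j, hj⟩ : ∃ j, f = j + 1 := ⟨f - 1, by omega⟩
    obtain ⟨i, hi⟩ : ∃ i, q = i + 1 := ⟨q - 1, by omega⟩
    have h3 : 3 * f ≤ q + 2 := by
      rcases Nat.lt_or_ge f 3 with h | h
      · have : f = 2 := by omega
        rw [this] at hSS ⊢
        omega
      · nlinarith
    rw [hj, hi, Nat.add_sub_cancel, Nat.add_sub_cancel]
    nlinarith
  have hcardS : (Finset.univ.filter fun a : F => a ≠ 0 ∧ a ∈ S).card = f - 1 := by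
    rw [hf, Nat.card_eq_fintype_card, Fintype.card_subtype]
    have : (Finset.univ.filter fun a : F => a ≠ 0 ∧ a ∈ S) =
        (Finset.univ.filter fun a : F => a ∈ S).erase 0 := by
      ext a; simp
    rw [this, Finset.card_erase_of_mem (by simp)]
  have hmaps : ∀ a ∈ L.toFinset, a * a ∈ Finset.univ.filter fun a : F => a ≠ 0 ∧ a ∈ S :=
    fun a ha => by
      rw [Set.mem_toFinset] at ha
      exact Finset.mem_filter.2 ⟨Finset.mem_univ _, mul_ne_zero (hL a ha).1 (hL a ha).1, (hL a ha).2⟩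
  have hL2 : Nat.card L ≤ 2 * (f - 1) ∧ ((2 : F) = 0 → Nat.card L ≤ f - 1) := by
    rw [Nat.card_eq_fintype_card, ← Set.toFinset_card, ← hcardS]
    constructor
    · refine (Finset.card_le_mul_card_image (f := fun a => a * a) _ 2 fun b hb => ?_).trans
        (Nat.mul_le_mul_left _ (Finset.card_le_card fun b hb => ?_))
      · obtain ⟨a, -, rfl⟩ := Finset.mem_image.1 hb
        refine (Finset.card_le_card (t := {a, -a}) fun c hc => ?_).trans Finset.card_le_two
        rcases mul_self_eq_mul_self_iff.1 (Finset.mem_filter.1 hc).2 with h | h <;> simp [h]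
      · obtain ⟨a, ha, rfl⟩ := Finset.mem_image.1 hb
        exact hmaps a ha
    · intro h2
      refine Finset.card_le_card_of_injOn (fun a => a * a) hmaps fun a _ b _ h => ?_
      rcases mul_self_eq_mul_self_iff.1 h with h | h
      · exact h
      · rw [h]; linear_combination (-b) * h2
  constructor
  · calc (q + 2) * (Nat.card W * Nat.card L) ≤ (q + 2) * (Nat.card W * (2 * (f - 1))) :=
          Nat.mul_le_mul_left _ (Nat.mul_le_mul_left _ hL2.1)
      _ = 2 * (Nat.card W * ((q + 2) * (f - 1))) := by ring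
      _ ≤ 2 * (Nat.card W * (f * (q - 1))) :=
          Nat.mul_le_mul_left _ (Nat.mul_le_mul_left _ hmain)
      _ = 2 * (Nat.card W * f) * (q - 1) := by ring
      _ ≤ 2 * q * (q - 1) := Nat.mul_le_mul_right _ (Nat.mul_le_mul_left _ hWS)
  · intro h2 _
    calc (q + 2) * (Nat.card W * Nat.card L) ≤ (q + 2) * (Nat.card W * (f - 1)) :=
          Nat.mul_le_mul_left _ (Nat.mul_le_mul_left _ (hL2.2 h2))
      _ = Nat.card W * ((q + 2) * (f - 1)) := by ring
      _ ≤ Nat.card W * (f * (q - 1)) := Nat.mul_le_mul_left _ hmain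
      _ = Nat.card W * f * (q - 1) := by ring
      _ ≤ q * (q - 1) := Nat.mul_le_mul_right _ hWS

variable {m : ℕ} {F : Type*} [Field F]

local notation "V" => (Fin m ⊕ Fin m → F)
local notation "Sp" => Matrix.symplecticGroup (Fin m) F

variable (K : Subgroup (Matrix.symplecticGroup (Fin m) F)) (x y : Fin m ⊕ Fin m → F)

/-- The centre part of `K` in the radical. -/
def zPart : AddSubgroup F where
  carrier := {c | pu x 0 c ∈ K}
  add_mem' := fun {a b} ha hb => by
    have := K.mul_mem ha hb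
    rwa [pu_mul (map_zero _) (map_zero _), map_zero, add_zero, add_zero] at this
  zero_mem' := by
    show pu x 0 0 ∈ K
    rw [pu_zero]; exact K.one_mem
  neg_mem' := fun {a} ha => by
    have := K.inv_mem ha
    rwa [pu_inv (map_zero _), neg_zero] at this

/-- The image of `K` in the radical modulo its centre. -/
def iPart : AddSubgroup V where
  carrier := {v | v ∈ Vp x y ∧ ∃ c, pu x v c ∈ K}
  add_mem' := fun {a b} ⟨ha, c, hc⟩ ⟨hb, d, hd⟩ => ⟨add_mem ha hb, c + d + sf a b, by
    rw [← pu_mul ha.1 hb.1]; exact K.mul_mem hc hd⟩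
  zero_mem' := ⟨Submodule.zero_mem _, 0, by rw [pu_zero]; exact K.one_mem⟩
  neg_mem' := fun {a} ⟨ha, c, hc⟩ => ⟨neg_mem ha, -c, by rw [← pu_inv ha.1]; exact K.inv_mem hc⟩

/-- The projection of `K` to the Levi subgroup. -/
def levPart : Subgroup Sp where
  carrier := {l | l ∈ lev x y ∧ ∃ v ∈ Vp x y, ∃ c, pu x v c * l ∈ K}
  one_mem' := ⟨one_mem _, 0, Submodule.zero_mem _, 0, by rw [pu_zero, one_mul]; exact K.one_mem⟩
  mul_mem' := by
    rintro g h ⟨hg, v, hv, c, hvc⟩ ⟨hh, w, hw, d, hwd⟩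
    refine ⟨mul_mem hg hh, ?_⟩
    obtain ⟨a, ha, -⟩ := id hg
    have hw' : (a : F) • (g • w) ∈ Vp x y := Submodule.smul_mem _ _ (lev_smul_mem_Vp hg hw)
    refine ⟨v + (a : F) • (g • w), add_mem hv hw', c + (a : F) * a * d + sf v ((a : F) • (g • w)), ?_⟩
    rw [← pu_mul hv.1 hw'.1, ← pu_conj hw.1 d a.ne_zero ha]
    convert K.mul_mem hvc hwd using 1
    simp only [mul_assoc, inv_mul_cancel_left]
  inv_mem' := by
    rintro g ⟨hg, v, hv, c, hvc⟩
    refine ⟨inv_mem hg, ?_⟩
    obtain ⟨a, ha, -⟩ := id (inv_mem hg)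
    have hv' : (a : F) • (g⁻¹ • (-v)) ∈ Vp x y :=
      Submodule.smul_mem _ _ (lev_smul_mem_Vp (inv_mem hg) (neg_mem hv))
    refine ⟨_, hv', (a : F) * a * (-c), ?_⟩
    rw [← pu_conj (map_neg (sf x) v ▸ by rw [hv.1, neg_zero]) (-c) a.ne_zero ha, ← pu_inv hv.1]
    convert K.inv_mem hvc using 1
    group

/-- The scalars of the projection. -/
def lamSet : Set F := {a | ∃ l ∈ levPart K x y, l • x = a • x}

/-- The projection of `K` to the derived Levi subgroup. -/
def gamPart : Subgroup Sp := levPart K x y ⊓ lev1 x y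

variable {K x y}

theorem mem_zPart {c : F} : c ∈ zPart K x ↔ pu x 0 c ∈ K := Iff.rfl

theorem mem_iPart {v : V} : v ∈ iPart K x y ↔ v ∈ Vp x y ∧ ∃ c, pu x v c ∈ K := Iff.rfl

theorem mem_levPart {l : Sp} :
    l ∈ levPart K x y ↔ l ∈ lev x y ∧ ∃ v ∈ Vp x y, ∃ c, pu x v c * l ∈ K := Iff.rfl

theorem mem_gamPart {l : Sp} :
    l ∈ gamPart K x y ↔ l ∈ lev1 x y ∧ ∃ v ∈ Vp x y, ∃ c, pu x v c * l ∈ K :=
  ⟨fun h => ⟨h.2, h.1.2⟩, fun h => ⟨⟨lev1_le_lev h.1, h.2⟩, h.1⟩⟩

/-- The scalars preserve the centre part. -/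
theorem lamSet_spec (hxy : sf x y = 1) {a : F} (ha : a ∈ lamSet K x y) :
    a ≠ 0 ∧ ∀ w ∈ zPart K x, a * a * w ∈ zPart K x := by
  obtain ⟨l, ⟨-, v, hv, c, hvc⟩, hl⟩ := ha
  have hx : x ≠ 0 := fun h => by simp [h] at hxy
  have ha0 : a ≠ 0 := fun h => hx (by
    rw [h, zero_smul] at hl
    exact (smul_eq_zero_iff_eq l).1 hl)
  refine ⟨ha0, fun w hw => ?_⟩
  have h1 := K.mul_mem (K.mul_mem hvc hw) (K.inv_mem hvc)
  have h2 : (pu x v c * l) • x = a • x := by rw [mul_smul, hl, smul_comm, pu_smul_self hv.1]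
  rw [pu_conj (map_zero _) w ha0 h2, smul_zero, smul_zero] at h1
  exact h1

theorem zPart_ne_top (h : ¬ IsCtr K x) : zPart K x ≠ ⊤ := fun he => h fun c => by
  have hc : (-c) ∈ zPart K x := he ▸ AddSubgroup.mem_top _
  rw [mem_zPart, pu_eq_tv, neg_neg] at hc
  exact hc

variable [Fintype F]

theorem card_inf_pst_le (hxy : sf x y = 1) :
    Nat.card (K ⊓ pst x : Subgroup Sp) ≤
      Nat.card (levPart K x y) * (Nat.card (iPart K x y) * Nat.card (zPart K x)) := by
  classical
  choose sv hsvV sc hs using fun l : levPart K x y => l.2.2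
  choose tc ht using fun v : iPart K x y => v.2.2
  have key : ∀ g : (K ⊓ pst x : Subgroup Sp), ∃ p : levPart K x y × (iPart K x y × zPart K x),
      (g : Sp) = pu x (0 : V) p.2.2 * pu x p.2.1 (tc p.2.1) * (pu x (sv p.1) (sc p.1) * p.1) := by
    rintro ⟨g, hgK, hgP⟩
    obtain ⟨v, hv, c, l, hl, rfl⟩ := exists_decomp hxy hgP
    let l' : levPart K x y := ⟨l, hl, v, hv, c, hgK⟩
    have h1 := K.mul_mem hgK (K.inv_mem (hs l'))
    have e : (pu x v c * l) * (pu x (sv l') (sc l') * l)⁻¹ =
        pu x (v + -sv l') (c + -sc l' + sf v (-sv l')) := by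
      rw [_root_.mul_inv_rev, mul_assoc, mul_inv_cancel_left, pu_inv (hsvV l').1,
        pu_mul hv.1 (by rw [map_neg, (hsvV l').1, neg_zero])]
    rw [e] at h1
    let v' : iPart K x y := ⟨_, add_mem hv (neg_mem (hsvV l')), _, h1⟩
    have h2 := K.mul_mem h1 (K.inv_mem (ht v'))
    have hv'0 : sf x (-(v' : V)) = 0 := by rw [map_neg, v'.2.1.1, neg_zero]
    rw [pu_inv v'.2.1.1, pu_mul v'.2.1.1 hv'0, (sf (v' : V)).map_neg, sf_self, neg_zero, add_zero,
      add_neg_cancel] at h2
    refine ⟨(l', v', ⟨_, h2⟩), ?_⟩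
    show pu x v c * l = _
    rw [pu_mul (map_zero _) v'.2.1.1, zero_add, map_zero, LinearMap.zero_apply, add_zero,
      neg_add_cancel_right, ← e, ← mul_assoc]
    simp [mul_assoc, l']
  choose φ hφ using key
  rw [← Nat.card_prod, ← Nat.card_prod]
  exact Nat.card_le_card_of_injective φ fun g g' h => Subtype.ext (by rw [hφ g, hφ g', h])

theorem card_levPart_le (hxy : sf x y = 1) :
    Nat.card (levPart K x y) ≤ Nat.card (lamSet K x y) * Nat.card (gamPart K x y) := by
  classical
  have hx : x ≠ 0 := fun h => by simp [h] at hxy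
  rw [card_eq_image_mul_stab (levPart K x y) (gamPart K x y) (fun g => g • x) inf_le_left
    (fun g hg h hh => by
      constructor
      · intro e
        change g • x = h • x at e
        obtain ⟨a, ha, ha'⟩ := hg.1
        obtain ⟨b, hb, hb'⟩ := hh.1
        obtain rfl : a = b := Units.ext (smul_left_injective F hx (ha.symm.trans (e.trans hb)))
        refine ⟨(levPart K x y).mul_mem ((levPart K x y).inv_mem hg) hh, ?_, ?_⟩
        · rw [mul_smul, ← e, inv_smul_smul]
        · rw [mul_smul, hb', ← ha', inv_smul_smul]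
      · intro e
        have := e.2.1
        rw [mul_smul, inv_smul_eq_iff] at this
        exact this.symm)]
  refine Nat.mul_le_mul_right _ ?_
  have : ∀ z : ((fun g : Sp => g • x) '' (levPart K x y : Set Sp)),
      ∃ a : lamSet K x y, (z : V) = (a : F) • x := by
    rintro ⟨_, g, hg, rfl⟩
    obtain ⟨a, ha, -⟩ := hg.1
    exact ⟨⟨a, g, hg, ha⟩, ha⟩
  choose φ hφ using this
  exact Nat.card_le_card_of_injective φ fun a b h => Subtype.ext (by rw [hφ a, hφ b, h])

/-- The main inequality. -/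
theorem master (hxy : sf x y = 1) :
    Fintype.card F * (Fintype.card F - 1) * (Nat.card (Vp x y) * Nat.card (lev1 x y)) ≤
      Nat.card (zPart K x) * Nat.card (lamSet K x y) *
        (K.index * (Nat.card (iPart K x y) * Nat.card (gamPart K x y))) := by
  have h1 : Nat.card (pst x) ≤ K.index * Nat.card (K ⊓ pst x : Subgroup Sp) := by
    rw [← (K.subgroupOf (pst x)).index_mul_card]
    have e : Nat.card (K.subgroupOf (pst x)) = Nat.card (K ⊓ pst x : Subgroup Sp) := by
      rw [← Subgroup.inf_subgroupOf_right]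
      exact Nat.card_congr (Subgroup.subgroupOfEquivOfLe inf_le_right).toEquiv
    rw [e]
    refine Nat.mul_le_mul_right _ ?_
    calc (K.subgroupOf (pst x)).index = K.relIndex (pst x) := rfl
      _ ≤ K.relIndex ⊤ := Subgroup.relIndex_le_of_le_right le_top (by
          rw [Subgroup.relIndex_top_right]; exact Subgroup.index_ne_zero_of_finite)
      _ = K.index := Subgroup.relIndex_top_right _
  rw [card_pst hxy] at h1
  have h2 := Nat.mul_le_mul_left K.index
    ((card_inf_pst_le (K := K) hxy).trans (Nat.mul_le_mul_right _ (card_levPart_le hxy)))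
  calc _ = Nat.card (Vp x y) * Fintype.card F * ((Fintype.card F - 1) * Nat.card (lev1 x y)) := by ring
    _ ≤ Nat.card (Vp x y) * Fintype.card F * Nat.card (lev x y) :=
        Nat.mul_le_mul_left _ (lev_card_ge hxy)
    _ ≤ _ := h1.trans h2
    _ = _ := by ring

/-- The general bound. -/
theorem bound_weak (hq : 3 ≤ Fintype.card F) (hxy : sf x y = 1) (h : ¬ IsCtr K x) :
    (Fintype.card F + 2) * (Nat.card (Vp x y) * Nat.card (lev1 x y)) ≤
      2 * (K.index * (Nat.card (iPart K x y) * Nat.card (gamPart K x y))) := by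
  have h1 := master (K := K) hxy
  have h2 := (scalar_bound hq _ (zPart_ne_top h) (lamSet K x y) fun a ha => lamSet_spec hxy ha).1
  set q := Fintype.card F
  have hpos : 0 < q * (q - 1) := by
    exact Nat.mul_pos (by omega) (by omega)
  refine Nat.le_of_mul_le_mul_left ?_ hpos
  calc q * (q - 1) * ((q + 2) * (Nat.card (Vp x y) * Nat.card (lev1 x y)))
      = (q + 2) * (q * (q - 1) * (Nat.card (Vp x y) * Nat.card (lev1 x y))) := by ring
    _ ≤ (q + 2) * (Nat.card (zPart K x) * Nat.card (lamSet K x y) *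
        (K.index * (Nat.card (iPart K x y) * Nat.card (gamPart K x y)))) := Nat.mul_le_mul_left _ h1
    _ = (q + 2) * (Nat.card (zPart K x) * Nat.card (lamSet K x y)) *
        (K.index * (Nat.card (iPart K x y) * Nat.card (gamPart K x y))) := by ring
    _ ≤ 2 * q * (q - 1) * (K.index * (Nat.card (iPart K x y) * Nat.card (gamPart K x y))) :=
        Nat.mul_le_mul_right _ h2
    _ = _ := by ring

/-- The sharper bound in even characteristic. -/
theorem bound_strong (hq : 3 ≤ Fintype.card F) (hxy : sf x y = 1) (h : ¬ IsCtr K x)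
    (h2 : (2 : F) = 0) (hz : zPart K x ≠ ⊥) :
    (Fintype.card F + 2) * (Nat.card (Vp x y) * Nat.card (lev1 x y)) ≤
      K.index * (Nat.card (iPart K x y) * Nat.card (gamPart K x y)) := by
  have h1 := master (K := K) hxy
  have h3 := (scalar_bound hq _ (zPart_ne_top h) (lamSet K x y) fun a ha => lamSet_spec hxy ha).2 h2 hz
  set q := Fintype.card F
  have hpos : 0 < q * (q - 1) := by
    exact Nat.mul_pos (by omega) (by omega)
  refine Nat.le_of_mul_le_mul_left ?_ hpos
  calc q * (q - 1) * ((q + 2) * (Nat.card (Vp x y) * Nat.card (lev1 x y)))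
      = (q + 2) * (q * (q - 1) * (Nat.card (Vp x y) * Nat.card (lev1 x y))) := by ring
    _ ≤ (q + 2) * (Nat.card (zPart K x) * Nat.card (lamSet K x y) *
        (K.index * (Nat.card (iPart K x y) * Nat.card (gamPart K x y)))) := Nat.mul_le_mul_left _ h1
    _ = (q + 2) * (Nat.card (zPart K x) * Nat.card (lamSet K x y)) *
        (K.index * (Nat.card (iPart K x y) * Nat.card (gamPart K x y))) := by ring
    _ ≤ q * (q - 1) * (K.index * (Nat.card (iPart K x y) * Nat.card (gamPart K x y))) :=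
        Nat.mul_le_mul_right _ h3

end MinIdx

end H48
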