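import Mathlib
import Cfsg.Agent.H48.MinBound

/-!
# The annihilator of the image in the radical and orbit bounds
-/

set_option autoImplicit false

namespace H48

namespace MinIdx

open Matrix
open H49 (IsCtr)

variable {m : ℕ} {F : Type*} [Field F] {x y : Fin m ⊕ Fin m → F}

local notation "V" => (Fin m ⊕ Fin m → F)
local notation "Sp" => Matrix.symplecticGroup (Fin m) F

theorem perp_Vp_eq_zero (hxy : sf x y = 1) {d : V} (hd : d ∈ Vp x y)
    (h : ∀ v ∈ Vp x y, sf d v = 0) : d = 0 := by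
  refine eq_zero_of_sf fun z => ?_
  have hv : z - sf x z • y + sf y z • x ∈ Vp x y := by
    refine ⟨?_, ?_⟩ <;> simp [hxy, sf_swap x y]
  have := h _ hv
  simpa [sf_eq_zero_comm hd.1, sf_eq_zero_comm hd.2] using this

theorem Vp_exists_ne (hxy : sf x y = 1) {d : V} (hd : d ∈ Vp x y) (hd0 : d ≠ 0) :
    ∃ v ∈ Vp x y, sf d v = 1 := by
  obtain ⟨v, hv, hv0⟩ : ∃ v ∈ Vp x y, sf d v ≠ 0 := by
    by_contra hcon
    simp only [not_exists, not_and, not_not] at hcon
    exact hd0 (perp_Vp_eq_zero hxy hd hcon)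
  exact ⟨(sf d v)⁻¹ • v, Submodule.smul_mem _ _ hv, by rw [map_smul, smul_eq_mul, inv_mul_cancel₀ hv0]⟩

/-- The annihilator for an additive character. -/
def annih (x y : V) (ψ : AddChar F ℂ) (I : AddSubgroup V) : AddSubgroup V where
  carrier := {j | j ∈ Vp x y ∧ ∀ i ∈ I, ψ (sf i j) = 1}
  add_mem' := fun {a b} ⟨ha, ha'⟩ ⟨hb, hb'⟩ => ⟨add_mem ha hb, fun i hi => by
    rw [map_add, AddChar.map_add_eq_mul, ha' i hi, hb' i hi, one_mul]⟩
  zero_mem' := ⟨Submodule.zero_mem _, fun i _ => by rw [map_zero, AddChar.map_zero_eq_one]⟩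
  neg_mem' := fun {a} ⟨ha, ha'⟩ => ⟨neg_mem ha, fun i hi => by
    rw [map_neg, AddChar.map_neg_eq_inv, ha' i hi, inv_one]⟩

theorem mem_annih {ψ : AddChar F ℂ} {I : AddSubgroup V} {j : V} :
    j ∈ annih x y ψ I ↔ j ∈ Vp x y ∧ ∀ i ∈ I, ψ (sf i j) = 1 := Iff.rfl

/-- An element fixing both vectors and preserving `I` preserves the annihilator. -/
theorem annih_smul {ψ : AddChar F ℂ} {I : AddSubgroup V} {g : Sp} (hg : g ∈ lev1 x y)
    (hI : ∀ i ∈ I, g⁻¹ • i ∈ I) {j : V} (hj : j ∈ annih x y ψ I) : g • j ∈ annih x y ψ I := by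
  refine ⟨lev_smul_mem_Vp (lev1_le_lev hg) hj.1, fun i hi => ?_⟩
  rw [← sf_smul_smul g⁻¹, inv_smul_smul]
  exact hj.2 _ (hI i hi)

variable [Fintype F]

theorem annih_card (hxy : sf x y = 1) {ψ : AddChar F ℂ} (hψ : ψ.IsPrimitive) (I : AddSubgroup V)
    (hI : ∀ i ∈ I, i ∈ Vp x y) :
    Nat.card (annih x y ψ I) * Nat.card I = Nat.card (Vp x y) := by
  classical
  let J : AddSubgroup (Vp x y) := (annih x y ψ I).comap (Vp x y).subtype.toAddMonoidHom
  have hJ : Nat.card J = Nat.card (annih x y ψ I) :=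
    Nat.card_congr
      { toFun := fun v => ⟨v.1.1, v.2⟩
        invFun := fun v => ⟨⟨v.1, v.2.1⟩, v.2⟩
        left_inv := fun v => rfl
        right_inv := fun v => rfl }
  rw [← hJ, ← J.card_mul_index]
  congr 1
  haveI : Fintype (Vp x y ⧸ J) := Fintype.ofFinite _
  haveI : Fintype I := Fintype.ofFinite _
  rw [AddSubgroup.index_eq_card]
  refine le_antisymm ?_ ?_
  · rw [Nat.card_eq_fintype_card (α := Vp x y ⧸ J), ← AddChar.card_eq (α := Vp x y ⧸ J),
      ← Nat.card_eq_fintype_card]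
    let θ : I → AddChar (Vp x y ⧸ J) ℂ := fun i =>
      { toFun := fun v => Quotient.liftOn' v (fun v => ψ (sf (i : V) (v : V))) (fun a b h => by
          rw [QuotientAddGroup.leftRel_apply] at h
          have h1 : ψ (sf (i : V) ((-a + b : Vp x y) : V)) = 1 := h.2 i.1 i.2
          rw [Submodule.coe_add, Submodule.coe_neg, map_add, map_neg, AddChar.map_add_eq_mul,
            AddChar.map_neg_eq_inv] at h1
          exact (inv_mul_eq_one₀ (AddChar.val_isUnit ψ _).ne_zero).1 h1)
        map_zero_eq_one' := by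
          show ψ (sf (i : V) ((0 : Vp x y) : V)) = 1
          simp
        map_add_eq_mul' := fun a b => by
          induction a using QuotientAddGroup.induction_on with | _ a => ?_
          induction b using QuotientAddGroup.induction_on with | _ b => ?_
          show ψ (sf (i : V) ((a + b : Vp x y) : V)) = _
          rw [Submodule.coe_add, map_add, AddChar.map_add_eq_mul]
          rfl }
    refine Nat.card_le_card_of_injective θ fun i i' h => Subtype.ext ?_
    rw [← sub_eq_zero]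
    refine perp_Vp_eq_zero hxy (sub_mem (hI _ i.2) (hI _ i'.2)) fun v hv => ?_
    by_contra hne
    obtain ⟨c, hc⟩ := AddChar.ne_one_iff.1 (hψ hne)
    apply hc
    have e := DFunLike.congr_fun h (QuotientAddGroup.mk (⟨c • v, Submodule.smul_mem _ _ hv⟩ : Vp x y))
    change ψ (sf (i : V) (c • v)) = ψ (sf (i' : V) (c • v)) at e
    rw [AddChar.mulShift_apply, map_sub, LinearMap.sub_apply, sub_mul, AddChar.map_sub_eq_div,
      mul_comm, mul_comm _ c, ← smul_eq_mul, ← map_smul, ← smul_eq_mul, ← map_smul, e,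
      div_self (AddChar.val_isUnit ψ _).ne_zero]
  · rw [Nat.card_eq_fintype_card (α := I), ← AddChar.card_eq (α := I), ← Nat.card_eq_fintype_card]
    let η : Vp x y → AddChar I ℂ := fun v =>
      { toFun := fun i => ψ (sf (i : V) (v : V))
        map_zero_eq_one' := by simp
        map_add_eq_mul' := fun a b => by simp [AddChar.map_add_eq_mul] }
    refine Nat.card_le_card_of_injective (fun v : Vp x y ⧸ J => η v.out) fun a b h => ?_
    rw [← QuotientAddGroup.out_eq' a, ← QuotientAddGroup.out_eq' b, QuotientAddGroup.eq]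
    refine ⟨(-a.out + b.out).2, fun i hi => ?_⟩
    have e := DFunLike.congr_fun h ⟨i, hi⟩
    change ψ (sf i (a.out : V)) = ψ (sf i (b.out : V)) at e
    show ψ (sf i ((-a.out + b.out : Vp x y) : V)) = 1
    rw [Submodule.coe_add, Submodule.coe_neg, map_add, map_neg, AddChar.map_add_eq_mul,
      AddChar.map_neg_eq_inv, e, inv_mul_cancel₀ (AddChar.val_isUnit ψ _).ne_zero]

/-- Orbit counting inside a subgroup of the derived Levi subgroup. -/
theorem card_le_orbit_mul (Γ : Subgroup Sp) {j : V} (S : Set V) (hS : ∀ g ∈ Γ, g • j ∈ S) :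
    Nat.card Γ ≤ Nat.card S * Nat.card (Γ ⊓ fixFam (fun _ : Unit => j) : Subgroup Sp) := by
  classical
  rw [card_eq_image_mul_stab Γ (Γ ⊓ fixFam (fun _ : Unit => j)) (fun g => g • j) inf_le_left
    (fun g hg h hh => by
      rw [Subgroup.mem_inf, mem_fixFam]
      simp only [mul_smul, forall_const, mul_mem (inv_mem hg) hh, true_and, inv_smul_eq_iff]
      exact eq_comm)]
  refine Nat.mul_le_mul_right _ (Nat.card_mono (Set.toFinite _) ?_)
  rintro _ ⟨g, hg, rfl⟩
  exact hS g hg

theorem two_mul_card_le {G : Type*} [Group G] [Finite G] {A B : Subgroup G} (h : A ≤ B)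
    (hne : ¬ B ≤ A) : 2 * Nat.card A ≤ Nat.card B := by
  have h1 := (A.subgroupOf B).index_mul_card
  rw [Nat.card_congr (Subgroup.subgroupOfEquivOfLe h).toEquiv] at h1
  have h2 : 2 ≤ (A.subgroupOf B).index := by
    have h3 : (A.subgroupOf B).index ≠ 0 := Subgroup.index_ne_zero_of_finite
    have h4 : (A.subgroupOf B).index ≠ 1 := by
      rw [Ne, Subgroup.index_eq_one, Subgroup.subgroupOf_eq_top]
      exact hne
    omega
  rw [← h1]
  exact Nat.mul_le_mul_right _ h2

end MinIdx

end H48
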