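import Mathlib
import Cfsg.Agent.H48.MinDual

/-!
# Tools for the case analysis: dilations, conjugation inside the radical
-/

set_option autoImplicit false

namespace H48

namespace MinIdx

open Matrix
open H49 (IsCtr)

variable {m : ℕ} {F : Type*} [Field F]

local notation "V" => (Fin m ⊕ Fin m → F)
local notation "Sp" => Matrix.symplecticGroup (Fin m) F

/-- The map scaling a hyperbolic pair by `a`, `a⁻¹` and its orthogonal by `b`. -/
def dilLin (x y : V) (a b : F) : V →ₗ[F] V :=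
  b • LinearMap.id - ((a - b) • sf y).smulRight x + ((a⁻¹ - b) • sf x).smulRight y

theorem dilLin_apply (x y : V) (a b : F) (z : V) :
    dilLin x y a b z = b • z - ((a - b) * sf y z) • x + ((a⁻¹ - b) * sf x z) • y := rfl

theorem dilLin_mem (x y : V) (hxy : sf x y = 1) {a b : F} (ha : a ≠ 0) (hb : b * b = 1) :
    LinearMap.toMatrix' (dilLin x y a b) ∈ Sp := by
  rw [mem_symplectic_iff]
  intro z w
  have hyx : sf y x = -1 := by rw [sf_swap, hxy]
  simp only [LinearMap.toMatrix'_mulVec, dilLin_apply, map_add, map_sub, LinearMap.add_apply,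
    LinearMap.sub_apply, map_smul, LinearMap.smul_apply, smul_eq_mul, sf_self, hxy, hyx]
  rw [sf_swap x z, sf_swap y z]
  linear_combination (sf z w + sf y z * sf x w - sf x z * sf y w) * hb
    + (sf x z * sf y w - sf y z * sf x w) * mul_inv_cancel₀ ha

open Classical in
/-- The dilation. -/
noncomputable def dil (x y : V) (a b : F) : Sp :=
  if h : sf x y = 1 ∧ a ≠ 0 ∧ b * b = 1 then ⟨_, dilLin_mem x y h.1 h.2.1 h.2.2⟩ else 1

variable {x y : Fin m ⊕ Fin m → F}

theorem dil_smul (hxy : sf x y = 1) {a b : F} (ha : a ≠ 0) (hb : b * b = 1) (z : V) :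
    dil x y a b • z = b • z - ((a - b) * sf y z) • x + ((a⁻¹ - b) * sf x z) • y := by
  rw [dil, dif_pos ⟨hxy, ha, hb⟩]
  show LinearMap.toMatrix' (dilLin x y a b) *ᵥ z = _
  rw [LinearMap.toMatrix'_mulVec, dilLin_apply]

theorem dil_left (hxy : sf x y = 1) {a b : F} (ha : a ≠ 0) (hb : b * b = 1) :
    dil x y a b • x = a • x := by
  rw [dil_smul hxy ha hb, sf_self, sf_swap x y, hxy]; module

theorem dil_right (hxy : sf x y = 1) {a b : F} (ha : a ≠ 0) (hb : b * b = 1) :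
    dil x y a b • y = a⁻¹ • y := by
  rw [dil_smul hxy ha hb, sf_self, hxy]; module

theorem dil_perp (hxy : sf x y = 1) {a b : F} (ha : a ≠ 0) (hb : b * b = 1) {v : V}
    (hv : v ∈ Vp x y) : dil x y a b • v = b • v := by
  rw [dil_smul hxy ha hb, hv.1, hv.2]; module

theorem dil_mem_lev (hxy : sf x y = 1) {a b : F} (ha : a ≠ 0) (hb : b * b = 1) :
    dil x y a b ∈ lev x y :=
  ⟨Units.mk0 a ha, by simpa using dil_left hxy ha hb, by simpa using dil_right hxy ha hb⟩

theorem dil_pow (hxy : sf x y = 1) {a b : F} (ha : a ≠ 0) (hb : b * b = 1) (k : ℕ) :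
    dil x y a b ^ k = dil x y (a ^ k) (b ^ k) := by
  induction k with
  | zero =>
    refine sp_ext fun z => ?_
    rw [pow_zero, one_smul, pow_zero, pow_zero, dil_smul hxy one_ne_zero (one_mul 1)]
    simp
  | succ k ih =>
    refine sp_ext fun z => ?_
    have hb' : b ^ k * b ^ k = 1 := by rw [← mul_pow, hb, one_pow]
    rw [pow_succ, ih, mul_smul, dil_smul hxy ha hb, smul_add, smul_sub, smul_comm _ b, smul_comm _ ((a - b) * _),
      smul_comm _ ((a⁻¹ - b) * _), dil_left hxy (pow_ne_zero k ha) hb', dil_right hxy (pow_ne_zero k ha) hb',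
      dil_smul hxy (pow_ne_zero k ha) hb', dil_smul hxy (pow_ne_zero _ ha) (by
        rw [← mul_pow, hb, one_pow]), pow_succ, pow_succ, _root_.mul_inv_rev]
    match_scalars <;> ring

/-- A dilation of the orthogonal commutes with the derived Levi subgroup. -/
theorem dil_comm (hxy : sf x y = 1) {a b : F} (ha : a ≠ 0) (hb : b * b = 1) {g : Sp}
    (hg : g ∈ lev1 x y) : dil x y a b * g * (dil x y a b)⁻¹ = g := by
  rw [mul_inv_eq_iff_eq_mul]
  refine sp_ext fun z => ?_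
  have e1 : sf x (g • z) = sf x z := by
    conv_lhs => rw [← hg.1, sf_smul_smul]
  have e2 : sf y (g • z) = sf y z := by
    conv_lhs => rw [← hg.2, sf_smul_smul]
  rw [mul_smul, mul_smul, dil_smul hxy ha hb, dil_smul hxy ha hb, e1, e2, smul_add, smul_sub,
    smul_comm g b, smul_comm g ((a - b) * _), smul_comm g ((a⁻¹ - b) * _), hg.1, hg.2]

theorem lev1_comm_centre (hxy : sf x y = 1) {g : Sp} (hg : g ∈ lev1 x y) (e : F) :
    g * pu x 0 e * g⁻¹ = pu x 0 e := by
  have hx : g • x = (1 : F) • x := by rw [one_smul]; exact hg.1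
  rw [pu_conj (map_zero _) e one_ne_zero hx, smul_zero, smul_zero, one_mul, one_mul]

variable {K : Subgroup (Matrix.symplecticGroup (Fin m) F)}

/-- Conjugating a radical element by an element of `K` over a Levi element. -/
theorem conj_rad {w v : V} {d c : F} {l : Sp} {a : F} (hw : w ∈ Vp x y) (hv : v ∈ Vp x y)
    (hl : l ∈ lev x y) (ha : a ≠ 0) (hlx : l • x = a • x) (h1 : pu x w d * l ∈ K)
    (h2 : pu x v c ∈ K) :
    pu x (a • (l • v)) (a * a * c + 2 * sf w (a • (l • v))) ∈ K := by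
  have h := K.mul_mem (K.mul_mem h1 h2) (K.inv_mem h1)
  have hv' : a • (l • v) ∈ Vp x y := Submodule.smul_mem _ _ (lev_smul_mem_Vp hl hv)
  have e : pu x w d * l * pu x v c * (pu x w d * l)⁻¹ =
      pu x w d * pu x (a • (l • v)) (a * a * c) * (pu x w d)⁻¹ := by
    rw [← pu_conj hv.1 c ha hlx]; group
  rw [e] at h
  generalize a • (l • v) = u at h hv' ⊢
  rw [pu_inv hw.1, pu_mul hw.1 hv'.1, pu_mul (add_mem hw hv').1 (neg_mem hw).1] at h
  convert h using 2
  · abel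
  · simp only [map_add, map_neg, LinearMap.add_apply, sf_self, sf_swap w u]
    ring

theorem lev1_smul_x {g : Sp} (hg : g ∈ lev1 x y) : g • x = (1 : F) • x := by
  rw [one_smul]; exact hg.1

theorem comm_mem {v v' : V} (hv : v ∈ iPart K x y) (hv' : v' ∈ iPart K x y) :
    2 * sf v v' ∈ zPart K x := by
  obtain ⟨hvV, c, hc⟩ := hv
  obtain ⟨hv'V, c', hc'⟩ := hv'
  have h := K.mul_mem (K.mul_mem (K.mul_mem hc hc') (K.inv_mem hc)) (K.inv_mem hc')
  rw [pu_inv hvV.1, pu_inv hv'V.1, pu_mul hvV.1 hv'V.1,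
    pu_mul (add_mem hvV hv'V).1 (neg_mem hvV).1,
    pu_mul (add_mem (add_mem hvV hv'V) (neg_mem hvV)).1 (neg_mem hv'V).1] at h
  rw [mem_zPart]
  convert h using 2
  · abel
  · simp only [map_add, map_neg, LinearMap.add_apply, LinearMap.neg_apply, sf_self, sf_swap v v']
    ring

theorem gamPart_smul_iPart {g : Sp} (hg : g ∈ gamPart K x y) {v : V} (hv : v ∈ iPart K x y) :
    g • v ∈ iPart K x y := by
  obtain ⟨hg1, w, hw, d, hwd⟩ := mem_gamPart.1 hg
  obtain ⟨hvV, c, hc⟩ := hv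
  have := conj_rad hw hvV (lev1_le_lev hg1) one_ne_zero (lev1_smul_x hg1) hwd hc
  rw [one_smul] at this
  exact ⟨lev_smul_mem_Vp (lev1_le_lev hg1) hvV, _, this⟩

/-- Conjugate of `K` by a radical element. -/
noncomputable def conjK (K : Subgroup (Matrix.symplecticGroup (Fin m) F)) (u : Sp) : Subgroup Sp :=
  K.comap (MulAut.conj u).toMonoidHom

theorem mem_conjK {u g : Sp} : g ∈ conjK K u ↔ u * g * u⁻¹ ∈ K := Iff.rfl

theorem conjK_isCtr {u : Sp} {v : V} (h : IsCtr (conjK K u) v) : IsCtr K (u • v) := fun c => by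
  rw [← tv_conj]; exact h c

variable {w₀ : Fin m ⊕ Fin m → F} {d₀ : F}

theorem conjK_iPart (hw₀ : w₀ ∈ Vp x y) :
    ∀ v, v ∈ iPart (conjK K (pu x w₀ d₀)) x y ↔ v ∈ iPart K x y := by
  intro v
  have key : ∀ v ∈ Vp x y, ∀ c, pu x w₀ d₀ * pu x v c * (pu x w₀ d₀)⁻¹ = pu x v (c + 2 * sf w₀ v) := by
    intro v hv c
    rw [pu_inv hw₀.1, pu_mul hw₀.1 hv.1, pu_mul (add_mem hw₀ hv).1 (neg_mem hw₀).1]
    congr 1
    · abel
    · simp only [map_add, map_neg, LinearMap.add_apply, sf_self, sf_swap w₀ v]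
      ring
  constructor
  · rintro ⟨hv, c, hc⟩
    have h := mem_conjK.1 hc
    rw [key v hv c] at h
    exact ⟨hv, _, h⟩
  · rintro ⟨hv, c, hc⟩
    refine ⟨hv, c - 2 * sf w₀ v, mem_conjK.2 ?_⟩
    rw [key v hv, sub_add_cancel]
    exact hc

theorem conjK_zPart (hw₀ : w₀ ∈ Vp x y) :
    zPart (conjK K (pu x w₀ d₀)) x = zPart K x := by
  ext c
  rw [mem_zPart, mem_zPart, mem_conjK, pu_inv hw₀.1, pu_mul hw₀.1 (map_zero _), add_zero,
    pu_mul hw₀.1 (neg_mem hw₀).1, map_neg, sf_self, map_zero, neg_zero, add_zero, add_zero,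
    add_neg_cancel, add_neg_cancel_comm]

/-- Moving a Levi element of the projection to the conjugate. -/
theorem conjK_elem (hw₀ : w₀ ∈ Vp x y) {w : V} (hw : w ∈ Vp x y) {d : F} {l : Sp}
    (hl : l ∈ lev x y) {a : F} (ha : a ≠ 0) (hlx : l • x = a • x) (h : pu x w d * l ∈ K) :
    pu x (-w₀ + w + a • (l • w₀))
      (-d₀ + d + sf (-w₀) w + a * a * d₀ + sf (-w₀ + w) (a • (l • w₀))) * l ∈
        conjK K (pu x w₀ d₀) := by
  have hv' : a • (l • w₀) ∈ Vp x y := Submodule.smul_mem _ _ (lev_smul_mem_Vp hl hw₀)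
  rw [mem_conjK]
  convert h using 1
  rw [← pu_mul (add_mem (neg_mem hw₀) hw).1 hv'.1, ← pu_mul (neg_mem hw₀).1 hw.1,
    ← pu_inv hw₀.1, ← pu_conj hw₀.1 d₀ ha hlx]
  group

theorem conjK_gamPart (hw₀ : w₀ ∈ Vp x y) {g : Sp} (hg : g ∈ gamPart K x y) :
    g ∈ gamPart (conjK K (pu x w₀ d₀)) x y := by
  obtain ⟨hg1, w, hw, d, hwd⟩ := mem_gamPart.1 hg
  refine mem_gamPart.2 ⟨hg1, _, ?_, _, conjK_elem hw₀ hw (lev1_le_lev hg1) one_ne_zero (lev1_smul_x hg1) hwd⟩
  exact add_mem (add_mem (neg_mem hw₀) hw) (Submodule.smul_mem _ _ (lev_smul_mem_Vp (lev1_le_lev hg1) hw₀))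

theorem exists_unit_sq_ne_one [Fintype F] (hq : 4 ≤ Fintype.card F) :
    ∃ ν : F, ν ≠ 0 ∧ ν ≠ 1 ∧ ν * ν ≠ 1 := by
  classical
  obtain ⟨ν, -, hν⟩ := Finset.exists_mem_notMem_of_card_lt_card (s := ({0, 1, -1} : Finset F))
    (t := Finset.univ) (by
      have := Finset.card_le_three (a := (0 : F)) (b := 1) (c := -1)
      rw [Finset.card_univ]; omega)
  simp only [Finset.mem_insert, Finset.mem_singleton, not_or] at hν
  refine ⟨ν, hν.1, hν.2.1, fun h => ?_⟩
  rcases mul_self_eq_one_iff.1 h with h | h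
  · exact hν.2.1 h
  · exact hν.2.2 h

/-- Scaling turns a twisted root group into a root group. -/
theorem ctr_of_scaling [Fintype F] (hxy : sf x y = 1) {z : V} (hz : z ∈ Vp x y) {g : Sp} (hg : g ∈ lev1 x y)
    {ν : F} (hν : ν * ν ≠ 1) (hgz : g • z = ν • z) {e : F} (hge : pu x 0 e * g ∈ K)
    (h : ∀ a : F, ∃ d, pu x 0 d * tv z a ∈ K) : IsCtr K z := by
  intro c
  obtain ⟨d, hd⟩ := h (c / (ν * ν - 1))
  have h1 := K.mul_mem (K.mul_mem hge hd) (K.inv_mem hge)
  have hce : pu x 0 e * pu x 0 d * tv (ν • z) (c / (ν * ν - 1)) * (pu x 0 e)⁻¹ =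
      pu x 0 d * tv (ν • z) (c / (ν * ν - 1)) := by
    have hc := lev1_comm_centre hxy (tv_mem_lev1 (Submodule.smul_mem _ ν hz) (c / (ν * ν - 1))) (-e)
    rw [mul_inv_eq_iff_eq_mul] at hc
    rw [pu_inv (map_zero _), neg_zero, mul_assoc, hc, ← mul_assoc, pu_mul (map_zero _) (map_zero _),
      pu_mul (by simp) (map_zero _)]
    simp only [map_zero, add_zero, LinearMap.zero_apply]
    ring_nf
  have e1 : pu x 0 e * g * (pu x 0 d * tv z (c / (ν * ν - 1))) * (pu x 0 e * g)⁻¹ =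
      pu x 0 e * pu x 0 d * tv (ν • z) (c / (ν * ν - 1)) * (pu x 0 e)⁻¹ := by
    have hd' := lev1_comm_centre hxy hg d
    rw [← hgz, ← tv_conj]
    calc _ = pu x 0 e * (g * pu x 0 d * g⁻¹) * (g * tv z (c / (ν * ν - 1)) * g⁻¹) * (pu x 0 e)⁻¹ := by
          group
      _ = _ := by rw [hd']
  rw [e1, hce, tv_scale] at h1
  have h2 := K.mul_mem (K.inv_mem hd) h1
  rw [_root_.mul_inv_rev, mul_assoc, inv_mul_cancel_left, tv_inv, tv_mul] at h2
  convert h2 using 2
  have hne : ν * ν - 1 ≠ 0 := sub_ne_zero.2 hν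
  calc c = c / (ν * ν - 1) * (ν * ν - 1) := (div_mul_cancel₀ c hne).symm
    _ = _ := by ring

end MinIdx

end H48
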