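import Mathlib
import Cfsg.Agent.H48.MinTools

/-!
# Index bound: the case of trivial image in the radical
-/

set_option autoImplicit false

namespace H48

namespace MinIdx

open Matrix
open H49 (IsCtr)

variable {m : ℕ} {F : Type*} [Field F] [Fintype F] {x y : Fin m ⊕ Fin m → F}
  {K : Subgroup (Matrix.symplecticGroup (Fin m) F)}

local notation "V" => (Fin m ⊕ Fin m → F)
local notation "Sp" => Matrix.symplecticGroup (Fin m) F
local notation "qq" => Fintype.card F

omit [Fintype F] in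
theorem pow_mul_centre {g : Sp} {e : F} (h : g * pu x 0 e * g⁻¹ = pu x 0 e) (k : ℕ) :
    (pu x 0 e * g) ^ k = pu x 0 (k * e) * g ^ k := by
  have hc : Commute (pu x 0 e) g := by
    rw [mul_inv_eq_iff_eq_mul] at h
    exact h.symm
  rw [hc.mul_pow, pu_pow (map_zero _), smul_zero]

theorem card_cast_eq_zero : (qq : F) = 0 := FiniteField.cast_card_eq_zero F

theorem Vp_ne_zero (hm : 2 ≤ m) (hxy : sf x y = 1) : ∃ j ∈ Vp x y, j ≠ 0 := by
  by_contra hcon
  simp only [not_exists, not_and, not_not] at hcon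
  have h1 := card_Vp hxy
  haveI : Subsingleton (Vp x y) := ⟨fun a b => Subtype.ext ((hcon _ a.2).trans (hcon _ b.2).symm)⟩
  rw [Nat.card_eq_one_iff_unique.2 ⟨inferInstance, ⟨0⟩⟩] at h1
  have : 1 < qq ^ (2 * m - 2) := Nat.one_lt_pow (by omega) Fintype.one_lt_card
  omega

theorem lev1_witt (hxy : sf x y = 1) {j j' k k' : V} (hj : j ∈ Vp x y) (hj' : j' ∈ Vp x y)
    (hk : k ∈ Vp x y) (hk' : k' ∈ Vp x y) (h1 : sf j j' = 1) (h2 : sf k k' = 1) :
    ∃ g ∈ lev1 x y, g • j = k ∧ g • j' = k' := by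
  have hli : ∀ j j', j ∈ Vp x y → j' ∈ Vp x y → sf j j' = 1 → LinearIndependent F ![x, y, j, j'] := by
    intro j j' hj hj' h
    rw [Fintype.linearIndependent_iff]
    intro g hg
    simp only [Fin.sum_univ_four, Matrix.cons_val] at hg
    obtain ⟨hj1, hj2⟩ : sf x j = 0 ∧ sf y j = 0 := hj
    obtain ⟨hj'1, hj'2⟩ : sf x j' = 0 ∧ sf y j' = 0 := hj'
    have e1 := congrArg (sf x) hg
    have e2 := congrArg (sf y) hg
    have e3 := congrArg (sf j) hg
    have e4 := congrArg (sf j') hg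
    simp [hj1, hj2, hj'1, hj'2, hxy, sf_swap x y, sf_eq_zero_comm hj1, sf_eq_zero_comm hj2,
      sf_eq_zero_comm hj'1, sf_eq_zero_comm hj'2, h, sf_swap j j'] at e1 e2 e3 e4
    intro i; fin_cases i <;> assumption
  obtain ⟨g, -, hg⟩ := witt ![x, y, j, j'] ![x, y, k, k'] (hli j j' hj hj' h1) (hli k k' hk hk' h2) (by
    obtain ⟨hj1, hj2⟩ : sf x j = 0 ∧ sf y j = 0 := hj
    obtain ⟨hj'1, hj'2⟩ : sf x j' = 0 ∧ sf y j' = 0 := hj'
    obtain ⟨hk1, hk2⟩ : sf x k = 0 ∧ sf y k = 0 := hk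
    obtain ⟨hk'1, hk'2⟩ : sf x k' = 0 ∧ sf y k' = 0 := hk'
    intro a b
    fin_cases a <;> fin_cases b <;>
      simp [hj1, hj2, hj'1, hj'2, hk1, hk2, hk'1, hk'2, sf_eq_zero_comm hj1, sf_eq_zero_comm hj2,
        sf_eq_zero_comm hj'1, sf_eq_zero_comm hj'2, sf_eq_zero_comm hk1, sf_eq_zero_comm hk2,
        sf_eq_zero_comm hk'1, sf_eq_zero_comm hk'2, h1, h2, sf_swap j j', sf_swap k k'])
  exact ⟨g, ⟨hg 0, hg 1⟩, hg 2, hg 3⟩

/-- Normalised situation: the central involution of the Levi factor lies in `K`. -/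
theorem zero_core_odd (hm : 2 ≤ m) (hxy : sf x y = 1) (h2 : (2 : F) ≠ 0)
    (hexc : ¬ (m = 2 ∧ qq = 3)) (hI : ∀ v ∈ iPart K x y, v = 0)
    (hσ : dil x y 1 (-1) ∈ K) (hG : ∀ g ∈ lev1 x y, g ∈ gamPart K x y) :
    ∃ z, z ≠ 0 ∧ IsCtr K z := by
  classical
  have hbb : (-1 : F) * -1 = 1 := by ring
  have hd : ∀ g ∈ lev1 x y, ∃ d, pu x 0 d * g ∈ K := by
    intro g hg
    obtain ⟨-, w, hw, d, hwd⟩ := mem_gamPart.1 (hG g hg)
    have h1 := K.mul_mem (K.mul_mem hσ hwd) (K.inv_mem hσ)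
    have e : dil x y (1 : F) (-1) * (pu x w d * g) * (dil x y 1 (-1))⁻¹ = pu x (-w) d * g := by
      calc _ = (dil x y (1 : F) (-1) * pu x w d * (dil x y 1 (-1))⁻¹) *
            (dil x y (1 : F) (-1) * g * (dil x y 1 (-1))⁻¹) := by group
        _ = _ := by
          rw [dil_comm hxy one_ne_zero hbb hg,
            pu_conj hw.1 d one_ne_zero (dil_left hxy one_ne_zero hbb),
            dil_perp hxy one_ne_zero hbb hw, one_mul, one_mul, one_smul, neg_one_smul]
    rw [e] at h1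
    have h3 := K.mul_mem h1 (K.inv_mem hwd)
    rw [_root_.mul_inv_rev, mul_assoc, mul_inv_cancel_left, pu_inv hw.1,
      pu_mul (neg_mem hw).1 (neg_mem hw).1] at h3
    have h4 : -w + -w = 0 := hI _ ⟨add_mem (neg_mem hw) (neg_mem hw), _, h3⟩
    have hw0 : w = 0 := by
      have : (2 : F) • w = 0 := by rw [two_smul, ← neg_eq_zero, neg_add, h4]
      exact (smul_eq_zero.1 this).resolve_left h2
    subst hw0
    exact ⟨d, hwd⟩
  obtain ⟨z, hz, hz0⟩ := Vp_ne_zero hm hxy
  obtain ⟨z', hz', hzz⟩ := Vp_exists_ne hxy hz hz0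
  refine ⟨z, hz0, ?_⟩
  by_cases hq : 4 ≤ qq
  · obtain ⟨ν, hν0, -, hν⟩ := exists_unit_sq_ne_one (F := F) hq
    obtain ⟨g, hg, hgz, -⟩ := lev1_witt hxy hz hz' (Submodule.smul_mem _ ν hz)
      (Submodule.smul_mem _ ν⁻¹ hz') hzz (by simp [hzz, hν0])
    obtain ⟨e, he⟩ := hd g hg
    exact ctr_of_scaling hxy hz hg hν hgz he fun a => hd _ (tv_mem_lev1 hz a)
  · have hq3 : qq = 3 := by
      have := Fintype.one_lt_card (α := F)
      rcases (show qq = 2 ∨ qq = 3 by omega) with h | h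
      · exfalso
        apply h2
        have := card_cast_eq_zero (F := F)
        rw [h] at this
        exact_mod_cast this
      · exact h
    have h3 : (3 : F) = 0 := by
      have := card_cast_eq_zero (F := F)
      rw [hq3] at this
      exact_mod_cast this
    have hm3 : 3 ≤ m := by omega
    -- a second vector orthogonal to `z`
    obtain ⟨w, hw, hwz, hwz'⟩ : ∃ w ∈ Vp x y, sf z w = 0 ∧ w ∉ Submodule.span F {z} := by
      by_contra hcon
      simp only [not_exists, not_and, not_not] at hcon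
      have hle : Vp x y ≤ Submodule.span F {z, z'} := by
        intro v hv
        have := hcon (v - sf z v • z') (sub_mem hv (Submodule.smul_mem _ _ hz'))
          (by rw [map_sub, map_smul, hzz]; simp)
        obtain ⟨t, ht⟩ := Submodule.mem_span_singleton.1 this
        rw [eq_sub_iff_add_eq] at ht
        rw [← ht]
        exact add_mem (Submodule.smul_mem _ _ (Submodule.subset_span (Or.inl rfl)))
          (Submodule.smul_mem _ _ (Submodule.subset_span (Or.inr rfl)))
      have h1 := (Submodule.finrank_mono hle).trans (finrank_span_le_card _)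
      have h5 := card_Vp hxy
      rw [card_submodule] at h5
      have h6 := Nat.pow_right_injective (Fintype.one_lt_card (α := F)) h5
      have h7 : ({z, z'} : Set V).toFinset.card ≤ 2 := by
        rw [Set.toFinset_insert, Set.toFinset_singleton]; exact Finset.card_le_two
      omega
    have hne : ∀ s : F, z + s • w ≠ 0 := by
      intro s h
      rcases eq_or_ne s 0 with rfl | hs
      · simp [hz0] at h
      · exact hwz' (Submodule.mem_span_singleton.2 ⟨-s⁻¹, by
          have e : w = -s⁻¹ • z := by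
            rw [add_eq_zero_iff_eq_neg] at h
            rw [h, smul_neg, neg_smul, neg_neg, smul_smul, inv_mul_cancel₀ hs, one_smul]
          exact e.symm⟩)
    intro c
    obtain ⟨d, hdz⟩ := hd _ (tv_mem_lev1 hz c)
    have hsame : ∀ u ∈ Vp x y, u ≠ 0 → pu x 0 d * tv u c ∈ K := by
      intro u hu hu0
      obtain ⟨u', hu', huu⟩ := Vp_exists_ne hxy hu hu0
      obtain ⟨g, hg, hgz, -⟩ := lev1_witt hxy hz hz' hu hu' hzz huu
      obtain ⟨e, he⟩ := hd g hg
      have h1 := K.mul_mem (K.mul_mem he hdz) (K.inv_mem he)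
      have e1 : pu x 0 e * g * (pu x 0 d * tv z c) * (pu x 0 e * g)⁻¹ =
          pu x 0 e * (g * pu x 0 d * g⁻¹) * (g * tv z c * g⁻¹) * (pu x 0 e)⁻¹ := by group
      rw [e1, lev1_comm_centre hxy hg, tv_conj, hgz] at h1
      have hc := lev1_comm_centre hxy (tv_mem_lev1 hu c) (-e)
      rw [mul_inv_eq_iff_eq_mul] at hc
      rw [pu_inv (map_zero _), neg_zero, mul_assoc, hc, ← mul_assoc, pu_mul (map_zero _) (map_zero _),
        pu_mul (by simp) (map_zero _)] at h1
      convert h1 using 2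
      simp
    have hw0 : w ≠ 0 := fun h => hwz' (h ▸ Submodule.zero_mem _)
    have hA := K.mul_mem (hsame _ (add_mem hz (Submodule.smul_mem _ (1 : F) hw)) (hne 1))
      (hsame _ (add_mem hz (Submodule.smul_mem _ (-1 : F) hw)) (hne (-1)))
    have hB := K.mul_mem (K.mul_mem (hsame z hz hz0) (hsame z hz hz0))
      (K.mul_mem (hsame w hw hw0) (hsame w hw hw0))
    have hcomm : ∀ u ∈ Vp x y, ∀ e, tv u c * pu x 0 e = pu x 0 e * tv u c := fun u hu e => by
      rw [← mul_inv_eq_iff_eq_mul]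
      exact lev1_comm_centre hxy (tv_mem_lev1 hu c) e
    have key : tv (z + (1 : F) • w) c * tv (z + (-1 : F) • w) c = tv z c * tv z c * (tv w c * tv w c) := by
      refine sp_ext fun v => ?_
      have hwzs := sf_eq_zero_comm hwz
      simp only [mul_smul, tv_smul, map_add, map_smul, LinearMap.add_apply, LinearMap.smul_apply,
        smul_eq_mul, sf_self, hwz, hwzs]
      match_scalars <;> ring
    have hA' : pu x 0 (d + d) * (tv (z + (1 : F) • w) c * tv (z + (-1 : F) • w) c) ∈ K := by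
      convert hA using 1
      rw [mul_assoc, ← mul_assoc (tv (z + (1 : F) • w) c),
        hcomm _ (add_mem hz (Submodule.smul_mem _ (1 : F) hw)), mul_assoc, ← mul_assoc (pu x 0 d),
        pu_mul (map_zero _) (map_zero _)]
      simp
    have hB' : pu x 0 (d + d + (d + d)) * (tv z c * tv z c * (tv w c * tv w c)) ∈ K := by
      convert hB using 1
      have p2 : ∀ u ∈ Vp x y, pu x 0 d * tv u c * (pu x 0 d * tv u c) = pu x 0 (d + d) * (tv u c * tv u c) :=
        fun u hu => by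
          rw [mul_assoc, ← mul_assoc (tv u c), hcomm u hu, mul_assoc, ← mul_assoc (pu x 0 d),
            pu_mul (map_zero _) (map_zero _)]
          simp
      rw [p2 z hz, p2 w hw, mul_assoc (pu x 0 (d + d)), ← mul_assoc (tv z c * tv z c) (pu x 0 (d + d)),
        mul_assoc (tv z c) (tv z c) (pu x 0 (d + d)), hcomm z hz, ← mul_assoc (tv z c) (pu x 0 (d + d)),
        hcomm z hz, mul_assoc (pu x 0 (d + d)) (tv z c) (tv z c), mul_assoc (pu x 0 (d + d)) _ _,
        ← mul_assoc (pu x 0 (d + d)) (pu x 0 (d + d)), pu_mul (map_zero _) (map_zero _)]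
      simp
    rw [← key] at hB'
    have hC := K.mul_mem hB' (K.inv_mem hA')
    rw [_root_.mul_inv_rev, mul_assoc, mul_inv_cancel_left, pu_inv (map_zero _), neg_zero,
      pu_mul (map_zero _) (map_zero _)] at hC
    have hdd : pu x 0 d ∈ K := by
      convert K.mul_mem hC hC using 1
      rw [pu_mul (by simp) (by simp)]
      congr 1
      · simp
      · simp only [map_zero, add_zero]
        linear_combination -d * h3
    have := K.mul_mem (K.inv_mem hdd) hdz
    rwa [inv_mul_cancel_left] at this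

/-- Normalised situation in even characteristic: a Levi scaling lies in `K`. -/
theorem zero_core_even (hm : 2 ≤ m) (hxy : sf x y = 1) (hI : ∀ v ∈ iPart K x y, v = 0)
    (hW : zPart K x = ⊥) {ν : F} (hν0 : ν ≠ 0) (hν1 : ν ≠ 1) (hν : ν * ν ≠ 1)
    (ht : dil x y ν 1 ∈ K) (hG : ∀ g ∈ lev1 x y, g ∈ gamPart K x y) :
    ∃ z, z ≠ 0 ∧ IsCtr K z := by
  have hd : ∀ g ∈ lev1 x y, g ∈ K := by
    intro g hg
    obtain ⟨-, w, hw, d, hwd⟩ := mem_gamPart.1 (hG g hg)
    have h1 := K.mul_mem (K.mul_mem ht hwd) (K.inv_mem ht)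
    have e : dil x y ν 1 * (pu x w d * g) * (dil x y ν 1)⁻¹ = pu x (ν • w) (ν * ν * d) * g := by
      calc _ = (dil x y ν 1 * pu x w d * (dil x y ν 1)⁻¹) *
            (dil x y ν 1 * g * (dil x y ν 1)⁻¹) := by group
        _ = _ := by
          rw [dil_comm hxy hν0 (one_mul 1) hg, pu_conj hw.1 d hν0 (dil_left hxy hν0 (one_mul 1)),
            dil_perp hxy hν0 (one_mul 1) hw, one_smul]
    rw [e] at h1
    have h3 := K.mul_mem h1 (K.inv_mem hwd)
    have hνw : ν • w ∈ Vp x y := Submodule.smul_mem _ ν hw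
    rw [_root_.mul_inv_rev, mul_assoc, mul_inv_cancel_left, pu_inv hw.1,
      pu_mul hνw.1 (neg_mem hw).1] at h3
    have h4 : ν • w + -w = 0 := hI _ ⟨add_mem hνw (neg_mem hw), _, h3⟩
    have hw0 : w = 0 := by
      have : (ν - 1) • w = 0 := by rw [sub_smul, one_smul, sub_eq_add_neg, h4]
      exact (smul_eq_zero.1 this).resolve_left (sub_ne_zero.2 hν1)
    subst hw0
    have h5 : ν * ν * d + -d + sf (ν • (0 : V)) (-0) ∈ zPart K x := by
      rw [mem_zPart]; simpa using h3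
    rw [hW, AddSubgroup.mem_bot] at h5
    have hd0 : d = 0 := by
      have : (ν * ν - 1) * d = 0 := by simp at h5; linear_combination h5
      exact (mul_eq_zero.1 this).resolve_left (sub_ne_zero.2 hν)
    subst hd0
    rwa [pu_zero, one_mul] at hwd
  obtain ⟨z, hz, hz0⟩ := Vp_ne_zero hm hxy
  exact ⟨z, hz0, fun a => hd _ (tv_mem_lev1 hz a)⟩

/-- The scalars as a subgroup of units. -/
def lamU (K : Subgroup (Matrix.symplecticGroup (Fin m) F)) (x y : Fin m ⊕ Fin m → F) :
    Subgroup Fˣ where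
  carrier := {a | ∃ l ∈ levPart K x y, l • x = (a : F) • x}
  one_mem' := ⟨1, one_mem _, by simp⟩
  mul_mem' := by
    rintro a b ⟨l, hl, hla⟩ ⟨l', hl', hlb⟩
    exact ⟨l * l', mul_mem hl hl', by rw [mul_smul, hlb, smul_comm, hla, smul_smul, Units.val_mul, mul_comm]⟩
  inv_mem' := by
    rintro a ⟨l, hl, hla⟩
    exact ⟨l⁻¹, inv_mem hl, by rw [inv_smul_eq_iff, smul_comm, hla, smul_smul]; simp⟩

theorem card_lamSet_le (hxy : sf x y = 1) :
    Nat.card (lamSet K x y) ≤ Nat.card (lamU K x y) :=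
  Nat.card_le_card_of_injective
    (fun a : lamSet K x y => (⟨Units.mk0 a.1 (lamSet_spec hxy a.2).1, a.2⟩ : lamU K x y))
    fun a b e => Subtype.ext (congrArg (fun u : lamU K x y => ((u : Fˣ) : F)) e)

/-- The case of trivial image. -/
theorem bound_zero (hm : 2 ≤ m) (hq : 3 ≤ qq) (hexc : ¬ (m = 2 ∧ qq = 3)) (hxy : sf x y = 1)
    (hC : ∀ z, z ≠ 0 → ¬ IsCtr K z) (hI : ∀ v ∈ iPart K x y, v = 0) :
    (qq + 2) * (Nat.card (Vp x y) - 1) ≤ K.index := by
  have hx : x ≠ 0 := fun h => by simp [h] at hxy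
  have hi : Nat.card (iPart K x y) = 1 := by
    rw [Nat.card_eq_one_iff_unique]
    exact ⟨⟨fun a b => Subtype.ext ((hI _ a.2).trans (hI _ b.2).symm)⟩, ⟨0⟩⟩
  have hle : (qq + 2) * (Nat.card (Vp x y) - 1) ≤ (qq + 2) * Nat.card (Vp x y) :=
    Nat.mul_le_mul_left _ (Nat.sub_le _ _)
  have hL1 : 0 < Nat.card (lev1 x y) := Nat.card_pos
  have hΓ1 : gamPart K x y ≤ lev1 x y := inf_le_right
  by_cases hfull : ∀ g ∈ lev1 x y, g ∈ gamPart K x y
  swap
  · have h1 := bound_weak hq hxy (hC x hx)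
    have h2 := two_mul_card_le hΓ1 hfull
    rw [hi, one_mul] at h1
    refine hle.trans (Nat.le_of_mul_le_mul_right ?_ hL1)
    calc _ = (qq + 2) * (Nat.card (Vp x y) * Nat.card (lev1 x y)) := by ring
      _ ≤ _ := h1
      _ = K.index * (2 * Nat.card (gamPart K x y)) := by ring
      _ ≤ _ := Nat.mul_le_mul_left _ h2
  by_cases h2 : (2 : F) = 0
  swap
  · exfalso
    have hbb : (-1 : F) * -1 = 1 := by ring
    have hσ1 : dil x y (1 : F) (-1) ∈ lev1 x y :=
      ⟨by rw [dil_left hxy one_ne_zero hbb, one_smul], by rw [dil_right hxy one_ne_zero hbb, inv_one, one_smul]⟩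
    obtain ⟨-, w, hw, d, hwd⟩ := mem_gamPart.1 (hfull _ hσ1)
    have hw₀ : (2 : F)⁻¹ • w ∈ Vp x y := Submodule.smul_mem _ _ hw
    set u := pu x ((2 : F)⁻¹ • w) 0 with hu
    have h3 := conjK_elem (d₀ := 0) hw₀ hw (lev1_le_lev hσ1) one_ne_zero
      (lev1_smul_x hσ1) hwd
    rw [dil_perp hxy one_ne_zero hbb hw₀] at h3
    have e : -((2 : F)⁻¹ • w) + w + (1 : F) • ((-1 : F) • ((2 : F)⁻¹ • w)) = 0 := by
      match_scalars
      field_simp
      ring
    rw [e] at h3
    generalize -(0 : F) + d + _ + _ + _ = d' at h3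
    have h4 := (conjK K u).pow_mem h3 qq
    rw [pow_mul_centre (lev1_comm_centre hxy hσ1 d'), card_cast_eq_zero, zero_mul, pu_zero, one_mul,
      dil_pow hxy one_ne_zero hbb, one_pow] at h4
    have hodd : Odd qq := by
      obtain ⟨n, hp, hn⟩ := FiniteField.card F (ringChar F)
      rw [hn]
      refine (hp.odd_of_ne_two fun h => h2 ?_).pow
      have := CharP.cast_eq_zero F (ringChar F)
      rwa [h] at this
    rw [hodd.neg_one_pow] at h4
    obtain ⟨z, hz, hz'⟩ := zero_core_odd (K := conjK K u) hm hxy h2 hexc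
      (fun v hv => hI v ((conjK_iPart hw₀ v).1 hv)) h4
      (fun g hg => conjK_gamPart hw₀ (hfull g hg))
    exact hC _ (fun h => hz (smul_eq_zero_iff_eq u |>.1 h)) (conjK_isCtr hz')
  by_cases hW : zPart K x = ⊥
  swap
  · have h1 := bound_strong hq hxy (hC x hx) h2 hW
    rw [hi, one_mul] at h1
    refine hle.trans (Nat.le_of_mul_le_mul_right ?_ hL1)
    calc _ = (qq + 2) * (Nat.card (Vp x y) * Nat.card (lev1 x y)) := by ring
      _ ≤ _ := h1
      _ ≤ _ := Nat.mul_le_mul_left _ (Subgroup.card_le_of_le hΓ1)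
  by_cases hlam : lamU K x y = ⊤
  swap
  · have h1 := master (K := K) hxy
    rw [hi, one_mul, hW, AddSubgroup.card_bot, one_mul] at h1
    have h3 := two_mul_card_le (A := lamU K x y) le_top fun h => hlam (eq_top_iff.2 h)
    rw [Subgroup.card_top, Nat.card_units, Nat.card_eq_fintype_card (α := F)] at h3
    have h4 := card_lamSet_le (K := K) hxy
    refine hle.trans (Nat.le_of_mul_le_mul_right ?_ (Nat.mul_pos hL1 (show 0 < qq - 1 by omega)))
    calc _ ≤ 2 * qq * Nat.card (Vp x y) * (Nat.card (lev1 x y) * (qq - 1)) := by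
            gcongr; omega
      _ = 2 * (qq * (qq - 1) * (Nat.card (Vp x y) * Nat.card (lev1 x y))) := by ring
      _ ≤ 2 * (Nat.card (lamSet K x y) * (K.index * Nat.card (gamPart K x y))) :=
          Nat.mul_le_mul_left _ h1
      _ = K.index * (Nat.card (gamPart K x y) * (2 * Nat.card (lamSet K x y))) := by ring
      _ ≤ _ := Nat.mul_le_mul_left _ (Nat.mul_le_mul (Subgroup.card_le_of_le hΓ1) (by omega))
  exfalso
  have hq4 : 4 ≤ qq := by
    rcases Nat.lt_or_ge qq 4 with h | h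
    · exfalso
      have h3 : qq = 3 := by omega
      have := card_cast_eq_zero (F := F)
      rw [h3] at this
      have h3' : (3 : F) = 0 := by exact_mod_cast this
      exact one_ne_zero (show (1 : F) = 0 by linear_combination h3' - h2)
    · exact h
  obtain ⟨ν, hν0, hν1, hν⟩ := exists_unit_sq_ne_one (F := F) hq4
  obtain ⟨l, hl, hlx⟩ : Units.mk0 ν hν0 ∈ lamU K x y := hlam ▸ Subgroup.mem_top _
  have ht : dil x y ν 1 ∈ lev x y := dil_mem_lev hxy hν0 (one_mul 1)
  obtain ⟨hl', -⟩ := id hl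
  have hlt : l⁻¹ * dil x y ν 1 ∈ lev1 x y := by
    obtain ⟨a, ha, ha'⟩ := hl'
    have hav : (a : F) = ν := smul_left_injective F hx (ha.symm.trans hlx)
    refine ⟨?_, ?_⟩
    · rw [mul_smul, dil_left hxy hν0 (one_mul 1), inv_smul_eq_iff]
      exact hlx.symm
    · rw [mul_smul, dil_right hxy hν0 (one_mul 1), inv_smul_eq_iff, ha', Units.val_inv_eq_inv_val, hav]
  have htK := (levPart K x y).mul_mem hl (hfull _ hlt).1
  rw [mul_inv_cancel_left] at htK
  obtain ⟨-, w, hw, d, hwd⟩ := htK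
  have hw₀ : (1 - ν)⁻¹ • w ∈ Vp x y := Submodule.smul_mem _ _ hw
  set w₀ := (1 - ν)⁻¹ • w with hw₀'
  have e : -w₀ + w + ν • ((1 : F) • w₀) = 0 := by
    have h1ν : (1 - ν : F) ≠ 0 := sub_ne_zero.2 (Ne.symm hν1)
    have : w = (1 - ν) • w₀ := by rw [hw₀', smul_smul, mul_inv_cancel₀ h1ν, one_smul]
    rw [this]
    module
  set d₀ := (d + sf (-w₀) w + sf (-w₀ + w) (ν • ((1 : F) • w₀))) / (1 - ν * ν) with hd₀
  have h3 := conjK_elem (d₀ := d₀) hw₀ hw ht hν0 (dil_left hxy hν0 (one_mul 1)) hwd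
  rw [dil_perp hxy hν0 (one_mul 1) hw₀, e] at h3
  have e2 : -d₀ + d + sf (-w₀) w + ν * ν * d₀ + sf (-w₀ + w) (ν • ((1 : F) • w₀)) = 0 := by
    have h1ν : (1 - ν * ν : F) ≠ 0 := sub_ne_zero.2 (Ne.symm hν)
    have : d₀ * (1 - ν * ν) = d + sf (-w₀) w + sf (-w₀ + w) (ν • ((1 : F) • w₀)) := by
      rw [hd₀, div_mul_cancel₀ _ h1ν]
    linear_combination -this
  rw [e2, pu_zero, one_mul] at h3
  set u := pu x w₀ d₀ with hu
  obtain ⟨z, hz, hz'⟩ := zero_core_even (K := conjK K u) hm hxy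
    (fun v hv => hI v ((conjK_iPart hw₀ v).1 hv)) (by rw [conjK_zPart hw₀, hW]) hν0 hν1 hν h3
    (fun g hg => conjK_gamPart hw₀ (hfull g hg))
  exact hC _ (fun h => hz (smul_eq_zero_iff_eq u |>.1 h)) (conjK_isCtr hz')

end MinIdx

end H48
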