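import Mathlib
import Cfsg.Agent.H48.MinZero

/-!
# Some point has a proper image in the radical
-/

set_option autoImplicit false

namespace H48

namespace MinIdx

open Matrix
open H49 (IsCtr)

variable {m : ℕ} {F : Type*} [Field F] [Fintype F] {x y : Fin m ⊕ Fin m → F}
  {K : Subgroup (Matrix.symplecticGroup (Fin m) F)}

local notation "V" => (Fin m ⊕ Fin m → F)
local notation "Sp" => Matrix.symplecticGroup (Fin m) F
local notation "qq" => Fintype.card F

omit [Fintype F] in
theorem zPart_eq_top_iff : zPart K x = ⊤ ↔ IsCtr K x := by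
  refine ⟨fun h => ?_, fun h => eq_top_iff.2 fun c _ => ?_⟩
  · by_contra hn
    exact zPart_ne_top hn h
  · rw [mem_zPart, pu_eq_tv]; exact h _

theorem sq_surjective (h2 : (2 : F) = 0) (a : F) : ∃ b : F, b * b = a := by
  have hinj : Function.Injective fun b : F => b * b := fun b b' h => by
    rcases mul_self_eq_mul_self_iff.1 h with h | h
    · exact h
    · rw [h]; linear_combination (-b') * h2
  exact (Finite.injective_iff_surjective.1 hinj) a

/-- From a transvection in the projection: a one parameter family in `K`. -/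
theorem family_mem (h2 : (2 : F) = 0) (hxy : sf x y = 1) {z v : V} (hz : z ∈ Vp x y) {a : F}
    (hg : tv z a ∈ gamPart K x y) (hv : v ∈ iPart K x y) :
    pu x ((a * sf v z) • z) (a * (sf v z * sf v z)) ∈ K := by
  obtain ⟨hl1, w, hw, d, hwd⟩ := mem_gamPart.1 hg
  obtain ⟨hvV, c, hc⟩ := hv
  have h := conj_rad hw hvV (lev1_le_lev hl1) one_ne_zero (lev1_smul_x hl1) hwd hc
  rw [one_smul, tv_smul] at h
  set v' := v + (a * sf v z) • z with hv'
  have hv'V : v' ∈ Vp x y := add_mem hvV (Submodule.smul_mem _ _ hz)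
  have h' := K.mul_mem h (K.inv_mem hc)
  rw [pu_inv hvV.1, pu_mul hv'V.1 (neg_mem hvV).1] at h'
  convert h' using 2
  · rw [hv']; abel
  · simp only [hv', map_add, map_neg, map_smul, LinearMap.add_apply, LinearMap.smul_apply, smul_eq_mul,
      sf_self, sf_swap v z, h2]
    ring

/-- At most one non-trivial element of each root group lies in the projection. -/
theorem at_most_one (h2 : (2 : F) = 0) (hxy : sf x y = 1) (hC : ¬ IsCtr K x)
    (hfull : ∀ v ∈ Vp x y, v ∈ iPart K x y) {z : V} (hz : z ∈ Vp x y) (hz0 : z ≠ 0) {a a' : F}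
    (ha : a ≠ 0) (ha' : a' ≠ 0) (hg : tv z a ∈ gamPart K x y) (hg' : tv z a' ∈ gamPart K x y) :
    a = a' := by
  by_contra hne
  obtain ⟨v, hv, hvz⟩ := Vp_exists_ne hxy hz hz0
  have hzv : sf v z = -1 := by rw [sf_swap, hvz]
  apply hC
  rw [← zPart_eq_top_iff, eq_top_iff]
  intro c _
  obtain ⟨b, hb⟩ := sq_surjective h2 (c / (a + a * a / a'))
  have h1 := family_mem h2 hxy hz hg (hfull _ (Submodule.smul_mem _ b hv))
  have h1' := family_mem h2 hxy hz hg' (hfull _ (Submodule.smul_mem _ (a * b / a') hv))
  simp only [map_smul, LinearMap.smul_apply, hzv, smul_eq_mul] at h1 h1'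
  have h3 := K.mul_mem h1 h1'
  rw [pu_mul (by rw [map_smul, hz.1, smul_zero]) (by rw [map_smul, hz.1, smul_zero]), ← add_smul] at h3
  have e1 : a * (b * -1) + a' * (a * b / a' * -1) = 0 := by
    field_simp
    linear_combination (-(a * b)) * h2
  have hden : a + a * a / a' ≠ 0 := by
    intro h
    apply hne
    field_simp at h
    have : a * (a' + a) = 0 := by linear_combination h
    have h' := (mul_eq_zero.1 this).resolve_left ha
    linear_combination h' - a' * h2
  rw [mem_zPart]
  convert h3 using 2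
  · rw [e1, zero_smul]
  · rw [map_smul, map_smul, LinearMap.smul_apply, sf_self, smul_zero, smul_zero, add_zero]
    have hb' : b * b * (a + a * a / a') = c := by rw [hb, div_mul_cancel₀ _ hden]
    rw [← hb']
    field_simp

/-- Two orthogonal vectors fit into a point frame. -/
theorem exists_frame {u w : V} (h : sf u w = 0) (hli : LinearIndependent F ![u, w]) :
    ∃ y, sf u y = 1 ∧ w ∈ Vp u y := by
  have hu : u ∉ Submodule.span F {w} := by
    intro hmem
    obtain ⟨t, ht⟩ := Submodule.mem_span_singleton.1 hmem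
    have := (LinearIndependent.pair_iff.1 hli) 1 (-t) (by rw [one_smul, neg_smul, ht, add_neg_cancel])
    exact one_ne_zero this.1
  obtain ⟨z, hz, hzu⟩ := exists_sep hu
  have hzw : sf w z = 0 := hz w (Submodule.mem_span_singleton_self w)
  refine ⟨(sf u z)⁻¹ • z, by rw [map_smul, smul_eq_mul, inv_mul_cancel₀ hzu], h, ?_⟩
  show sf ((sf u z)⁻¹ • z) w = 0
  rw [LinearMap.map_smul₂, sf_eq_zero_comm hzw, smul_zero]

/-- Images cannot be full at every point. -/
theorem not_all_full (hm : 2 ≤ m) (hq : 3 ≤ qq) (hC : ∀ z, z ≠ 0 → ¬ IsCtr K z) :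
    ∃ x y, sf x y = 1 ∧ ∃ v ∈ Vp x y, v ∉ iPart K x y := by
  by_contra hcon
  simp only [not_exists, not_and, not_not] at hcon
  have hfull : ∀ x y, sf x y = 1 → ∀ v ∈ Vp x y, v ∈ iPart K x y := hcon
  obtain ⟨x, y, hxy⟩ : ∃ x y : V, sf x y = 1 := by
    have i : Fin m := ⟨0, by omega⟩
    have he : (lagr i : V) ≠ 0 := fun h => by simpa [lagr] using congrFun h (Sum.inl i)
    obtain ⟨z, hz⟩ := exists_sf_ne he
    exact ⟨lagr i, (sf (lagr i) z)⁻¹ • z, by rw [map_smul, smul_eq_mul, inv_mul_cancel₀ hz]⟩
  have hx : x ≠ 0 := fun h => by simp [h] at hxy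
  apply hC x hx
  obtain ⟨z, hz, hz0⟩ := Vp_ne_zero hm hxy
  obtain ⟨z', hz', hzz⟩ := Vp_exists_ne hxy hz hz0
  by_cases h2 : (2 : F) = 0
  swap
  · rw [← zPart_eq_top_iff, eq_top_iff]
    intro c _
    have := comm_mem (hfull x y hxy _ (Submodule.smul_mem _ (c / 2) hz)) (hfull x y hxy z' hz')
    rwa [map_smul, LinearMap.smul_apply, hzz, smul_eq_mul, mul_one, mul_div_cancel₀ _ h2] at this
  classical
  have hneg : ∀ a : F, -a = a := fun a => by linear_combination (-a) * h2
  -- all twisted elements lie in `K`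
  have hall : ∀ w ∈ Vp x y, pu x w 0 ∈ K := by
    intro w hw
    rcases eq_or_ne w 0 with rfl | hw0
    · rw [pu_zero]; exact K.one_mem
    have hxw : sf x w = 0 := hw.1
    have hwx : sf w x = 0 := sf_eq_zero_comm hxw
    have hli : LinearIndependent F ![x, w] := by
      rw [LinearIndependent.pair_iff]
      intro s t h
      have := congrArg (fun v => sf v y) h
      simp [hxy, sf_eq_zero_comm hw.2] at this
      subst this
      simpa [hw0] using h
    obtain ⟨yw, hyw, hxV⟩ := exists_frame hwx (LinearIndependent.pair_symm_iff.1 hli)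
    -- the basic identity between the three points
    have key : ∀ (t β G : F),
        pu (x + t • w) (β • w) G = pu x ((G * t + β) • w) G * tv w (G * (t * t)) := by
      intro t β G
      have h1 : sf (x + t • w) (β • w) = 0 := by simp [hxw, sf_self]
      have h1' : sf x ((G * t + β) • w) = 0 := by simp [hxw]
      refine sp_ext fun v => ?_
      rw [mul_smul, pu_smul h1, pu_smul h1', tv_smul]
      simp only [map_add, map_smul, LinearMap.add_apply, LinearMap.smul_apply, smul_eq_mul, hxw, sf_self,
        sf_swap w v]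
      match_scalars <;>
        first
          | linear_combination (β * t * sf w v + G * t * t * sf w v) * h2
          | ring1
    have key' : ∀ (t β G : F),
        pu (x + t • w) (β • w) G = pu w ((G * t + β) • x) (G * (t * t)) * tv x G := by
      intro t β G
      have h1 : sf (x + t • w) (β • w) = 0 := by simp [hxw, sf_self]
      have h1' : sf w ((G * t + β) • x) = 0 := by simp [hwx]
      refine sp_ext fun v => ?_
      rw [mul_smul, pu_smul h1, pu_smul h1', tv_smul]
      simp only [map_add, map_smul, LinearMap.add_apply, LinearMap.smul_apply, smul_eq_mul, hwx, sf_self,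
        sf_swap x v]
      match_scalars <;>
        first
          | linear_combination (β * t * sf w v + G * t * t * sf w v) * h2
          | linear_combination (G * sf x v) * h2
          | linear_combination (-(G * sf x v)) * h2
          | linear_combination (β * t * sf w v) * h2
          | ring1
    have hpick : ∀ (u u' : V), sf u u' = 0 → LinearIndependent F ![u, u'] →
        ∀ β : F, ∃ G, pu u (β • u') G ∈ K := by
      intro u u' h hl β
      obtain ⟨yu, hyu, hu'⟩ := exists_frame h hl
      exact (hfull u yu hyu _ (Submodule.smul_mem _ β hu')).2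
    -- choose the scalar on the middle point
    obtain ⟨a₀, ha₀⟩ : ∃ a₀ : F, ∀ a, a ≠ 0 → tv w a ∈ gamPart K x y → a = a₀ := by
      by_cases h : ∃ a, a ≠ 0 ∧ tv w a ∈ gamPart K x y
      · obtain ⟨a, ha, hga⟩ := h
        exact ⟨a, fun a' ha' hga' => at_most_one h2 hxy (hC x hx) (hfull x y hxy) hw hw0 ha' ha hga' hga⟩
      · exact ⟨0, fun a ha hga => absurd ⟨a, ha, hga⟩ h⟩
    obtain ⟨b₀, hb₀⟩ : ∃ b₀ : F, ∀ a, a ≠ 0 → tv x a ∈ gamPart K w yw → a = b₀ := by
      by_cases h : ∃ a, a ≠ 0 ∧ tv x a ∈ gamPart K w yw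
      · obtain ⟨a, ha, hga⟩ := h
        exact ⟨a, fun a' ha' hga' => at_most_one h2 hyw (hC w hw0) (hfull w yw hyw) hxV hx ha' ha hga' hga⟩
      · exact ⟨0, fun a ha hga => absurd ⟨a, ha, hga⟩ h⟩
    obtain ⟨t, ht⟩ : ∃ t : F, (t ≠ 0 ∧ b₀ * (t * t) ≠ a₀) ∨ (t ≠ 0 ∧ b₀ = 0) := by
      rcases eq_or_ne b₀ 0 with h | h
      · exact ⟨1, Or.inr ⟨one_ne_zero, h⟩⟩
      · obtain ⟨t, -, ht⟩ := Finset.exists_mem_notMem_of_card_lt_card
          (s := ({0} : Finset F) ∪ Finset.univ.filter fun t => b₀ * (t * t) = a₀) (t := Finset.univ) (by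
            rw [Finset.card_univ]
            refine lt_of_le_of_lt (Finset.card_union_le _ _) ?_
            have : (Finset.univ.filter fun t : F => b₀ * (t * t) = a₀).card ≤ 1 := by
              rw [Finset.card_le_one]
              intro s hs s' hs'
              have := mul_left_cancel₀ h ((Finset.mem_filter.1 hs).2.trans (Finset.mem_filter.1 hs').2.symm)
              rcases mul_self_eq_mul_self_iff.1 this with e | e
              · exact e
              · rw [e, hneg]
            rw [Finset.card_singleton]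
            omega)
        simp only [Finset.mem_union, Finset.mem_singleton, Finset.mem_filter, Finset.mem_univ,
          true_and, not_or] at ht
        exact ⟨t, Or.inl ⟨ht.1, ht.2⟩⟩
    obtain ⟨G, hG⟩ := hpick (x + t • w) w (by simp [hxw, sf_self]) (by
      rw [LinearIndependent.pair_iff]
      intro r s h
      have hli' := LinearIndependent.pair_iff.1 hli r (r * t + s) (by
        rw [← h, smul_add, add_smul, smul_smul]; abel)
      exact ⟨hli'.1, by simpa [hli'.1] using hli'.2⟩) 1
    have hA := hG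
    rw [key] at hA
    have hgA : tv w (G * (t * t)) ∈ gamPart K x y :=
      mem_gamPart.2 ⟨tv_mem_lev1 hw _, _, Submodule.smul_mem _ _ hw, G, hA⟩
    have hB := hG
    rw [key'] at hB
    have hgB : tv x G ∈ gamPart K w yw :=
      mem_gamPart.2 ⟨tv_mem_lev1 hxV _, _, Submodule.smul_mem _ _ hxV, _, hB⟩
    by_cases hG0 : G = 0
    · subst hG0
      rwa [zero_mul, zero_mul, tv_zero, mul_one, zero_add, one_smul] at hA
    · exfalso
      have e1 := hb₀ G hG0 hgB
      rcases ht with ht | ht
      · have e2 := ha₀ _ (mul_ne_zero hG0 (mul_ne_zero ht.1 ht.1)) hgA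
        rw [e1] at e2
        exact ht.2 e2
      · exact hG0 (e1.trans ht.2)
  rw [← zPart_eq_top_iff, eq_top_iff]
  intro c _
  have hcz : c • z ∈ Vp x y := Submodule.smul_mem _ c hz
  have h1 := K.mul_mem (K.mul_mem (hall _ hcz) (hall _ hz')) (K.inv_mem (hall _ (add_mem hcz hz')))
  rw [pu_inv (add_mem hcz hz').1, pu_mul hcz.1 hz'.1,
    pu_mul (add_mem hcz hz').1 (neg_mem (add_mem hcz hz')).1] at h1
  rw [mem_zPart]
  convert h1 using 2
  · rw [add_neg_cancel]
  · simp [hzz, sf_swap z z']

end MinIdx

end H48
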