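import Mathlib
import Cfsg.Agent.H48.MinFull

/-!
# The index bound for subgroups without full root groups
-/

set_option autoImplicit false

namespace H48

namespace MinIdx

open Matrix
open H49 (IsCtr)

variable {m : ℕ} {F : Type*} [Field F] [Fintype F] {x y : Fin m ⊕ Fin m → F}
  {K : Subgroup (Matrix.symplecticGroup (Fin m) F)}

local notation "V" => (Fin m ⊕ Fin m → F)
local notation "Sp" => Matrix.symplecticGroup (Fin m) F
local notation "qq" => Fintype.card F

/-- The numerical step. -/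
theorem target_of_ge {q m n : ℕ} (hq : 3 ≤ q) (hm : 2 ≤ m)
    (h : (q + 2) * (q ^ (2 * m - 2) - 1) ≤ n) : q ^ (2 * m) - 1 ≤ (q - 1) * n := by
  refine le_trans ?_ (Nat.mul_le_mul_left _ h)
  have e : q ^ (2 * m) = q * q * q ^ (2 * m - 2) := by
    rw [← sq, ← pow_add]; congr 1; omega
  have hX : q * q ≤ q ^ (2 * m - 2) := by
    rw [← sq]; exact Nat.pow_le_pow_right (by omega) (by omega)
  rw [e]
  generalize q ^ (2 * m - 2) = X at hX
  obtain ⟨a, rfl⟩ : ∃ a, q = a + 3 := ⟨q - 3, by omega⟩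
  obtain ⟨b, rfl⟩ : ∃ b, X = b + (a + 3) * (a + 3) := ⟨X - (a + 3) * (a + 3), by omega⟩
  obtain ⟨d, hd⟩ : ∃ d, b + (a + 3) * (a + 3) = d + 1 := ⟨b + (a + 3) * (a + 3) - 1, by
    have : 1 ≤ (a + 3) * (a + 3) := Nat.one_le_iff_ne_zero.2 (by positivity)
    omega⟩
  rw [hd, Nat.add_sub_cancel, show a + 3 - 1 = a + 2 by omega, Nat.sub_le_iff_le_add]
  nlinarith

theorem card_lev1_pos : 0 < Nat.card (lev1 x y) := Nat.card_pos

theorem inf_stab_le (j : V) : (gamPart K x y ⊓ fixFam (fun _ : Unit => j) : Subgroup Sp) ≤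
    lev1 x y ⊓ fixFam (fun _ : Unit => j) := inf_le_inf_right _ inf_le_right

/-- A vector of the annihilator whose stabiliser is not contained in the projection. -/
theorem bound_annih (hq : 3 ≤ qq) (hxy : sf x y = 1) (hC : ¬ IsCtr K x) {ψ : AddChar F ℂ}
    (hψ : ψ.IsPrimitive) {j : V} (hj : j ∈ annih x y ψ (iPart K x y)) (hj0 : j ≠ 0)
    (hnot : ¬ lev1 x y ⊓ fixFam (fun _ : Unit => j) ≤ gamPart K x y) :
    (qq + 2) * (Nat.card (Vp x y) - 1) ≤ K.index := by
  classical
  set J := annih x y ψ (iPart K x y) with hJ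
  set I := iPart K x y with hI
  set S := (lev1 x y ⊓ fixFam (fun _ : Unit => j) : Subgroup Sp) with hS
  have h1 := bound_weak hq hxy hC
  have h2 := lev1_card_ge hxy hj.1 hj0
  rw [← card_Vp hxy] at h2
  have h3 := annih_card hxy hψ I fun i hi => hi.1
  have horb : Nat.card (gamPart K x y) ≤ (Nat.card J - 1) *
      Nat.card (gamPart K x y ⊓ fixFam (fun _ : Unit => j) : Subgroup Sp) := by
    have e : Nat.card ((J : Set V) \ {0} : Set V) = Nat.card J - 1 := by
      rw [Nat.card_coe_set_eq, Set.ncard_sdiff_singleton_of_mem J.zero_mem]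
      rfl
    rw [← e]
    refine card_le_orbit_mul _ _ fun g hg => ⟨annih_smul hg.2 (fun i hi => ?_) hj, fun h => hj0 ?_⟩
    · exact gamPart_smul_iPart (inv_mem hg) hi
    · exact (smul_eq_zero_iff_eq g).1 h
  have hhalf : 2 * Nat.card (gamPart K x y ⊓ fixFam (fun _ : Unit => j) : Subgroup Sp) ≤ Nat.card S :=
    two_mul_card_le (inf_stab_le j) fun h => hnot (le_trans h inf_le_left)
  have hSpos : 0 < Nat.card S := Nat.card_pos
  have hX : 0 < Nat.card (Vp x y) := Nat.card_pos
  have hIJ : Nat.card I * (Nat.card J - 1) ≤ Nat.card (Vp x y) := by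
    rw [← h3, mul_comm (Nat.card I)]
    exact Nat.mul_le_mul_right _ (Nat.sub_le _ _)
  refine Nat.le_of_mul_le_mul_right ?_ (Nat.mul_pos hX hSpos)
  calc (qq + 2) * (Nat.card (Vp x y) - 1) * (Nat.card (Vp x y) * Nat.card S)
      = (qq + 2) * (Nat.card (Vp x y) * ((Nat.card (Vp x y) - 1) * Nat.card S)) := by ring
    _ ≤ (qq + 2) * (Nat.card (Vp x y) * Nat.card (lev1 x y)) := by gcongr
    _ ≤ 2 * (K.index * (Nat.card I * Nat.card (gamPart K x y))) := h1
    _ ≤ 2 * (K.index * (Nat.card I * ((Nat.card J - 1) *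
          Nat.card (gamPart K x y ⊓ fixFam (fun _ : Unit => j) : Subgroup Sp)))) := by gcongr
    _ = K.index * (Nat.card I * (Nat.card J - 1) *
          (2 * Nat.card (gamPart K x y ⊓ fixFam (fun _ : Unit => j) : Subgroup Sp))) := by ring
    _ ≤ K.index * (Nat.card (Vp x y) * Nat.card S) := by gcongr

/-- Vectors orthogonal to everything orthogonal to `j` are multiples of `j`. -/
theorem mem_span_of_perp (hxy : sf x y = 1) {j z : V} (hj : j ∈ Vp x y) (hj0 : j ≠ 0)
    (hz : z ∈ Vp x y) (h : ∀ u ∈ Vp x y, sf u j = 0 → sf z u = 0) : ∃ t : F, z = t • j := by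
  obtain ⟨v, hv, hjv⟩ := Vp_exists_ne hxy hj hj0
  refine ⟨sf z v, sub_eq_zero.1 (perp_Vp_eq_zero hxy (sub_mem hz (Submodule.smul_mem _ _ hj)) fun u hu => ?_)⟩
  have hu' : sf (u - sf j u • v) j = 0 := by
    simp [sf_swap j v, sf_swap j u, hjv]
  have := h _ (sub_mem hu (Submodule.smul_mem _ _ hv)) hu'
  simp only [map_sub, map_smul, smul_eq_mul] at this
  simp only [map_sub, map_smul, LinearMap.sub_apply, LinearMap.smul_apply, smul_eq_mul]
  linear_combination this

section StabIn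

variable {j : Fin m ⊕ Fin m → F} (hst : lev1 x y ⊓ fixFam (fun _ : Unit => j) ≤ gamPart K x y)

include hst

theorem tv_mem_gam {z : V} (hz : z ∈ Vp x y) (hzj : sf z j = 0) (a : F) : tv z a ∈ gamPart K x y :=
  hst ⟨tv_mem_lev1 hz a, fun _ => by rw [tv_smul, sf_eq_zero_comm hzj]; simp⟩

theorem line_mem {z v : V} (hz : z ∈ Vp x y) (hzj : sf z j = 0) (hv : v ∈ iPart K x y)
    (hvz : sf v z ≠ 0) (t : F) : t • z ∈ iPart K x y := by
  have h := gamPart_smul_iPart (tv_mem_gam hst hz hzj (t / sf v z)) hv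
  have h' := (iPart K x y).sub_mem h hv
  rwa [tv_smul, div_mul_cancel₀ t hvz, add_sub_cancel_left] at h'

theorem value_unique (hxy : sf x y = 1) (hC : ¬ IsCtr K x) {z v v' : V} (hz : z ∈ Vp x y)
    (hzj : sf z j = 0) (hv : v ∈ iPart K x y) (hv' : v' ∈ iPart K x y) (h : sf v z ≠ 0)
    (h' : sf v' z ≠ 0) : (2 : F) = 0 ∧ sf v z = sf v' z := by
  by_cases h2 : (2 : F) = 0
  swap
  · exfalso
    apply hC
    rw [← zPart_eq_top_iff, eq_top_iff]
    intro c _
    have := comm_mem hv (line_mem hst hz hzj hv h (c / (2 * sf v z)))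
    rwa [map_smul, smul_eq_mul, show 2 * (c / (2 * sf v z) * sf v z) = c by field_simp] at this
  refine ⟨h2, ?_⟩
  by_contra hne
  apply hC
  rw [← zPart_eq_top_iff, eq_top_iff]
  intro c _
  have hden : sf v z + sf v' z ≠ 0 := fun e => hne (by linear_combination e - sf v' z * h2)
  set l := c / (sf v z + sf v' z) with hl
  have h1 := family_mem h2 hxy hz (tv_mem_gam hst hz hzj (l / sf v z)) hv
  have h1' := family_mem h2 hxy hz (tv_mem_gam hst hz hzj (l / sf v' z)) hv'
  rw [div_mul_cancel₀ l h] at h1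
  rw [div_mul_cancel₀ l h'] at h1'
  have hlz : sf x (l • z) = 0 := by rw [map_smul, hz.1, smul_zero]
  have h3 := K.mul_mem h1 h1'
  rw [pu_mul hlz hlz, sf_self, add_zero, ← two_smul F, h2, zero_smul] at h3
  rw [mem_zPart]
  convert h3 using 2
  have : l * (sf v z + sf v' z) = c := by rw [hl, div_mul_cancel₀ _ hden]
  rw [← this]
  field_simp

theorem perp_of_not_line (hq : 3 ≤ qq) (hxy : sf x y = 1) (hC : ¬ IsCtr K x) (hj : j ∈ Vp x y)
    (hj0 : j ≠ 0) {z : V} (hz : z ∈ Vp x y) (hzj : sf z j = 0) (hnl : ¬ ∃ t : F, z = t • j)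
    {v : V} (hv : v ∈ iPart K x y) : sf v z = 0 := by
  classical
  by_contra hvz
  obtain ⟨u, hu, huj, huz⟩ : ∃ u ∈ Vp x y, sf u j = 0 ∧ sf z u ≠ 0 := by
    by_contra hcon
    simp only [not_exists, not_and, not_not] at hcon
    exact hnl (mem_span_of_perp hxy hj hj0 hz hcon)
  obtain ⟨s, -, hs⟩ := Finset.exists_mem_notMem_of_card_lt_card (s := ({0, 1} : Finset F))
    (t := Finset.univ) (by
      have := Finset.card_le_two (a := (0 : F)) (b := 1)
      rw [Finset.card_univ]; omega)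
  simp only [Finset.mem_insert, Finset.mem_singleton, not_or] at hs
  have h1 : sf ((1 : F) • z) u ≠ 0 := by rwa [one_smul]
  have h2 : sf (s • z) u ≠ 0 := by
    rw [LinearMap.map_smul₂]; exact smul_ne_zero hs.1 huz
  have := (value_unique hst hxy hC hu huj (line_mem hst hz hzj hv hvz 1) (line_mem hst hz hzj hv hvz s) h1 h2).2
  rw [one_smul, LinearMap.map_smul₂, smul_eq_mul] at this
  exact hs.2 ((mul_eq_right₀ huz).1 this.symm)

/-- Either the image lies on the line of `j`, or it is the exceptional configuration. -/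
theorem line_or_exc (hq : 3 ≤ qq) (hm : 2 ≤ m) (hxy : sf x y = 1) (hC : ¬ IsCtr K x)
    (hj : j ∈ Vp x y) (hj0 : j ≠ 0) :
    (∀ v ∈ iPart K x y, ∃ t : F, v = t • j) ∨
      (m = 2 ∧ (2 : F) = 0 ∧ (∀ t : F, t • j ∈ iPart K x y) ∧
        ∃ α : F, α ≠ 0 ∧ (∃ v ∈ iPart K x y, sf v j = α) ∧
          ∀ v ∈ iPart K x y, sf v j = 0 ∨ sf v j = α) := by
  classical
  by_cases hex : ∃ z ∈ Vp x y, sf z j = 0 ∧ ¬ ∃ t : F, z = t • j
  · left
    obtain ⟨z₀, hz₀, hz₀j, hz₀n⟩ := hex
    intro v hv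
    have hvj : sf v j = 0 := by
      have h1 := perp_of_not_line hst hq hxy hC hj hj0 hz₀ hz₀j hz₀n hv
      have h2 := perp_of_not_line hst hq hxy hC hj hj0 (z := z₀ + j) (add_mem hz₀ hj)
        (by rw [map_add, LinearMap.add_apply, hz₀j, sf_self, add_zero])
        (fun ⟨t, ht⟩ => hz₀n ⟨t - 1, by rw [sub_smul, one_smul, ← ht, add_sub_cancel_right]⟩) hv
      rwa [map_add, h1, zero_add] at h2
    refine mem_span_of_perp hxy hj hj0 hv.1 fun u hu huj => ?_
    by_cases hul : ∃ t : F, u = t • j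
    · obtain ⟨t, rfl⟩ := hul
      rw [map_smul, hvj, smul_zero]
    · exact perp_of_not_line hst hq hxy hC hj hj0 hu huj hul hv
  simp only [not_exists, not_and, not_forall, not_not] at hex
  by_cases hall : ∀ v ∈ iPart K x y, sf v j = 0
  · left
    exact fun v hv => hex v hv.1 (hall v hv)
  right
  simp only [not_forall] at hall
  obtain ⟨v, hv, hvj⟩ := hall
  have hval : ∀ v' ∈ iPart K x y, sf v' j ≠ 0 → (2 : F) = 0 ∧ sf v j = sf v' j := fun v' hv' h =>
    value_unique hst hxy hC hj (sf_self j) hv hv' hvj h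
  refine ⟨?_, (hval v hv hvj).1, fun t => line_mem hst hj (sf_self j) hv hvj t, sf v j, hvj, ⟨v, hv, rfl⟩,
    fun v' hv' => ?_⟩
  · obtain ⟨v', hv', hjv⟩ := Vp_exists_ne hxy hj hj0
    have hle : Vp x y ≤ Submodule.span F {j, v'} := by
      intro u hu
      obtain ⟨t, ht⟩ := hex (u - sf j u • v') (sub_mem hu (Submodule.smul_mem _ _ hv'))
        (by simp [sf_swap j v', sf_swap j u, hjv])
      rw [sub_eq_iff_eq_add] at ht
      rw [ht]
      exact add_mem (Submodule.smul_mem _ _ (Submodule.subset_span (Or.inl rfl)))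
        (Submodule.smul_mem _ _ (Submodule.subset_span (Or.inr rfl)))
    have h1 := (Submodule.finrank_mono hle).trans (finrank_span_le_card _)
    have h5 := card_Vp hxy
    rw [card_submodule] at h5
    have h6 := Nat.pow_right_injective (Fintype.one_lt_card (α := F)) h5
    have h7 : ({j, v'} : Set V).toFinset.card ≤ 2 := by
      rw [Set.toFinset_insert, Set.toFinset_singleton]; exact Finset.card_le_two
    omega
  · by_cases h : sf v' j = 0
    · exact Or.inl h
    · exact Or.inr (hval v' hv' h).2.symm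

end StabIn

theorem card_lineSet (j : V) :
    Nat.card (((Submodule.span F {j} : Submodule F V) : Set V) \ {0} : Set V) ≤ qq - 1 := by
  classical
  rw [← Fintype.card_units F, ← Nat.card_eq_fintype_card]
  have key : ∀ z : (((Submodule.span F {j} : Submodule F V) : Set V) \ {0} : Set V),
      ∃ a : Fˣ, (z : V) = (a : F) • j := by
    rintro ⟨z, hz, hz0⟩
    obtain ⟨a, rfl⟩ := Submodule.mem_span_singleton.1 hz
    exact ⟨Units.mk0 a fun h => hz0 (by simp [h]), rfl⟩
  choose φ hφ using key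
  exact Nat.card_le_card_of_injective φ fun a b h => Subtype.ext (by rw [hφ a, hφ b, h])

theorem card_iPart_line {j : V} (hj0 : j ≠ 0) (hline : ∀ v ∈ iPart K x y, ∃ t : F, v = t • j) :
    Nat.card (iPart K x y) ≤ qq ∧
      ((∀ t : F, t • j ∈ iPart K x y) ∨ 2 * Nat.card (iPart K x y) ≤ qq) := by
  classical
  let A : AddSubgroup F :=
    (iPart K x y).comap ((LinearMap.toSpanSingleton F V j).toAddMonoidHom)
  have hA : Nat.card (iPart K x y) ≤ Nat.card A := by
    have key : ∀ v : iPart K x y, ∃ t : A, (v : V) = (t : F) • j := by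
      rintro ⟨v, hv⟩
      obtain ⟨t, ht⟩ := hline v hv
      exact ⟨⟨t, by show t • j ∈ iPart K x y; rw [← ht]; exact hv⟩, ht⟩
    choose φ hφ using key
    exact Nat.card_le_card_of_injective φ fun a b h => Subtype.ext (by rw [hφ a, hφ b, h])
  have hAF := A.card_mul_index
  rw [Nat.card_eq_fintype_card (α := F)] at hAF
  have hidx : A.index ≠ 0 := AddSubgroup.index_ne_zero_of_finite
  refine ⟨hA.trans (hAF ▸ Nat.le_mul_of_pos_right _ (Nat.pos_of_ne_zero hidx)), ?_⟩
  by_cases htop : A.index = 1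
  · left
    intro t
    exact (AddSubgroup.index_eq_one.1 htop ▸ AddSubgroup.mem_top t : t ∈ A)
  · right
    rw [← hAF, mul_comm 2]
    exact (Nat.mul_le_mul_right 2 hA).trans (Nat.mul_le_mul_left _ (by omega))

/-- The image is a non-trivial subgroup of a line. -/
theorem bound_line_part (hq : 3 ≤ qq) (hxy : sf x y = 1) (hC : ¬ IsCtr K x) {j : V}
    (hj : j ∈ Vp x y) (hj0 : j ≠ 0) (hline : ∀ v ∈ iPart K x y, ∃ t : F, v = t • j)
    (hne : ∃ v ∈ iPart K x y, v ≠ 0) :
    (∀ g ∈ gamPart K x y, ∃ t : F, g • j = t • j) ∧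
    (qq + 2) * (Nat.card (Vp x y) * (Nat.card (Vp x y) - 1)) ≤
      2 * (K.index * (Nat.card (iPart K x y) * (qq - 1))) := by
  obtain ⟨v, hv, hv0⟩ := hne
  obtain ⟨t, rfl⟩ := hline v hv
  have ht0 : t ≠ 0 := fun h => hv0 (by rw [h, zero_smul])
  have hΓj : ∀ g ∈ gamPart K x y, ∃ s : F, g • j = s • j := by
    intro g hg
    obtain ⟨s, hs⟩ := hline _ (gamPart_smul_iPart hg hv)
    rw [smul_comm] at hs
    exact ⟨t⁻¹ * s, by rw [mul_smul, ← hs, smul_smul, inv_mul_cancel₀ ht0, one_smul]⟩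
  refine ⟨hΓj, ?_⟩
  have h1 := bound_weak hq hxy hC
  have h2 := lev1_card_ge hxy hj hj0
  rw [← card_Vp hxy] at h2
  set S := (lev1 x y ⊓ fixFam (fun _ : Unit => j) : Subgroup Sp) with hS
  have hSpos : 0 < Nat.card S := Nat.card_pos
  have horb : Nat.card (gamPart K x y) ≤ (qq - 1) * Nat.card S :=
    (card_le_orbit_mul (gamPart K x y) (((Submodule.span F {j} : Submodule F V) : Set V) \ {0})
      fun g hg => ⟨by
        obtain ⟨s, hs⟩ := hΓj g hg
        exact Submodule.mem_span_singleton.2 ⟨s, hs.symm⟩, fun h => hj0 ((smul_eq_zero_iff_eq g).1 h)⟩).trans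
      (Nat.mul_le_mul (card_lineSet j) (Subgroup.card_le_of_le (inf_stab_le j)))
  refine Nat.le_of_mul_le_mul_right ?_ hSpos
  calc _ = (qq + 2) * (Nat.card (Vp x y) * ((Nat.card (Vp x y) - 1) * Nat.card S)) := by ring
    _ ≤ (qq + 2) * (Nat.card (Vp x y) * Nat.card (lev1 x y)) := by gcongr
    _ ≤ 2 * (K.index * (Nat.card (iPart K x y) * Nat.card (gamPart K x y))) := h1
    _ ≤ 2 * (K.index * (Nat.card (iPart K x y) * ((qq - 1) * Nat.card S))) := by gcongr
    _ = _ := by ring

/-- The full line with full line stabiliser, normalised. -/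
theorem full_line_core (hxy : sf x y = 1) {j j' : V} (hj : j ∈ Vp x y) (hj' : j' ∈ Vp x y)
    (hjj : sf j j' = 1) (hgen : ∀ v ∈ Vp x y, v = sf v j' • j - sf v j • j')
    (hI : ∀ t : F, t • j ∈ iPart K x y) (hW : (2 : F) = 0 → zPart K x = ⊥)
    (hC : ¬ IsCtr K x) {ν : F} (hν0 : ν ≠ 0) (hν1 : ν ≠ 1) (hν : ν * ν ≠ 1)
    (ht : dil j j' ν 1 ∈ K) (htv : ∀ a, tv j a ∈ gamPart K x y) : IsCtr K j := by
  have hone : (1 : F) * 1 = 1 := one_mul 1
  have hjx : ∀ v ∈ Vp x y, sf x v = 0 := fun v hv => hv.1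
  obtain ⟨hj1, hj2⟩ : sf x j = 0 ∧ sf y j = 0 := hj
  obtain ⟨hj'1, hj'2⟩ : sf x j' = 0 ∧ sf y j' = 0 := hj'
  have htx : dil j j' ν 1 • x = x := by
    rw [dil_smul hjj hν0 hone, sf_eq_zero_comm hj1, sf_eq_zero_comm hj'1]; simp
  have hty : dil j j' ν 1 • y = y := by
    rw [dil_smul hjj hν0 hone, sf_eq_zero_comm hj2, sf_eq_zero_comm hj'2]; simp
  have htl : dil j j' ν 1 ∈ lev1 x y := ⟨htx, hty⟩
  -- the pure line lies in `K`
  have hline : ∀ t : F, pu x (t • j) 0 ∈ K := by
    intro t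
    obtain ⟨-, c, hc⟩ := hI (t / (ν - 1))
    have h1 := K.mul_mem (K.mul_mem ht hc) (K.inv_mem ht)
    have hjs : (t / (ν - 1)) • j ∈ Vp x y := Submodule.smul_mem _ _ ⟨hj1, hj2⟩
    rw [pu_conj hjs.1 c one_ne_zero (lev1_smul_x htl), smul_comm (dil j j' ν 1), dil_left hjj hν0 hone,
      one_smul, one_mul, one_mul] at h1
    have h2 := K.mul_mem h1 (K.inv_mem hc)
    rw [pu_inv hjs.1, pu_mul (by simp [hj1]) (neg_mem hjs).1] at h2
    convert h2 using 2
    · have hne : ν - 1 ≠ 0 := sub_ne_zero.2 hν1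
      conv_lhs => rw [show t = t / (ν - 1) * (ν - 1) from (div_mul_cancel₀ t hne).symm]
      module
    · simp [sf_self]
  refine ctr_of_scaling hxy ⟨hj1, hj2⟩ htl hν (by rw [dil_left hjj hν0 hone])
    (show pu x 0 0 * dil j j' ν 1 ∈ K by rw [pu_zero, one_mul]; exact ht) fun a => ?_
  obtain ⟨-, w, hw, d, hwd⟩ := mem_gamPart.1 (htv a)
  by_cases ha : a = 0
  · exact ⟨0, by rw [ha, tv_zero, pu_zero, one_mul]; exact K.one_mem⟩
  have hwj : sf w j = 0 := by
    by_cases h2 : (2 : F) = 0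
    · -- squaring
      have hsq := K.mul_mem hwd hwd
      have hℓ : tv j a • x = (1 : F) • x := by rw [one_smul, tv_smul, hj1]; simp
      have hℓw : tv j a • w ∈ Vp x y := lev_smul_mem_Vp (lev1_le_lev (tv_mem_lev1 ⟨hj1, hj2⟩ a)) hw
      have e : pu x w d * tv j a * (pu x w d * tv j a) =
          pu x w d * (tv j a * pu x w d * (tv j a)⁻¹) * (tv j a * tv j a) := by group
      rw [e, pu_conj hw.1 d one_ne_zero hℓ, one_smul, one_mul, one_mul, pu_mul hw.1 hℓw.1, tv_mul,
        ← two_mul a, h2, zero_mul, tv_zero, mul_one] at hsq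
      have h3 := K.mul_mem hsq (K.inv_mem (hline (a * sf w j)))
      have haj : sf x ((a * sf w j) • j) = 0 := by rw [map_smul, hj1, smul_zero]
      rw [pu_inv haj, pu_mul (by rw [map_add, hw.1, hℓw.1, add_zero])
        (by rw [map_neg, haj, neg_zero]), tv_smul] at h3
      have hmem : a * (sf w j * sf w j) ∈ zPart K x := by
        rw [mem_zPart]
        convert h3 using 2
        · rw [← add_assoc, ← two_smul F w, h2, zero_smul, zero_add, add_neg_cancel]
        · simp only [map_add, map_neg, map_smul, LinearMap.add_apply, LinearMap.smul_apply, smul_eq_mul,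
            sf_self, sf_swap w j]
          linear_combination (a * (sf w j * sf w j) - d) * h2
      rw [hW h2, AddSubgroup.mem_bot] at hmem
      simpa [ha] using hmem
    · by_contra hne
      apply hC
      rw [← zPart_eq_top_iff, eq_top_iff]
      intro c _
      set t := c / (2 * sf w j) with htdef
      have htj : t • j ∈ Vp x y := Submodule.smul_mem _ _ ⟨hj1, hj2⟩
      have h1 := conj_rad hw htj (lev1_le_lev (tv_mem_lev1 ⟨hj1, hj2⟩ a)) one_ne_zero
        (by rw [one_smul, tv_smul, hj1]; simp) hwd (hline t)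
      rw [one_smul, one_mul, one_mul, smul_comm (tv j a), tv_smul, sf_self, mul_zero, zero_smul,
        add_zero, zero_add] at h1
      have h3 := K.mul_mem (K.inv_mem (hline t)) h1
      rw [pu_inv htj.1, pu_mul (neg_mem htj).1 htj.1] at h3
      rw [mem_zPart]
      convert h3 using 2
      · rw [neg_add_cancel]
      · simp only [map_neg, LinearMap.neg_apply, map_smul, LinearMap.smul_apply, sf_self, smul_eq_mul]
        rw [htdef]
        field_simp
        ring
  have hwl : w = sf w j' • j := by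
    conv_lhs => rw [hgen w hw, hwj, zero_smul, sub_zero]
  have h3 := K.mul_mem (K.inv_mem (hline (sf w j'))) hwd
  rw [← hwl, pu_inv hw.1, ← mul_assoc, pu_mul (neg_mem hw).1 hw.1, neg_add_cancel] at h3
  exact ⟨_, h3⟩

/-- The bound when some point has a proper image. -/
theorem bound_at (hm : 2 ≤ m) (hq : 3 ≤ qq) (hexc : ¬ (m = 2 ∧ qq = 3)) (hxy : sf x y = 1)
    (hC : ∀ z, z ≠ 0 → ¬ IsCtr K z) (hprop : ∃ v ∈ Vp x y, v ∉ iPart K x y) :
    qq ^ (2 * m) - 1 ≤ (qq - 1) * K.index := by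
  classical
  have hx : x ≠ 0 := fun h => by simp [h] at hxy
  have hX := card_Vp hxy
  by_cases hI : ∀ v ∈ iPart K x y, v = 0
  · exact target_of_ge hq hm (hX ▸ bound_zero hm hq hexc hxy hC hI)
  simp only [not_forall] at hI
  obtain ⟨v₁, hv₁, hv₁0⟩ := hI
  obtain ⟨ψ, hψ⟩ := exists_psi (F := F) (K := ℂ) (by
    rw [ringChar.eq ℂ 0]
    exact (CharP.char_ne_zero_of_finite F (ringChar F)).symm)
  obtain ⟨j, hj, hj0⟩ : ∃ j ∈ annih x y ψ (iPart K x y), j ≠ 0 := by
    by_contra hcon
    simp only [not_exists, not_and, not_not] at hcon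
    have h1 := annih_card hxy hψ (iPart K x y) fun i hi => hi.1
    have h2 : Nat.card (annih x y ψ (iPart K x y)) = 1 := by
      rw [Nat.card_eq_one_iff_unique]
      exact ⟨⟨fun a b => Subtype.ext ((hcon _ a.2).trans (hcon _ b.2).symm)⟩, ⟨0⟩⟩
    rw [h2, one_mul] at h1
    obtain ⟨v, hv, hvn⟩ := hprop
    have h3 : (iPart K x y : Set V) = (Vp x y : Set V) :=
      Set.eq_of_subset_of_ncard_le (fun i hi => hi.1) (le_of_eq h1.symm) (Set.toFinite _)
    exact hvn (show v ∈ (iPart K x y : Set V) by rw [h3]; exact hv)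
  by_cases hst : lev1 x y ⊓ fixFam (fun _ : Unit => j) ≤ gamPart K x y
  swap
  · exact target_of_ge hq hm (hX ▸ bound_annih hq hxy (hC x hx) hψ hj hj0 hst)
  have hjV : j ∈ Vp x y := hj.1
  rcases line_or_exc hst hq hm hxy (hC x hx) hjV hj0 with hline | ⟨hm2, h2, hjI, α, hα, ⟨v₀, hv₀, hv₀α⟩, hvals⟩
  · obtain ⟨hΓj, hb⟩ := bound_line_part hq hxy (hC x hx) hjV hj0 hline ⟨v₁, hv₁, hv₁0⟩
    obtain ⟨hι, hι2⟩ := card_iPart_line hj0 hline
    rw [hX] at hb
    have hsmall : 2 * Nat.card (iPart K x y) ≤ qq ∨ 3 ≤ m → qq ^ (2 * m) - 1 ≤ (qq - 1) * K.index := by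
      intro h
      have e : qq ^ (2 * m) = qq * qq * qq ^ (2 * m - 2) := by
        rw [← sq, ← pow_add]; congr 1; omega
      have hX2 : qq * qq ≤ qq ^ (2 * m - 2) := by
        rw [← sq]; exact Nat.pow_le_pow_right (by omega) (by omega)
      refine le_trans (Nat.sub_le _ _) ?_
      refine Nat.le_of_mul_le_mul_left ?_ (show 0 < qq by omega)
      rcases h with h | h
      · calc qq * qq ^ (2 * m) ≤ (qq + 2) * (qq ^ (2 * m - 2) * (qq ^ (2 * m - 2) - 1)) := by
              rw [e]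
              generalize qq ^ (2 * m - 2) = X at hX2
              obtain ⟨d, rfl⟩ : ∃ d, X = d + 1 := ⟨X - 1, by
                have : 0 < qq * qq := Nat.mul_pos (by omega) (by omega)
                omega⟩
              rw [Nat.add_sub_cancel]
              have h8 : (qq + 2) * (qq * qq) ≤ (qq + 2) * (d + 1) := Nat.mul_le_mul_left _ hX2
              have h9 : qq * (qq * qq) ≤ (qq + 2) * d := by nlinarith
              calc qq * (qq * qq * (d + 1)) = (d + 1) * (qq * (qq * qq)) := by ring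
                _ ≤ (d + 1) * ((qq + 2) * d) := Nat.mul_le_mul_left _ h9
                _ = _ := by ring
          _ ≤ 2 * (K.index * (Nat.card (iPart K x y) * (qq - 1))) := hb
          _ = (qq - 1) * K.index * (2 * Nat.card (iPart K x y)) := by ring
          _ ≤ _ := by rw [mul_comm qq]; gcongr
      · have hX3 : qq ^ 4 ≤ qq ^ (2 * m - 2) := Nat.pow_le_pow_right (by omega) (by omega)
        have h2ι : 2 * Nat.card (iPart K x y) ≤ 2 * qq := by omega
        refine Nat.le_of_mul_le_mul_left ?_ (show 0 < 2 by omega)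
        calc 2 * (qq * qq ^ (2 * m)) ≤ (qq + 2) * (qq ^ (2 * m - 2) * (qq ^ (2 * m - 2) - 1)) := by
              rw [e]
              generalize qq ^ (2 * m - 2) = X at hX3
              obtain ⟨d, rfl⟩ : ∃ d, X = d + 1 := ⟨X - 1, by
                have : 0 < qq ^ 4 := Nat.pow_pos (by omega)
                omega⟩
              rw [Nat.add_sub_cancel]
              have h9 : 2 * (qq * (qq * qq)) ≤ (qq + 2) * d := by nlinarith
              nlinarith
          _ ≤ 2 * (K.index * (Nat.card (iPart K x y) * (qq - 1))) := hb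
          _ = (qq - 1) * K.index * (2 * Nat.card (iPart K x y)) := by ring
          _ ≤ (qq - 1) * K.index * (2 * qq) := Nat.mul_le_mul_left _ h2ι
          _ = _ := by ring
    rcases hι2 with hjI | hι2
    swap
    · exact hsmall (Or.inl hι2)
    by_cases hm3 : 3 ≤ m
    · exact hsmall (Or.inr hm3)
    have hm2 : m = 2 := by omega
    have hq4 : 4 ≤ qq := by
      rcases Nat.lt_or_ge qq 4 with h | h
      · exact absurd ⟨hm2, by omega⟩ hexc
      · exact h
    have hX2 : qq ^ (2 * m - 2) = qq * qq := by rw [hm2]; norm_num [sq]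
    rw [show 2 * m = 2 * 2 by omega]
    rw [hX2] at hb
    -- it suffices to win a factor two
    have hwin : (qq + 2) * (qq * qq * (qq * qq - 1)) ≤ K.index * (qq * (qq - 1)) →
        qq ^ (2 * 2) - 1 ≤ (qq - 1) * K.index := by
      intro h
      refine Nat.le_of_mul_le_mul_left ?_ (show 0 < qq by omega)
      calc qq * (qq ^ (2 * 2) - 1) ≤ (qq + 2) * (qq * qq * (qq * qq - 1)) := by
            obtain ⟨d, hd⟩ : ∃ d, qq * qq = d + 1 := ⟨qq * qq - 1, by
              have : 0 < qq * qq := Nat.mul_pos (by omega) (by omega)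
              omega⟩
            rw [show qq ^ (2 * 2) = qq * qq * (qq * qq) by ring, hd, Nat.add_sub_cancel,
              show (d + 1) * (d + 1) - 1 = d * (d + 2) by
                rw [Nat.sub_eq_iff_eq_add (Nat.one_le_iff_ne_zero.2 (by positivity))]; ring]
            calc qq * (d * (d + 2)) = d * (qq * (d + 2)) := by ring
              _ ≤ d * ((qq + 2) * (d + 1)) := Nat.mul_le_mul_left _ (by nlinarith)
              _ = _ := by ring
        _ ≤ K.index * (qq * (qq - 1)) := h
        _ = _ := by ring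
    apply hwin
    set S := (lev1 x y ⊓ fixFam (fun _ : Unit => j) : Subgroup Sp) with hS
    have hSpos : 0 < Nat.card S := Nat.card_pos
    have h2' := lev1_card_ge hxy hjV hj0
    rw [hX2] at h2'
    let B : Subgroup Sp := lev1 x y ⊓ pst j
    have hΓB : gamPart K x y ≤ B := fun g hg => ⟨hg.2, by
      obtain ⟨t, ht⟩ := hΓj g hg
      exact ⟨Units.mk0 t fun h => hj0 ((smul_eq_zero_iff_eq g).1 (by rw [ht, h, zero_smul])), ht⟩⟩
    have hB : Nat.card B ≤ (qq - 1) * Nat.card S := by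
      refine (card_le_orbit_mul B (((Submodule.span F {j} : Submodule F V) : Set V) \ {0})
        fun g hg => ⟨?_, fun h => hj0 ((smul_eq_zero_iff_eq g).1 h)⟩).trans
        (Nat.mul_le_mul (card_lineSet j) (Subgroup.card_le_of_le (inf_le_inf_right _ inf_le_left)))
      obtain ⟨a, ha⟩ := hg.2
      exact Submodule.mem_span_singleton.2 ⟨_, ha.symm⟩
    by_cases hfullB : B ≤ gamPart K x y
    swap
    · have h1 := bound_weak hq hxy (hC x hx)
      rw [hX, hX2] at h1
      have h3 := two_mul_card_le hΓB hfullB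
      refine Nat.le_of_mul_le_mul_right ?_ hSpos
      calc (qq + 2) * (qq * qq * (qq * qq - 1)) * Nat.card S
          = (qq + 2) * (qq * qq * ((qq * qq - 1) * Nat.card S)) := by ring
        _ ≤ (qq + 2) * (qq * qq * Nat.card (lev1 x y)) := by gcongr
        _ ≤ 2 * (K.index * (Nat.card (iPart K x y) * Nat.card (gamPart K x y))) := h1
        _ = K.index * (Nat.card (iPart K x y) * (2 * Nat.card (gamPart K x y))) := by ring
        _ ≤ K.index * (qq * ((qq - 1) * Nat.card S)) := by exact Nat.mul_le_mul_left _ (Nat.mul_le_mul hι (h3.trans hB))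
        _ = _ := by ring
    by_cases hWe : (2 : F) = 0 ∧ zPart K x ≠ ⊥
    · have h1 := bound_strong hq hxy (hC x hx) hWe.1 hWe.2
      rw [hX, hX2] at h1
      refine Nat.le_of_mul_le_mul_right ?_ hSpos
      calc (qq + 2) * (qq * qq * (qq * qq - 1)) * Nat.card S
          = (qq + 2) * (qq * qq * ((qq * qq - 1) * Nat.card S)) := by ring
        _ ≤ (qq + 2) * (qq * qq * Nat.card (lev1 x y)) := by gcongr
        _ ≤ K.index * (Nat.card (iPart K x y) * Nat.card (gamPart K x y)) := h1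
        _ ≤ K.index * (qq * ((qq - 1) * Nat.card S)) := by
            gcongr; exact (Subgroup.card_le_of_le hΓB).trans hB
        _ = _ := by ring
    exfalso
    obtain ⟨j', hj', hjj⟩ := Vp_exists_ne hxy hjV hj0
    have hgen : ∀ v ∈ Vp x y, v = sf v j' • j - sf v j • j' := by
      intro v hv
      have hli : LinearIndependent F ![j, j'] := linearIndependent_pair_of_sf (by rw [hjj]; exact one_ne_zero)
      have hle : Submodule.span F (Set.range ![j, j']) ≤ Vp x y := Submodule.span_le.2 (by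
        rintro _ ⟨i, rfl⟩; fin_cases i <;> assumption)
      have heq : Submodule.span F (Set.range ![j, j']) = Vp x y := by
        refine Submodule.eq_of_le_of_finrank_le hle (le_of_eq ?_)
        rw [finrank_span_eq_card hli, Fintype.card_fin]
        have h5 := card_Vp hxy
        rw [card_submodule] at h5
        have h6 := Nat.pow_right_injective (Fintype.one_lt_card (α := F)) h5
        omega
      rw [← heq, Submodule.mem_span_range_iff_exists_fun] at hv
      obtain ⟨c, rfl⟩ := hv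
      simp [Fin.sum_univ_two, hjj, sf_swap j j']
    obtain ⟨ν, hν0, hν1, hν⟩ := exists_unit_sq_ne_one (F := F) hq4
    have hν1' : ν⁻¹ ≠ 1 := fun h => hν1 (by rwa [inv_eq_one] at h)
    obtain ⟨hj1, hj2⟩ : sf x j = 0 ∧ sf y j = 0 := hjV
    obtain ⟨hj'1, hj'2⟩ : sf x j' = 0 ∧ sf y j' = 0 := hj'
    have hone : (1 : F) * 1 = 1 := one_mul 1
    have ht1 : dil j j' ν 1 ∈ lev1 x y :=
      ⟨by rw [dil_smul hjj hν0 hone, sf_eq_zero_comm hj1, sf_eq_zero_comm hj'1]; simp,
       by rw [dil_smul hjj hν0 hone, sf_eq_zero_comm hj2, sf_eq_zero_comm hj'2]; simp⟩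
    have htB : dil j j' ν 1 ∈ B := ⟨ht1, Units.mk0 ν hν0, by rw [dil_left hjj hν0 hone]; rfl⟩
    obtain ⟨-, w, hw, d, hwd⟩ := mem_gamPart.1 (hfullB htB)
    set w₀ := (sf w j' / (1 - ν)) • j - (sf w j / (1 - ν⁻¹)) • j' with hw₀def
    have hw₀ : w₀ ∈ Vp x y :=
      sub_mem (Submodule.smul_mem _ _ ⟨hj1, hj2⟩) (Submodule.smul_mem _ _ ⟨hj'1, hj'2⟩)
    have h3 := conjK_elem (d₀ := 0) hw₀ hw (lev1_le_lev ht1) one_ne_zero (lev1_smul_x ht1) hwd
    have e : -w₀ + w + (1 : F) • (dil j j' ν 1 • w₀) = 0 := by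
      rw [one_smul, hw₀def, smul_sub, smul_comm (dil j j' ν 1), smul_comm (dil j j' ν 1),
        dil_left hjj hν0 hone, dil_right hjj hν0 hone]
      conv_lhs => arg 1; arg 2; rw [hgen w hw]
      have h1 : (1 - ν : F) ≠ 0 := sub_ne_zero.2 (Ne.symm hν1)
      have h1' : (1 - ν⁻¹ : F) ≠ 0 := sub_ne_zero.2 (Ne.symm hν1')
      generalize sf w j' = p
      generalize sf w j = r
      conv_lhs => arg 1; arg 2; rw [show p = p / (1 - ν) * (1 - ν) from (div_mul_cancel₀ p h1).symm,
        show r = r / (1 - ν⁻¹) * (1 - ν⁻¹) from (div_mul_cancel₀ r h1').symm]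
      module
    rw [e] at h3
    generalize -(0 : F) + d + _ + _ + _ = d' at h3
    have h4 := (conjK K (pu x w₀ 0)).pow_mem h3 qq
    rw [pow_mul_centre (lev1_comm_centre hxy ht1 d'), card_cast_eq_zero, zero_mul, pu_zero, one_mul,
      dil_pow hjj hν0 hone, FiniteField.pow_card, one_pow] at h4
    have hK : ∀ z, z ≠ 0 → ¬ IsCtr (conjK K (pu x w₀ 0)) z := fun z hz h =>
      hC _ (fun h' => hz ((smul_eq_zero_iff_eq (pu x w₀ 0)).1 h')) (conjK_isCtr h)
    refine hK j hj0 (full_line_core hxy ⟨hj1, hj2⟩ ⟨hj'1, hj'2⟩ hjj hgen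
      (fun t => (conjK_iPart hw₀ _).2 (hjI t)) (fun h2 => ?_) (hK x hx) hν0 hν1 hν h4 fun a => ?_)
    · rw [conjK_zPart hw₀]
      by_contra hne
      exact hWe ⟨h2, hne⟩
    · exact conjK_gamPart hw₀ (hfullB ⟨tv_mem_lev1 ⟨hj1, hj2⟩ a, 1, by rw [tv_smul]; simp⟩)
  -- exceptional configuration
  have hX2 : qq ^ (2 * m - 2) = qq * qq := by rw [hm2]; norm_num [sq]
  rw [show 2 * m = 2 * 2 by omega]
  have hq4 : 4 ≤ qq := by
    rcases Nat.lt_or_ge qq 4 with h | h
    · exact absurd ⟨hm2, by omega⟩ hexc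
    · exact h
  have hker : ∀ v ∈ Vp x y, sf v j = 0 → ∃ t : F, v = t • j := by
    intro v hv hvj
    refine mem_span_of_perp hxy hjV hj0 hv fun u hu huj => ?_
    obtain ⟨j', hj', hjj⟩ := Vp_exists_ne hxy hjV hj0
    have hli : LinearIndependent F ![j, j'] := linearIndependent_pair_of_sf (by rw [hjj]; exact one_ne_zero)
    have hle : Submodule.span F (Set.range ![j, j']) ≤ Vp x y := Submodule.span_le.2 (by
      rintro _ ⟨i, rfl⟩; fin_cases i <;> assumption)
    have heq : Submodule.span F (Set.range ![j, j']) = Vp x y := by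
      refine Submodule.eq_of_le_of_finrank_le hle (le_of_eq ?_)
      rw [finrank_span_eq_card hli, Fintype.card_fin]
      have h5 := card_Vp hxy
      rw [card_submodule] at h5
      have h6 := Nat.pow_right_injective (Fintype.one_lt_card (α := F)) h5
      omega
    rw [← heq, Submodule.mem_span_range_iff_exists_fun] at hu
    obtain ⟨c, rfl⟩ := hu
    simp only [Fin.sum_univ_two, Matrix.cons_val_zero, Matrix.cons_val_one] at huj ⊢
    simp [sf_swap j j', hjj] at huj
    simp [huj, hvj]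
  have hι : Nat.card (iPart K x y) ≤ 2 * qq := by
    have key : ∀ v : iPart K x y, ∃ p : Bool × F, (v : V) = (if p.1 then v₀ else 0) + p.2 • j := by
      rintro ⟨v, hv⟩
      rcases hvals v hv with h | h
      · obtain ⟨t, ht⟩ := hker v hv.1 h
        exact ⟨(false, t), by simpa using ht⟩
      · obtain ⟨t, ht⟩ := hker (v - v₀) (sub_mem hv.1 hv₀.1) (by
          rw [map_sub, LinearMap.sub_apply, h, hv₀α, sub_self])
        exact ⟨(true, t), by simp [← ht]⟩
    choose φ hφ using key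
    have := Nat.card_le_card_of_injective φ fun a b h => Subtype.ext (by rw [hφ a, hφ b, h])
    simpa using this
  have hΓS : gamPart K x y ≤ lev1 x y ⊓ fixFam (fun _ : Unit => j) := by
    intro g hg
    refine ⟨hg.2, fun _ => ?_⟩
    have hgj : ∀ t : F, t • (g • j) ∈ iPart K x y := fun t => by
      rw [← smul_comm]; exact gamPart_smul_iPart hg (hjI t)
    have hgj0 : sf (g • j) j = 0 := by
      by_contra hne
      obtain ⟨s, -, hs⟩ := Finset.exists_mem_notMem_of_card_lt_card (s := ({0, α / sf (g • j) j} : Finset F))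
        (t := Finset.univ) (by
          have := Finset.card_le_two (a := (0 : F)) (b := α / sf (g • j) j)
          rw [Finset.card_univ]; omega)
      simp only [Finset.mem_insert, Finset.mem_singleton, not_or] at hs
      rcases hvals _ (hgj s) with h | h <;> rw [LinearMap.map_smul₂, smul_eq_mul] at h
      · exact hs.1 ((mul_eq_zero.1 h).resolve_right hne)
      · exact hs.2 (by rw [← h, mul_div_cancel_right₀ _ hne])
    obtain ⟨ν, hνj⟩ := hker _ (lev_smul_mem_Vp (lev1_le_lev hg.2) hjV) hgj0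
    have h1 := sf_smul_smul g v₀ j
    rw [hνj, map_smul, smul_eq_mul, hv₀α] at h1
    rcases hvals _ (gamPart_smul_iPart hg hv₀) with h | h <;> rw [h] at h1
    · exact absurd (by simpa using h1.symm) hα
    · rw [hνj, show ν = 1 from (mul_eq_right₀ hα).1 h1, one_smul]
  have h1 := bound_weak hq hxy (hC x hx)
  have h2' := lev1_card_ge hxy hjV hj0
  rw [hX, hX2] at h1
  rw [hX2] at h2'
  have hSpos : 0 < Nat.card (lev1 x y ⊓ fixFam (fun _ : Unit => j) : Subgroup Sp) := Nat.card_pos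
  set S := (lev1 x y ⊓ fixFam (fun _ : Unit => j) : Subgroup Sp)
  have hb : (qq + 2) * (qq * qq * (qq * qq - 1)) ≤ 4 * qq * K.index := by
    refine Nat.le_of_mul_le_mul_right ?_ hSpos
    calc _ = (qq + 2) * (qq * qq * ((qq * qq - 1) * Nat.card S)) := by ring
      _ ≤ (qq + 2) * (qq * qq * Nat.card (lev1 x y)) := by gcongr
      _ ≤ 2 * (K.index * (Nat.card (iPart K x y) * Nat.card (gamPart K x y))) := h1
      _ ≤ 2 * (K.index * (2 * qq * Nat.card S)) := by
          gcongr; exact Subgroup.card_le_of_le hΓS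
      _ = _ := by ring
  refine Nat.le_of_mul_le_mul_left ?_ (show 0 < 4 * qq by omega)
  obtain ⟨a, ha⟩ : ∃ a, qq = a + 4 := ⟨qq - 4, by omega⟩
  obtain ⟨d, hd⟩ : ∃ d, qq * qq = d + 1 := ⟨qq * qq - 1, by
    have : 0 < qq * qq := Nat.mul_pos (by omega) (by omega)
    omega⟩
  calc 4 * qq * (qq ^ (2 * 2) - 1) = d * (4 * qq * (d + 2)) := by
        rw [show qq ^ (2 * 2) = qq * qq * (qq * qq) by ring, hd,
          show (d + 1) * (d + 1) - 1 = d * (d + 2) by
            rw [Nat.sub_eq_iff_eq_add (Nat.one_le_iff_ne_zero.2 (by positivity))]; ring]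
        ring
    _ ≤ d * ((qq - 1) * ((qq + 2) * (d + 1))) := by
        refine Nat.mul_le_mul_left _ ?_
        rw [show d + 2 = qq * qq + 1 by omega, ← hd, ha, show a + 4 - 1 = a + 3 by omega]
        nlinarith [Nat.zero_le (a ^ 4), Nat.zero_le (a ^ 3), Nat.zero_le (a ^ 2)]
    _ = (qq - 1) * ((qq + 2) * (qq * qq * (qq * qq - 1))) := by rw [hd, Nat.add_sub_cancel]; ring
    _ ≤ (qq - 1) * (4 * qq * K.index) := Nat.mul_le_mul_left _ hb
    _ = _ := by ring

/-- Subgroups without a full root group have index at least the number of points. -/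
theorem bound_no_ctr (hm : 2 ≤ m) (hq : 3 ≤ qq) (hexc : ¬ (m = 2 ∧ qq = 3))
    (hC : ∀ z, z ≠ 0 → ¬ IsCtr K z) : qq ^ (2 * m) - 1 ≤ (qq - 1) * K.index := by
  obtain ⟨x, y, hxy, hprop⟩ := not_all_full hm hq hC
  exact bound_at hm hq hexc hxy hC hprop

end MinIdx

end H48
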