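import Mathlib
import Cfsg.Agent.H48.SemisimpleConj

/-!
# A regular unipotent of `Sp(2n)` with binomial Gram matrix
-/

set_option autoImplicit false

namespace H48

namespace Shift

open Matrix

variable {F : Type*} [Field F]

/-- The value of `f (ε_a) (C^k ε_b)`. -/
def zc (F : Type*) [Field F] (n a b k : ℕ) : F :=
  if a + b ≤ 2 * n - 1 then
    (-1) ^ a * ((Ring.choose ((n : ℤ) - 1 - a + k) (2 * n - 1 - a - b) : ℤ) : F) else 0

theorem zc_eq_zero {n a b : ℕ} (k : ℕ) (h : 2 * n ≤ a + b) (hn : 0 < n) : zc F n a b k = 0 :=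
  if_neg (by omega)

theorem choose_one_add (X : ℤ) (m : ℕ) :
    Ring.choose (X + 1) (m + 1) = Ring.choose X m + Ring.choose X (m + 1) :=
  Ring.choose_succ_succ X m

theorem zc_succ {n : ℕ} (hn : 0 < n) (a b k : ℕ) :
    zc F n a b (k + 1) = zc F n a b k + zc F n a (b + 1) k := by
  have e : ((n : ℤ) - 1 - a + ((k + 1 : ℕ) : ℤ)) = ((n : ℤ) - 1 - a + k) + 1 := by push_cast; ring
  by_cases h : a + b ≤ 2 * n - 1
  · simp only [zc, e, if_pos h]
    by_cases h' : a + (b + 1) ≤ 2 * n - 1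
    · rw [if_pos h', show 2 * n - 1 - a - b = (2 * n - 1 - a - (b + 1)) + 1 by omega, choose_one_add]
      push_cast; ring
    · rw [if_neg h', show 2 * n - 1 - a - b = 0 by omega, Ring.choose_zero_right, Ring.choose_zero_right,
        add_zero]
  · simp only [zc, if_neg h, if_neg (show ¬ a + (b + 1) ≤ 2 * n - 1 by omega), add_zero]

theorem zc_inv {n : ℕ} (hn : 0 < n) (a b : ℕ) :
    zc F n (a + 1) b 0 + zc F n a (b + 1) 0 + zc F n (a + 1) (b + 1) 0 = 0 := by
  have e : ((n : ℤ) - 1 - (a : ℤ) + ((0 : ℕ) : ℤ)) = ((n : ℤ) - 1 - ((a + 1 : ℕ) : ℤ) + ((0 : ℕ) : ℤ)) + 1 := by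
    push_cast; ring
  by_cases h : a + b + 1 ≤ 2 * n - 1
  · by_cases h' : a + b + 2 ≤ 2 * n - 1
    · simp only [zc, e, if_pos (show a + 1 + b ≤ 2 * n - 1 by omega),
        if_pos (show a + (b + 1) ≤ 2 * n - 1 by omega), if_pos (show a + 1 + (b + 1) ≤ 2 * n - 1 by omega)]
      rw [show 2 * n - 1 - (a + 1) - b = (2 * n - 1 - (a + 1) - (b + 1)) + 1 by omega,
        show 2 * n - 1 - a - (b + 1) = (2 * n - 1 - (a + 1) - (b + 1)) + 1 by omega, choose_one_add]
      push_cast; ring
    · simp only [zc, if_pos (show a + 1 + b ≤ 2 * n - 1 by omega),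
        if_pos (show a + (b + 1) ≤ 2 * n - 1 by omega),
        if_neg (show ¬ a + 1 + (b + 1) ≤ 2 * n - 1 by omega)]
      rw [show 2 * n - 1 - (a + 1) - b = 0 by omega, show 2 * n - 1 - a - (b + 1) = 0 by omega,
        Ring.choose_zero_right, Ring.choose_zero_right, pow_succ]
      push_cast; ring
  · simp only [zc, if_neg (show ¬ a + 1 + b ≤ 2 * n - 1 by omega),
      if_neg (show ¬ a + (b + 1) ≤ 2 * n - 1 by omega),
      if_neg (show ¬ a + 1 + (b + 1) ≤ 2 * n - 1 by omega), add_zero]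

theorem zc_diag {n : ℕ} (hn : 0 < n) (a : ℕ) : zc F n a a 0 = 0 := by
  by_cases h : a + a ≤ 2 * n - 1
  · obtain ⟨d, rfl⟩ : ∃ d, n = a + 1 + d := ⟨n - (a + 1), by omega⟩
    rw [zc, if_pos h, show ((((a + 1 + d : ℕ) : ℤ)) - 1 - a + ((0 : ℕ) : ℤ)) = (d : ℤ) by push_cast; ring,
      show 2 * (a + 1 + d) - 1 - a - a = 2 * d + 1 by omega, Ring.choose_natCast,
      Nat.choose_eq_zero_of_lt (by omega)]
    simp
  · rw [zc, if_neg h]

theorem zc_skew {n : ℕ} (hn : 0 < n) (a b : ℕ) : zc F n b a 0 = - zc F n a b 0 := by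
  by_cases h : a + b ≤ 2 * n - 1
  · simp only [zc, if_pos h, if_pos (show b + a ≤ 2 * n - 1 by omega)]
    obtain ⟨m, hm⟩ : ∃ m, 2 * n - 1 = a + b + m := ⟨2 * n - 1 - a - b, by omega⟩
    rw [show 2 * n - 1 - a - b = m by omega, show 2 * n - 1 - b - a = m by omega,
      show ((n : ℤ) - 1 - b + ((0 : ℕ) : ℤ)) = -((n : ℤ) - 1 - a - m + 1) by omega, Ring.choose_neg,
      show ((n : ℤ) - 1 - a - m + 1) + m - 1 = (n : ℤ) - 1 - a + ((0 : ℕ) : ℤ) by push_cast; ring,
      Units.smul_def, smul_eq_mul, Int.coe_negOnePow_natCast]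
    push_cast
    have : ((-1 : F)) ^ b * (-1) ^ m = - (-1) ^ a := by
      have h1 : ((-1 : F)) ^ a * ((-1) ^ b * (-1) ^ m) = -1 := by
        rw [← pow_add, ← pow_add, show a + (b + m) = 2 * (n - 1) + 1 by omega, pow_succ, pow_mul]; simp
      have h2 : ((-1 : F)) ^ a * (-1) ^ a = 1 := by rw [← mul_pow]; simp
      linear_combination ((-1 : F) ^ a) * h1 - ((-1 : F) ^ b * (-1) ^ m) * h2
    linear_combination ((Ring.choose ((n : ℤ) - 1 - a + 0) m : ℤ) : F) * this
  · rw [zc, zc, if_neg h, if_neg (by omega), neg_zero]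

theorem zc_anti {n a b : ℕ} (h : a + b = 2 * n - 1) : zc F n a b 0 = (-1) ^ a := by
  rw [zc, if_pos h.le, show 2 * n - 1 - a - b = 0 by omega, Ring.choose_zero_right]
  simp

/-- A regular unipotent with a binomial Gram matrix on its chain basis. -/
theorem exists_model (F : Type*) [Field F] (n : ℕ) (hn : 0 < n) :
    ∃ (C : Matrix.symplecticGroup (Fin n) F) (ε : ℕ → (Fin n ⊕ Fin n → F)),
      (∀ a, C • ε a = ε a + ε (a + 1)) ∧
      (∀ a b, sf (ε a) (ε b) = zc F n a b 0) ∧
      Submodule.span F (Set.range fun i : Fin (2 * n) => ε i) = ⊤ ∧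
      (∀ a, 2 * n ≤ a → ε a = 0) := by
  classical
  let e : Fin n ⊕ Fin n ≃ Fin (2 * n) := finSumFinEquiv.trans (finCongr (two_mul n).symm)
  let M : Matrix (Fin n ⊕ Fin n) (Fin n ⊕ Fin n) F := Matrix.of fun i j => zc F n (e i) (e j) 0
  let f₂ : LinearMap.BilinForm F (Fin n ⊕ Fin n → F) := Matrix.toBilin' M
  let δ : ℕ → (Fin n ⊕ Fin n → F) := fun a => if h : a < 2 * n then Pi.single (e.symm ⟨a, h⟩) 1 else 0
  have hδ : ∀ i, δ (e i) = Pi.single i 1 := fun i => by simp [δ]
  have hδz : ∀ a, 2 * n ≤ a → δ a = 0 := fun a ha => dif_neg (by omega)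
  have hf : ∀ a b, f₂ (δ a) (δ b) = zc F n a b 0 := by
    intro a b
    by_cases ha : a < 2 * n
    · by_cases hb : b < 2 * n
      · simp only [δ, dif_pos ha, dif_pos hb, f₂, Matrix.toBilin'_single]
        simp [M]
      · rw [hδz b (by omega), map_zero, zc_eq_zero 0 (by omega) hn]
    · rw [hδz a (by omega), map_zero, LinearMap.zero_apply, zc_eq_zero 0 (by omega) hn]
  have hskew : ∀ x y, f₂ y x = - f₂ x y := by
    have : f₂.flip = -f₂ := by
      refine LinearMap.ext_basis (Pi.basisFun F _) (Pi.basisFun F _) fun i j => ?_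
      simp only [Pi.basisFun_apply, ← hδ, LinearMap.flip_apply, LinearMap.neg_apply, hf]
      exact (hf _ _).trans (zc_skew (F := F) hn _ _)
    intro x y
    exact LinearMap.congr_fun₂ this x y
  have hsym : SS.IsSymplForm f₂ := by
    refine ⟨fun x => ?_, fun x hx => ?_⟩
    · rw [← (Pi.basisFun F (Fin n ⊕ Fin n)).sum_repr x]
      refine Finset.induction_on (Finset.univ : Finset (Fin n ⊕ Fin n)) ?_ ?_
      · simp
      · intro i s hi ih
        rw [Finset.sum_insert hi]
        simp only [map_add, LinearMap.add_apply, ih, add_zero]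
        rw [hskew (∑ j ∈ s, (Pi.basisFun F (Fin n ⊕ Fin n)).repr x j • Pi.basisFun F (Fin n ⊕ Fin n) j)
          ((Pi.basisFun F (Fin n ⊕ Fin n)).repr x i • Pi.basisFun F (Fin n ⊕ Fin n) i)]
        simp [← hδ, hf, zc_diag hn]
    · have key : ∀ a : ℕ, ∀ ha : a < 2 * n, x (e.symm ⟨a, ha⟩) = 0 := by
        intro a
        induction a using Nat.strong_induction_on with
        | _ a ih =>
          intro ha
          have h := hx (δ (2 * n - 1 - a))
          rw [← (Pi.basisFun F (Fin n ⊕ Fin n)).sum_repr x, map_sum, LinearMap.sum_apply,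
            Finset.sum_eq_single (e.symm ⟨a, ha⟩)] at h
          · simp only [Pi.basisFun_apply, Pi.basisFun_repr, ← hδ, map_smul, LinearMap.smul_apply, hf,
              Equiv.apply_symm_apply, smul_eq_mul,
              zc_anti (F := F) (n := n) (show a + (2 * n - 1 - a) = 2 * n - 1 by omega)] at h
            exact (mul_eq_zero.1 h).resolve_right (pow_ne_zero _ (neg_ne_zero.2 one_ne_zero))
          · intro i _ hi
            simp only [Pi.basisFun_apply, Pi.basisFun_repr, ← hδ, map_smul, LinearMap.smul_apply, hf,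
              smul_eq_mul]
            rcases lt_trichotomy (e i : ℕ) a with hlt | heq | hgt
            · have := ih _ hlt (e i).2
              rw [Fin.eta, Equiv.symm_apply_apply] at this
              rw [this, zero_mul]
            · exact absurd (e.injective (Fin.ext (by simpa using heq))) hi
            · rw [zc_eq_zero 0 (by omega) hn, mul_zero]
          · simp
      funext i
      simpa using key (e i) (e i).2
  let T : (Fin n ⊕ Fin n → F) →ₗ[F] (Fin n ⊕ Fin n → F) :=
    (Pi.basisFun F (Fin n ⊕ Fin n)).constr F fun i => δ (e i) + δ ((e i : ℕ) + 1)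
  have hT : ∀ a, T (δ a) = δ a + δ (a + 1) := by
    intro a
    by_cases ha : a < 2 * n
    · have h1 : δ a = Pi.basisFun F (Fin n ⊕ Fin n) (e.symm ⟨a, ha⟩) := by simp [δ, ha]
      conv_lhs => rw [h1]
      simp only [T, Module.Basis.constr_basis, Equiv.apply_symm_apply]
    · rw [hδz a (by omega), hδz (a + 1) (by omega), map_zero, add_zero]
  have hTinv : ∀ x y, f₂ (T x) (T y) = f₂ x y := by
    have : f₂.compl₁₂ T T = f₂ := by
      refine LinearMap.ext_basis (Pi.basisFun F _) (Pi.basisFun F _) fun i j => ?_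
      simp only [Pi.basisFun_apply, ← hδ, LinearMap.compl₁₂_apply, hT, map_add, LinearMap.add_apply, hf]
      linear_combination zc_inv (F := F) hn (e i) (e j)
    intro x y
    exact LinearMap.congr_fun₂ this x y
  obtain ⟨c, hc⟩ := SS.exists_congruence (f₁ := (sf : LinearMap.BilinForm F (Fin n ⊕ Fin n → F)))
    ⟨sf_self, fun _ h => eq_zero_of_sf h⟩ hsym
  let L : (Fin n ⊕ Fin n → F) →ₗ[F] (Fin n ⊕ Fin n → F) := c.toLinearMap ∘ₗ T ∘ₗ c.symm.toLinearMap
  have hL : LinearMap.toMatrix' L ∈ Matrix.symplecticGroup (Fin n) F := by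
    rw [mem_symplectic_iff]
    intro u v
    rw [LinearMap.toMatrix'_mulVec, LinearMap.toMatrix'_mulVec]
    show sf (c (T (c.symm u))) (c (T (c.symm v))) = sf u v
    rw [hc, hTinv, ← hc, c.apply_symm_apply, c.apply_symm_apply]
  refine ⟨⟨_, hL⟩, fun a => c (δ a), fun a => ?_, fun a b => (hc _ _).trans (hf a b), ?_, fun a ha => by
    simp only [hδz a ha, map_zero]⟩
  · rw [spSmulDef, LinearMap.toMatrix'_mulVec]
    show c (T (c.symm (c (δ a)))) = _
    rw [c.symm_apply_apply, hT, map_add]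
  · have hr : (Set.range fun i : Fin (2 * n) => c (δ i)) =
        c.toLinearMap '' Set.range (Pi.basisFun F (Fin n ⊕ Fin n)) := by
      rw [← Set.range_comp]
      ext z
      constructor
      · rintro ⟨i, rfl⟩; exact ⟨e.symm i, by simp [← hδ]⟩
      · rintro ⟨i, rfl⟩; exact ⟨e i, by simp [hδ]⟩
    rw [hr, Submodule.span_image, Module.Basis.span_eq, Submodule.map_top, LinearEquiv.range]

end Shift

end H48
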