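import Mathlib
import Cfsg.Agent.H48.ShiftModel

/-!
# The chain basis of the shift model
-/

set_option autoImplicit false

namespace H48

namespace Shift

open Matrix

variable {F : Type*} [Field F] {n : ℕ}

local notation "V" => (Fin n ⊕ Fin n → F)
local notation "Sp" => Matrix.symplecticGroup (Fin n) F

/-- The data produced by `exists_model`, with `n ≥ 2`. -/
structure Model (C : Matrix.symplecticGroup (Fin n) F) (ε : ℕ → (Fin n ⊕ Fin n → F)) : Prop where
  two_le : 2 ≤ n
  step : ∀ a, C • ε a = ε a + ε (a + 1)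
  gram : ∀ a b, sf (ε a) (ε b) = zc F n a b 0
  span : Submodule.span F (Set.range fun i : Fin (2 * n) => ε i) = ⊤
  zero : ∀ a, 2 * n ≤ a → ε a = 0

theorem exists_Model (F : Type*) [Field F] (n : ℕ) (hn : 2 ≤ n) :
    ∃ (C : Matrix.symplecticGroup (Fin n) F) (ε : ℕ → (Fin n ⊕ Fin n → F)), Model C ε := by
  obtain ⟨C, ε, h1, h2, h3, h4⟩ := exists_model F n (by omega)
  exact ⟨C, ε, hn, h1, h2, h3, h4⟩

variable {C : Matrix.symplecticGroup (Fin n) F} {ε : ℕ → (Fin n ⊕ Fin n → F)} (M : Model C ε)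
include M

theorem Model.pow_gram (k : ℕ) : ∀ a b, sf (ε a) (C ^ k • ε b) = zc F n a b k := by
  induction k with
  | zero => intro a b; rw [pow_zero, one_smul, M.gram]
  | succ k ih =>
    intro a b
    rw [pow_succ, mul_smul, M.step, smul_add, map_add, ih, ih, ← zc_succ (by have := M.two_le; omega)]

theorem Model.gram_eq_zero {a b : ℕ} (h : 2 * n ≤ a + b) : sf (ε a) (ε b) = 0 := by
  rw [M.gram, zc_eq_zero 0 h (by have := M.two_le; omega)]

theorem Model.gram_anti {a b : ℕ} (h : a + b = 2 * n - 1) : sf (ε a) (ε b) = (-1) ^ a := by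
  rw [M.gram, zc_anti h]

theorem Model.g_eq (k : ℕ) :
    sf (ε 0) (C ^ k • ε 0) = (((n - 1 + k).choose (2 * n - 1) : ℕ) : F) := by
  have := M.two_le
  rw [M.pow_gram, zc, if_pos (by omega), pow_zero, one_mul,
    show ((n : ℤ) - 1 - ((0 : ℕ) : ℤ) + (k : ℤ)) = (((n - 1 + k : ℕ)) : ℤ) by omega, Ring.choose_natCast]
  simp

theorem Model.g_shift (i k : ℕ) :
    sf (C ^ i • ε 0) (C ^ (i + k) • ε 0) = (((n - 1 + k).choose (2 * n - 1) : ℕ) : F) := by
  rw [pow_add, mul_smul, sf_smul_smul, M.g_eq]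

theorem Model.g_small {i j : ℕ} (h1 : i < j + n) (h2 : j < i + n) :
    sf (C ^ i • ε 0) (C ^ j • ε 0) = 0 := by
  have := M.two_le
  rcases le_total i j with h | h
  · obtain ⟨k, rfl⟩ := Nat.exists_eq_add_of_le h
    rw [M.g_shift, Nat.choose_eq_zero_of_lt (by omega)]; simp
  · obtain ⟨k, rfl⟩ := Nat.exists_eq_add_of_le h
    refine sf_eq_zero_comm ?_
    rw [M.g_shift, Nat.choose_eq_zero_of_lt (by omega)]; simp

theorem Model.g_n (i : ℕ) : sf (C ^ i • ε 0) (C ^ (i + n) • ε 0) = 1 := by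
  have := M.two_le
  rw [M.g_shift, show n - 1 + n = 2 * n - 1 by omega, Nat.choose_self, Nat.cast_one]

theorem Model.g_succ (i : ℕ) : sf (C ^ i • ε 0) (C ^ (i + (n + 1)) • ε 0) = 2 * (n : F) := by
  have := M.two_le
  rw [M.g_shift, show n - 1 + (n + 1) = (2 * n - 1) + 1 by omega, Nat.choose_succ_self_right]
  rw [show 2 * n - 1 + 1 = 2 * n by omega]
  push_cast; ring

theorem Model.smul_e : C • ε (2 * n - 1) = ε (2 * n - 1) := by
  have := M.two_le
  rw [M.step, M.zero (2 * n - 1 + 1) (by omega), add_zero]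

theorem Model.smul_y : C • ε (2 * n - 2) = ε (2 * n - 2) + ε (2 * n - 1) := by
  have := M.two_le
  rw [M.step, show 2 * n - 2 + 1 = 2 * n - 1 by omega]

theorem Model.smul_w : C • ε (2 * n - 3) = ε (2 * n - 3) + ε (2 * n - 2) := by
  have := M.two_le
  rw [M.step, show 2 * n - 3 + 1 = 2 * n - 2 by omega]

theorem Model.theta_zero : sf (ε 0) (ε (2 * n - 1)) = 1 := by
  rw [M.gram_anti (by omega), pow_zero]

theorem Model.e_ne : ε (2 * n - 1) ≠ 0 := fun h => by
  have := M.theta_zero
  rw [h, map_zero] at this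
  exact zero_ne_one this

theorem Model.theta_smul (z : V) : sf (C • z) (ε (2 * n - 1)) = sf z (ε (2 * n - 1)) := by
  conv_lhs => rw [← M.smul_e, sf_smul_smul]

theorem Model.theta_pow (k : ℕ) (z : V) : sf (C ^ k • z) (ε (2 * n - 1)) = sf z (ε (2 * n - 1)) := by
  induction k with
  | zero => simp
  | succ k ih => rw [pow_succ', mul_smul, M.theta_smul, ih]

/-- The matrix `C - 1`. -/
local notation "NN" => ((C : Matrix (Fin n ⊕ Fin n) (Fin n ⊕ Fin n) F) - 1)

theorem Model.N_apply (z : V) : NN *ᵥ z = C • z - z := by rw [sub_mulVec, one_mulVec]; rfl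

theorem Model.N_eps (a : ℕ) : NN *ᵥ ε a = ε (a + 1) := by rw [M.N_apply, M.step, add_sub_cancel_left]

theorem Model.N_pow_eps (k a : ℕ) : NN ^ k *ᵥ ε a = ε (a + k) := by
  induction k with
  | zero => simp
  | succ k ih => rw [pow_succ', ← mulVec_mulVec, ih, M.N_eps, Nat.add_assoc]

theorem Model.N_nil : NN ^ (2 * n) = 0 := by
  have h : Submodule.span F (Set.range fun i : Fin (2 * n) => ε i) ≤ LinearMap.ker (NN ^ (2 * n)).mulVecLin :=
    Submodule.span_le.2 fun z ⟨i, hi⟩ => hi ▸ LinearMap.mem_ker.2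
      ((M.N_pow_eps _ _).trans (M.zero _ (by omega)))
  rw [M.span] at h
  refine Matrix.ext_iff_mulVec.2 fun z => ?_
  rw [zero_mulVec]
  exact LinearMap.mem_ker.1 (h Submodule.mem_top)

theorem Model.N_top : NN ^ (2 * n - 1) ≠ 0 := fun h => M.e_ne (by
  have := M.N_pow_eps (2 * n - 1) 0
  rw [h, zero_mulVec, Nat.zero_add] at this
  exact this.symm)

/-- The tail of the chain. -/
def tail (ε : ℕ → (Fin n ⊕ Fin n → F)) (a : ℕ) : Submodule F (Fin n ⊕ Fin n → F) :=
  Submodule.span F (ε '' Set.Ici a)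

omit M in
theorem mem_tail {a b : ℕ} (h : a ≤ b) : ε b ∈ tail ε a := Submodule.subset_span ⟨b, h, rfl⟩

theorem Model.sub_theta_mem (z : V) : z - sf z (ε (2 * n - 1)) • ε 0 ∈ tail ε 1 := by
  let L : V →ₗ[F] V := LinearMap.id - (sf.flip (ε (2 * n - 1))).smulRight (ε 0)
  have h : Submodule.span F (Set.range fun i : Fin (2 * n) => ε i) ≤ (tail ε 1).comap L := by
    refine Submodule.span_le.2 ?_
    rintro _ ⟨i, rfl⟩
    show ε i - sf (ε i) (ε (2 * n - 1)) • ε 0 ∈ tail ε 1
    rcases Nat.eq_zero_or_pos (i : ℕ) with hi | hi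
    · rw [hi, M.theta_zero, one_smul, sub_self]; exact Submodule.zero_mem _
    · rw [M.gram_eq_zero (by omega), zero_smul, sub_zero]; exact mem_tail hi
  rw [M.span] at h
  exact h Submodule.mem_top

theorem Model.N_tail {a : ℕ} {z : V} (hz : z ∈ tail ε a) (k : ℕ) : NN ^ k *ᵥ z ∈ tail ε (a + k) := by
  have h : tail ε a ≤ (tail ε (a + k)).comap (NN ^ k).mulVecLin := by
    refine Submodule.span_le.2 ?_
    rintro _ ⟨b, hb, rfl⟩
    show NN ^ k *ᵥ ε b ∈ tail ε (a + k)
    rw [M.N_pow_eps]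
    exact mem_tail (Nat.add_le_add_right hb k)
  exact h hz

theorem Model.N_pow_sub_mem (z : V) (k : ℕ) :
    NN ^ k *ᵥ z - sf z (ε (2 * n - 1)) • ε k ∈ tail ε (k + 1) := by
  have h := M.N_tail (M.sub_theta_mem z) k
  rwa [mulVec_sub, mulVec_smul, M.N_pow_eps, Nat.zero_add, Nat.add_comm 1 k] at h

theorem Model.sf_tail {a b : ℕ} {z : V} (hz : z ∈ tail ε a) (h : 2 * n ≤ a + b) : sf z (ε b) = 0 := by
  have h' : tail ε a ≤ LinearMap.ker (sf.flip (ε b)) := by
    refine Submodule.span_le.2 ?_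
    rintro _ ⟨c, hc, rfl⟩
    exact LinearMap.mem_ker.2 (M.gram_eq_zero (by simp at hc; omega))
  exact LinearMap.mem_ker.1 (h' hz)

theorem Model.N_pow_pair (z : V) {k : ℕ} (hk : k < 2 * n) :
    sf (NN ^ k *ᵥ z) (ε (2 * n - 1 - k)) = (-1) ^ k * sf z (ε (2 * n - 1)) := by
  have h := M.sf_tail (M.N_pow_sub_mem z k) (b := 2 * n - 1 - k) (by omega)
  rw [map_sub, LinearMap.sub_apply, map_smul, LinearMap.smul_apply, M.gram_anti (by omega), sub_eq_zero] at h
  rw [h, smul_eq_mul, mul_comm]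

/-- A combination of `z, Cz, C²z` vanishes only trivially. -/
theorem Model.li_three {z : V} (hz : sf z (ε (2 * n - 1)) ≠ 0) {p q r : F}
    (h : p • z + r • (C • z) + q • (C • (C • z)) = 0) : p = 0 ∧ r = 0 ∧ q = 0 := by
  have := M.two_le
  have h0 : (p + r + q) * sf z (ε (2 * n - 1)) = 0 := by
    have := congrArg (fun v => sf v (ε (2 * n - 1))) h
    simp only [map_add, LinearMap.add_apply, map_smul, LinearMap.smul_apply, M.theta_smul, map_zero,
      LinearMap.zero_apply, smul_eq_mul] at this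
    linear_combination this
  have hsum : p + r + q = 0 := (mul_eq_zero.1 h0).resolve_right hz
  have h2 : (r + 2 * q) • (NN *ᵥ z) + q • (NN ^ 2 *ᵥ z) = 0 := by
    rw [pow_two, ← mulVec_mulVec, M.N_apply, M.N_apply, smul_sub C (C • z) z, ← h,
      show p = -(r + q) by linear_combination hsum]
    generalize C • (C • z) = u₂
    generalize C • z = u₁
    module
  have h1 : r + 2 * q = 0 := by
    have := congrArg (fun v => sf v (ε (2 * n - 1 - 1))) h2
    have e1 := M.N_pow_pair z (k := 1) (by omega)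
    rw [pow_one] at e1
    have e2 : sf (NN ^ 2 *ᵥ z) (ε (2 * n - 1 - 1)) = 0 := by
      have h := M.sf_tail (M.N_pow_sub_mem z 2) (b := 2 * n - 1 - 1) (by omega)
      rw [map_sub, LinearMap.sub_apply, map_smul, LinearMap.smul_apply, M.gram_eq_zero (by omega),
        smul_zero, sub_zero] at h
      exact h
    simp only [map_add, LinearMap.add_apply, map_smul, LinearMap.smul_apply, e1, e2, map_zero,
      LinearMap.zero_apply, smul_eq_mul, mul_zero, add_zero] at this
    simpa [hz] using this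
  rw [h1, zero_smul, zero_add] at h2
  have hq : q = 0 := by
    have := congrArg (fun v => sf v (ε (2 * n - 1 - 2))) h2
    simp only [map_smul, LinearMap.smul_apply, M.N_pow_pair z (show 2 < 2 * n by omega), map_zero,
      LinearMap.zero_apply, smul_eq_mul] at this
    simpa [hz] using this
  refine ⟨?_, ?_, hq⟩
  · linear_combination hsum - h1 + hq
  · linear_combination h1 - 2 * hq

/-- `e, b, C b` are independent. -/
theorem Model.li_source {b : V} (hb : sf b (ε (2 * n - 1)) ≠ 0) :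
    LinearIndependent F ![ε (2 * n - 1), b, C • b] := by
  rw [Fintype.linearIndependent_iff]
  intro g hg
  simp [Fin.sum_univ_three] at hg
  have h1 := congrArg (fun v => C • v - v) hg
  simp only [smul_add, smul_comm C (g 0), smul_comm C (g 1), smul_comm C (g 2), M.smul_e, smul_zero,
    sub_zero] at h1
  obtain ⟨a, b', c⟩ := M.li_three hb (p := - g 1) (r := g 1 - g 2) (q := g 2)
    (by rw [← h1]; generalize C • (C • b) = u₂; generalize C • b = u₁; module)
  have h1' : g 1 = 0 := neg_eq_zero.1 a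
  rw [c, h1', zero_smul, zero_smul, add_zero, add_zero, smul_eq_zero] at hg
  intro i
  fin_cases i
  · exact hg.resolve_right M.e_ne
  · exact h1'
  · exact c

theorem Model.li_target {m : V} (hm : sf m (ε (2 * n - 1)) ≠ 0) {μ d a b : F} (hμ : μ ≠ 0) (hd : b ≠ 0) :
    LinearIndependent F ![μ • m, d • m + C • (C • m), a • m + b • (C • m)] := by
  rw [Fintype.linearIndependent_iff]
  intro g hg
  simp [Fin.sum_univ_three] at hg
  obtain ⟨h0, h1, h2⟩ := M.li_three hm (p := g 0 * μ + g 1 * d + g 2 * a) (r := g 2 * b) (q := g 1)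
    (by rw [← hg]; generalize C • (C • m) = u₂; generalize C • m = u₁; module)
  have h3 : g 2 = 0 := (mul_eq_zero.1 h1).resolve_right hd
  rw [h2, h3, zero_mul, zero_mul, add_zero, add_zero] at h0
  intro i
  fin_cases i
  · exact (mul_eq_zero.1 h0).resolve_right hμ
  · exact h2
  · exact h3

theorem Model.cyclic {z : V} (hz : sf z (ε (2 * n - 1)) ≠ 0) {P : Submodule F V} (hzP : z ∈ P)
    (hP : ∀ v ∈ P, C • v ∈ P) : P = ⊤ := by
  have hN : ∀ k, NN ^ k *ᵥ z ∈ P := by
    intro k
    induction k with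
    | zero => simpa
    | succ k ih => rw [pow_succ', ← mulVec_mulVec, M.N_apply]; exact P.sub_mem (hP _ ih) ih
  have key : ∀ j, tail ε (2 * n - j) ≤ P := by
    intro j
    induction j with
    | zero =>
      refine Submodule.span_le.2 ?_
      rintro _ ⟨b, hb, rfl⟩
      rw [M.zero b (by simpa using hb)]; exact P.zero_mem
    | succ j ih =>
      refine Submodule.span_le.2 ?_
      rintro _ ⟨b, hb, rfl⟩
      by_cases hb' : 2 * n - j ≤ b
      · exact ih (mem_tail hb')
      · have h1 := ih (by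
          have := M.N_pow_sub_mem z b
          rwa [show b + 1 = 2 * n - j by simp at hb; omega] at this)
        have h2 := P.sub_mem (hN b) h1
        rw [sub_sub_cancel] at h2
        exact (P.smul_mem_iff hz).1 h2
  rw [eq_top_iff, ← M.span, Submodule.span_le]
  rintro _ ⟨i, rfl⟩
  have := key (2 * n)
  rw [Nat.sub_self] at this
  exact this (mem_tail (Nat.zero_le _))

/-- Shifting by `y`. -/
theorem Model.Q_shift_y (z : V) (t : F) :
    sf (z + t • ε (2 * n - 2)) (C • (z + t • ε (2 * n - 2))) =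
        sf z (C • z) + 2 * t * sf z (ε (2 * n - 1)) ∧
      sf (z + t • ε (2 * n - 2)) (C • (C • (z + t • ε (2 * n - 2)))) =
        sf z (C • (C • z)) + 4 * t * sf z (ε (2 * n - 1)) := by
  have := M.two_le
  set e := ε (2 * n - 1)
  set y := ε (2 * n - 2)
  have hye : sf y e = 0 := M.gram_eq_zero (by omega)
  have key : ∀ v, sf y (C • v) = sf (y - e) v := fun v => by
    conv_lhs => rw [← sf_smul_smul C⁻¹ y, inv_smul_smul]
    congr 2
    rw [inv_smul_eq_iff, smul_sub, M.smul_y, M.smul_e, add_sub_cancel_right]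
  have key2 : ∀ v, sf e (C • v) = sf e v := fun v => by
    rw [← sf_smul_smul C e v, show C • e = e from M.smul_e]
  constructor <;>
    (simp only [smul_add, smul_comm C t, M.smul_y, M.smul_e, map_add, map_sub, map_smul,
      LinearMap.add_apply, LinearMap.sub_apply, LinearMap.smul_apply, key, key2, smul_eq_mul, sf_self,
      hye, sf_swap y z, sf_swap e z, y, e]
     simp only [sf_swap z (ε (2 * n - 2)), sf_swap z (ε (2 * n - 1))]
     ring)

/-- Shifting by `w`, for `n ≥ 3`. -/
theorem Model.Q_shift_w (hn : 3 ≤ n) (z : V) (t : F) :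
    sf (z + t • ε (2 * n - 3)) (C • (z + t • ε (2 * n - 3))) =
        sf z (C • z) + t * (2 * sf z (ε (2 * n - 2)) - sf z (ε (2 * n - 1))) ∧
      sf (z + t • ε (2 * n - 3)) (C • (C • (z + t • ε (2 * n - 3)))) =
        sf z (C • (C • z)) + t * (4 * sf z (ε (2 * n - 2)) - 2 * sf z (ε (2 * n - 1))) := by
  set e := ε (2 * n - 1)
  set y := ε (2 * n - 2)
  set w := ε (2 * n - 3)
  have hwy : sf w y = 0 := M.gram_eq_zero (by omega)
  have hwe : sf w e = 0 := M.gram_eq_zero (by omega)
  have key : ∀ v, sf w (C • v) = sf (w - y + e) v := fun v => by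
    conv_lhs => rw [← sf_smul_smul C⁻¹ w, inv_smul_smul]
    congr 2
    rw [inv_smul_eq_iff, smul_add, smul_sub, M.smul_w, M.smul_y, M.smul_e]
    abel
  have keyy : ∀ v, sf y (C • v) = sf (y - e) v := fun v => by
    conv_lhs => rw [← sf_smul_smul C⁻¹ y, inv_smul_smul]
    congr 2
    rw [inv_smul_eq_iff, smul_sub, M.smul_y, M.smul_e, add_sub_cancel_right]
  have keye : ∀ v, sf e (C • v) = sf e v := fun v => by
    rw [← sf_smul_smul C e v, show C • e = e from M.smul_e]
  have hyw : sf y w = 0 := sf_eq_zero_comm hwy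
  have hew : sf e w = 0 := sf_eq_zero_comm hwe
  constructor <;>
    (simp only [smul_add, smul_comm C t, M.smul_w, M.smul_y, M.smul_e, map_add, map_sub, map_smul,
      LinearMap.add_apply, LinearMap.sub_apply, LinearMap.smul_apply, key, keyy, keye, smul_eq_mul, sf_self,
      hwy, hwe, hyw, hew, sf_swap w z, sf_swap y z, sf_swap e z, e, y, w]
     simp only [sf_swap z (ε (2 * n - 3)), sf_swap z (ε (2 * n - 2)), sf_swap z (ε (2 * n - 1))]
     ring)

/-- A conjugate of `C` differing from it by a transvection at the fixed vector. -/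
theorem Model.exists_commutator (c : F) :
    ∃ s : Sp, s⁻¹ * C * s * C⁻¹ =
      tv (ε (2 * n - 1)) (c + c ^ 2 * sf (ε (2 * n - 2)) (ε (2 * n - 3))) := by
  have := M.two_le
  set e := ε (2 * n - 1)
  set y := ε (2 * n - 2)
  set w := ε (2 * n - 3)
  have hey : sf e y = 0 := M.gram_eq_zero (by omega)
  have hew : sf e w = 0 := M.gram_eq_zero (by omega)
  refine ⟨tv y c * tv (e + w) (-c) * tv e c * tv w c, ?_⟩
  rw [mul_inv_eq_iff_eq_mul, mul_assoc, inv_mul_eq_iff_eq_mul]
  refine sp_ext fun z => ?_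
  have hstep : ∀ (v : V) (d : F) (z : V), C • (tv v d • z) = tv (C • v) d • (C • z) := fun v d z => by
    rw [← tv_conj]; simp only [mul_smul, inv_smul_smul]
  simp only [mul_smul, hstep, smul_add, M.smul_e, M.smul_y, M.smul_w, e, y, w]
  simp only [tv_smul, map_add, LinearMap.add_apply, map_smul, LinearMap.smul_apply, sf_self, smul_eq_mul,
    hey, hew, sf_eq_zero_comm hey, sf_eq_zero_comm hew, sf_swap (ε (2 * n - 2)) (ε (2 * n - 3)), e, y, w]
  generalize C • z = u
  match_scalars <;> ring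

end Shift

end H48
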