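import Mathlib
import Cfsg.Agent.H48.ShiftFacts
import Cfsg.Agent.H49.StabMax

/-!
# Closure of transvection centres
-/

set_option autoImplicit false

namespace H48

namespace Shift

open Matrix
open H49 (IsCtr)

variable {F : Type*} [Field F] {n : ℕ}

local notation "V" => (Fin n ⊕ Fin n → F)
local notation "Sp" => Matrix.symplecticGroup (Fin n) F

variable {K : Subgroup (Matrix.symplecticGroup (Fin n) F)}

theorem ctr_zero : IsCtr K (0 : V) := fun c => by rw [tv_zero_left]; exact K.one_mem

theorem ctr_comb {v w : V} (hv : IsCtr K v) (hw : IsCtr K w) (h : sf v w ≠ 0) (a b : F) :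
    IsCtr K (a • v + b • w) := by
  rcases eq_or_ne a 0 with rfl | ha
  · rw [zero_smul, zero_add]; exact hw.smul_vec b
  · have := (hv.smul_vec a).add_smul_of_ne hw (by simp [ha, h]) b
    exact this

/-- For more than two scalars: centres in star position generate everything. -/
theorem eq_top_of_star {c₀ : F} (hc0 : c₀ ≠ 0) (hc1 : c₀ ≠ 1) {x : V} (hx : IsCtr K x)
    {Ω : Set V} (hΩ : ∀ v ∈ Ω, IsCtr K v ∧ sf x v ≠ 0) (hspan : Submodule.span F Ω = ⊤)
    (hne : Ω.Nonempty) : K = ⊤ := by
  obtain ⟨v₀, hv₀⟩ := hne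
  set d := sf x v₀
  have hd : d ≠ 0 := (hΩ v₀ hv₀).2
  -- translate along `x`
  have hshift : ∀ v, IsCtr K v → sf x v ≠ 0 → ∀ e : F, IsCtr K (v + e • x) := fun v hv h e =>
    hv.add_smul_of_ne hx (fun h' => h (sf_eq_zero_comm h')) e
  -- affine lines
  have hline : ∀ v w, IsCtr K v → IsCtr K w → sf x v = d → sf x w = d → ∀ a : F,
      IsCtr K (a • v + (1 - a) • w) := by
    intro v w hv hw hxv hxw a
    obtain ⟨e, he⟩ : ∃ e : F, sf (v + e • x) w ≠ 0 := by
      by_cases h : sf v w = 0
      · exact ⟨1, by simpa [h, hxw] using hd⟩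
      · exact ⟨0, by simpa using h⟩
    have h1 := ctr_comb (hshift v hv (hxv ▸ hd) e) hw he a (1 - a)
    have h2 := hshift _ h1 (by simp [hxv, hxw]; ring_nf; exact hd) (-(a * e))
    convert h2 using 1
    module
  -- the directions form the whole orthogonal of `x`
  let D : Submodule F V :=
    { carrier := {w | sf x w = 0 ∧ IsCtr K (v₀ + w)}
      zero_mem' := ⟨map_zero _, by rw [add_zero]; exact (hΩ v₀ hv₀).1⟩
      smul_mem' := fun a w ⟨h1, h2⟩ => ⟨by rw [map_smul, h1, smul_zero], by
        have := hline _ _ h2 (hΩ v₀ hv₀).1 (by rw [map_add, h1, add_zero]) rfl a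
        convert this using 1
        module⟩
      add_mem' := fun {w₁ w₂} ⟨h1, h2⟩ ⟨h3, h4⟩ => ⟨by rw [map_add, h1, h3, add_zero], by
        have hc1' : (1 : F) - c₀ ≠ 0 := sub_ne_zero.2 (Ne.symm hc1)
        have e1 := hline _ _ h2 (hΩ v₀ hv₀).1 (by rw [map_add, h1, add_zero]) rfl c₀⁻¹
        have e2 := hline _ _ h4 (hΩ v₀ hv₀).1 (by rw [map_add, h3, add_zero]) rfl (1 - c₀)⁻¹
        have := hline _ _ e1 e2 (by simp [h1]; ring) (by simp [h3]; ring) c₀
        convert this using 1
        match_scalars <;> field_simp <;> ring⟩ }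
  have hD : ∀ v, IsCtr K v → sf x v ≠ 0 → (d / sf x v) • v - v₀ ∈ D := fun v hv h =>
    ⟨by rw [map_sub, map_smul, smul_eq_mul, div_mul_cancel₀ _ h, sub_self],
      by rw [add_sub_cancel]; exact hv.smul_vec _⟩
  have htop : Submodule.span F {v₀} ⊔ D = ⊤ := by
    rw [eq_top_iff, ← hspan, Submodule.span_le]
    intro v hv
    obtain ⟨h1, h2⟩ := hΩ v hv
    have e : v = (sf x v / d) • v₀ + (sf x v / d) • ((d / sf x v) • v - v₀) := by
      rw [smul_sub, smul_smul, show sf x v / d * (d / sf x v) = 1 by field_simp, one_smul]; abel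
    rw [e]
    exact Submodule.add_mem _ (Submodule.mem_sup_left (Submodule.smul_mem _ _ (Submodule.mem_span_singleton_self _)))
      (Submodule.mem_sup_right (D.smul_mem _ (hD v h1 h2)))
  have hout : ∀ v, sf x v ≠ 0 → IsCtr K v := by
    intro v hv
    have : (d / sf x v) • v ∈ (⊤ : Submodule F V) := trivial
    rw [← htop] at this
    obtain ⟨p, hp, w, hw, hpw⟩ := Submodule.mem_sup.1 this
    obtain ⟨a, rfl⟩ := Submodule.mem_span_singleton.1 hp
    have ha : a = 1 := by
      have := congrArg (sf x) hpw
      rw [map_add, map_smul, map_smul, hw.1, add_zero, smul_eq_mul, smul_eq_mul, div_mul_cancel₀ _ hv] at this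
      exact (mul_eq_right₀ hd).1 this
    rw [ha, one_smul] at hpw
    have h := hw.2
    rw [hpw] at h
    have := h.smul_vec (sf x v / d)
    rwa [smul_smul, show sf x v / d * (d / sf x v) = 1 by field_simp, one_smul] at this
  refine H49.eq_top_of_ctr K fun v => ?_
  by_cases hv : sf x v = 0
  swap; · exact hout v hv
  rcases eq_or_ne v 0 with rfl | hv0
  · exact ctr_zero
  have hx0 : x ≠ 0 := fun h => hd (by simp [d, h])
  obtain ⟨T, -, hxT, hvT⟩ := exists_sep₂ (U := (⊥ : Submodule F V)) (a := x) (b := v)
    (by simpa using hx0) (by simpa using hv0)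
  have h1 := hout (v - T) (by simpa [hv] using hxT)
  simpa using h1.add_smul_of_ne (hout T hxT) (by simpa using hvT) 1

/-- The Lagrangian chain of the shift model: works over every field. -/
theorem eq_top_of_chain {C : Matrix.symplecticGroup (Fin n) F} {ε : ℕ → (Fin n ⊕ Fin n → F)}
    (M : Model C ε) (hC : C ∈ K) (h0 : IsCtr K (ε 0)) (h1 : IsCtr K (C • ε 0 + ε 0)) : K = ⊤ := by
  have hn := M.two_le
  set v : ℕ → V := fun k => C ^ k • ε 0 with hv_def
  have hv : ∀ k, IsCtr K (v k) := fun k => h0.group_smul (K.pow_mem hC k)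
  have hpair : ∀ k, IsCtr K (v (k + 1) + v k) := fun k => by
    have := h1.group_smul (K.pow_mem hC k)
    simp only [smul_add, ← mul_smul, ← pow_succ] at this
    exact this
  have hsmall : ∀ i j, i < j + n → j < i + n → sf (v i) (v j) = 0 := fun i j => M.g_small
  have hg : ∀ i, sf (v i) (v (i + n)) = 1 := M.g_n
  have key : ∀ k ≤ n, ∃ W : Submodule F V, (∀ w ∈ W, IsCtr K w) ∧
      (∀ i < k, v i ∈ W ∧ v (i + n) ∈ W) ∧
      (∀ p ∈ W, (∀ q ∈ W, sf p q = 0) → p = 0) ∧
      (∀ j, k ≤ j → j < n → ∀ w ∈ W, sf w (v j) = 0) ∧ (k = 0 → W = ⊥) := by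
    intro k
    induction k with
    | zero =>
      intro _
      refine ⟨⊥, fun w hw => ?_, fun i hi => absurd hi (Nat.not_lt_zero i),
        fun p hp _ => (Submodule.mem_bot F).1 hp, fun j _ _ w hw => ?_, fun _ => rfl⟩
      · rw [(Submodule.mem_bot F).1 hw]; exact ctr_zero
      · rw [(Submodule.mem_bot F).1 hw]; simp
    | succ k ih =>
      intro hk
      obtain ⟨W, hW, hmem, hnd, horth, hbot⟩ := ih (by omega)
      -- first add `v k`
      have hU : ∀ p ∈ W, ∀ a : F, IsCtr K (p + a • v k) := by
        intro p hp a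
        rcases eq_or_ne p 0 with rfl | hp0
        · rw [zero_add]; exact (hv k).smul_vec a
        rcases eq_or_ne a 0 with rfl | ha
        · rw [zero_smul, add_zero]; exact hW p hp
        have hsep : ∀ p ∈ W, p ≠ 0 → ∃ q ∈ W, sf p q ≠ 0 := fun p hp hp0 => by
          by_contra h
          push Not at h
          exact hp0 (hnd p hp h)
        have hmove : ∀ p p', p ∈ W → p' ∈ W → IsCtr K (p + a • v k) → sf p p' ≠ 0 →
            IsCtr K (p' + a • v k) := by
          intro p p' hp hp' h hne
          have := h.add_smul_of_ne (hW (p' - p) (W.sub_mem hp' hp)) (by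
            rw [map_add, LinearMap.add_apply, map_smul, LinearMap.smul_apply,
              sf_eq_zero_comm (horth k le_rfl (by omega) _ (W.sub_mem hp' hp)), smul_zero, add_zero,
              map_sub, sf_self, sub_zero]
            exact hne) 1
          rw [one_smul] at this
          convert this using 1
          abel
        rcases Nat.eq_zero_or_pos k with hk0 | hkpos
        · exact absurd ((Submodule.mem_bot F).1 (hbot hk0 ▸ hp)) hp0
        · obtain ⟨p₀, hp₀, hp₀0, hstart⟩ : ∃ p₀ ∈ W, p₀ ≠ 0 ∧ IsCtr K (p₀ + a • v k) := by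
            refine ⟨a • v (k - 1), W.smul_mem _ (hmem (k - 1) (by omega)).1, ?_, ?_⟩
            · rw [smul_ne_zero_iff]
              refine ⟨ha, fun h => ?_⟩
              have := hg (k - 1)
              rw [h, map_zero, LinearMap.zero_apply] at this
              exact zero_ne_one this
            · have := (hpair (k - 1)).smul_vec a
              rwa [show k - 1 + 1 = k by omega, smul_add, add_comm] at this
          obtain ⟨q₁, hq₁, h₁⟩ := hsep p₀ hp₀ hp₀0
          obtain ⟨q₂, hq₂, h₂⟩ := hsep p hp hp0
          obtain ⟨q, hq, h1q, h2q⟩ : ∃ q ∈ W, sf p₀ q ≠ 0 ∧ sf p q ≠ 0 := by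
            by_cases c₁ : sf p q₁ = 0
            · by_cases c₂ : sf p₀ q₂ = 0
              · exact ⟨q₁ + q₂, W.add_mem hq₁ hq₂, by simpa [c₂] using h₁, by simpa [c₁] using h₂⟩
              · exact ⟨q₂, hq₂, c₂, h₂⟩
            · exact ⟨q₁, hq₁, h₁, c₁⟩
          exact hmove q p hq hp (hmove p₀ q hp₀ hq hstart h1q) (fun h => h2q (sf_eq_zero_comm h))
      -- then add `v (k + n)`
      have hkk : sf (v k) (v (k + n)) = 1 := hg k
      refine ⟨W ⊔ Submodule.span F {v k, v (k + n)}, ?_, ?_, ?_, ?_, fun h => absurd h (Nat.succ_ne_zero k)⟩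
      · intro z hz
        obtain ⟨p, hp, r, hr, rfl⟩ := Submodule.mem_sup.1 hz
        obtain ⟨a, b, rfl⟩ := Submodule.mem_span_pair.1 hr
        rcases eq_or_ne b 0 with rfl | hb
        · rw [zero_smul, add_zero]; exact hU p hp a
        have hu := hU p hp a
        by_cases hs : sf (p + a • v k) (v (k + n)) = 0
        · have h2 := ctr_comb (hv k) (hv (k + n)) (by rw [hkk]; exact one_ne_zero) 1 b
          have h3 := (hU p hp (a - 1)).add_smul_of_ne h2 (by
            have e : sf (p + (a - 1) • v k) ((1 : F) • v k + b • v (k + n)) = -b := by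
              simp only [map_add, LinearMap.add_apply, map_smul, LinearMap.smul_apply, smul_eq_mul,
                sf_self, horth k le_rfl (by omega) p hp, hkk] at hs ⊢
              linear_combination b * hs
            rw [e, neg_ne_zero]; exact hb) 1
          convert h3 using 1
          generalize v k = A₁
          generalize v (k + n) = A₂
          module
        · have := ctr_comb hu (hv (k + n)) hs 1 b
          convert this using 1
          generalize v k = A₁
          generalize v (k + n) = A₂
          module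
      · intro i hi
        rcases Nat.lt_succ_iff_lt_or_eq.1 hi with hi' | rfl
        · exact ⟨Submodule.mem_sup_left (hmem i hi').1, Submodule.mem_sup_left (hmem i hi').2⟩
        · exact ⟨Submodule.mem_sup_right (Submodule.subset_span (Or.inl rfl)),
            Submodule.mem_sup_right (Submodule.subset_span (Or.inr rfl))⟩
      · intro z hz hall
        obtain ⟨p, hp, r, hr, rfl⟩ := Submodule.mem_sup.1 hz
        obtain ⟨a, b, rfl⟩ := Submodule.mem_span_pair.1 hr
        have hk' := hall (v k) (Submodule.mem_sup_right (Submodule.subset_span (Or.inl rfl)))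
        simp only [map_add, LinearMap.add_apply, map_smul, LinearMap.smul_apply, smul_eq_mul, sf_self,
          horth k le_rfl (by omega) p hp, sf_swap (v k) (v (k + n)), hkk] at hk'
        have hb : b = 0 := by linear_combination -hk'
        have hp0 : p = 0 := hnd p hp fun q hq => by
          have := hall q (Submodule.mem_sup_left hq)
          simpa [hb, sf_eq_zero_comm (horth k le_rfl (by omega) q hq)] using this
        have hn' := hall (v (k + n)) (Submodule.mem_sup_right (Submodule.subset_span (Or.inr rfl)))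
        simp [hp0, hb, hkk] at hn'
        simp [hp0, hb, hn']
      · intro j hj hjn z hz
        obtain ⟨p, hp, r, hr, rfl⟩ := Submodule.mem_sup.1 hz
        obtain ⟨a, b, rfl⟩ := Submodule.mem_span_pair.1 hr
        simp [horth j (by omega) hjn p hp, hsmall k j (by omega) (by omega),
          hsmall (k + n) j (by omega) (by omega)]
  obtain ⟨W, hW, hmem, -, -, -⟩ := key n le_rfl
  have hall : ∀ j < 2 * n, v j ∈ W := fun j hj => by
    by_cases h : j < n
    · exact (hmem j h).1
    · have := (hmem (j - n) (by omega)).2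
      rwa [Nat.sub_add_cancel (by omega)] at this
  have heps : ∀ i, ε i ∈ Submodule.span F (v '' Set.Iic i) := by
    intro i
    induction i with
    | zero => exact Submodule.subset_span ⟨0, Set.self_mem_Iic, by simp [hv_def]⟩
    | succ i ih =>
      have hstep : Submodule.span F (v '' Set.Iic i) ≤
          (Submodule.span F (v '' Set.Iic (i + 1))).comap
            (C : Matrix (Fin n ⊕ Fin n) (Fin n ⊕ Fin n) F).mulVecLin := by
        refine Submodule.span_le.2 ?_
        rintro _ ⟨j, hj, rfl⟩
        refine Submodule.subset_span ⟨j + 1, Nat.succ_le_succ (Set.mem_Iic.1 hj), ?_⟩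
        simp only [hv_def, pow_succ', mul_smul]
        rfl
      have h1 : C • ε i ∈ Submodule.span F (v '' Set.Iic (i + 1)) := hstep ih
      have h2 := Submodule.span_mono (Set.image_mono (Set.Iic_subset_Iic.2 (Nat.le_succ i))) ih
      have := Submodule.sub_mem _ h1 h2
      rwa [M.step, add_sub_cancel_left] at this
  have htop : W = ⊤ := by
    rw [eq_top_iff, ← M.span, Submodule.span_le]
    rintro _ ⟨i, rfl⟩
    refine Submodule.span_le.2 ?_ (heps i)
    rintro _ ⟨j, hj, rfl⟩
    exact hall j (lt_of_le_of_lt (Set.mem_Iic.1 hj) i.2)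
  exact H49.eq_top_of_ctr K fun z => hW z (htop ▸ trivial)

end Shift

end H48
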