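import Mathlib
import Cfsg.Agent.H48.MinCases
import Cfsg.Agent.H48.Split
import Cfsg.Agent.H48.TvClosure

/-!
# The index bound when some full root group lies in the subgroup
-/

set_option autoImplicit false

namespace H48

namespace MinIdx

open Matrix
open H49 (IsCtr)

variable {m : ℕ} {F : Type*} [Field F] [Fintype F]
  {K : Subgroup (Matrix.symplecticGroup (Fin m) F)}

local notation "V" => (Fin m ⊕ Fin m → F)
local notation "Sp" => Matrix.symplecticGroup (Fin m) F
local notation "qq" => Fintype.card F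
local notation "Stab" => fun W => Cfsg.stabilizing (Cfsg.spToMat m F) ((W : Submodule F (Fin m ⊕ Fin m → F)) : Set (Fin m ⊕ Fin m → F))

theorem prod_pow_sub (q : ℕ) : ∀ k : ℕ, ∏ i : Fin k, (q ^ k - q ^ (i : ℕ)) =
    q ^ k.choose 2 * ∏ i ∈ Finset.range k, (q ^ (i + 1) - 1) := by
  intro k
  induction k with
  | zero => simp
  | succ k ih =>
    rw [Fin.prod_univ_succ, Finset.prod_range_succ, Fin.val_zero, pow_zero]
    have e : ∀ i : Fin k, q ^ (k + 1) - q ^ ((i.succ : Fin (k + 1)) : ℕ) = q * (q ^ k - q ^ (i : ℕ)) := by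
      intro i
      rw [Fin.val_succ, Nat.mul_sub, ← pow_succ', ← pow_succ']
    rw [Finset.prod_congr rfl fun i _ => e i, Finset.prod_mul_distrib, Finset.prod_const, Finset.card_univ,
      Fintype.card_fin, ih, Nat.choose_succ_succ', Nat.choose_one_right, pow_add]
    ring

theorem one_le_pow_sub (q : ℕ) (hq : 2 ≤ q) (i : ℕ) (hi : 0 < i) : 1 ≤ q ^ i - 1 := by
  have : 2 ≤ q ^ i := le_trans hq (Nat.le_self_pow hi.ne' q)
  omega

/-- Stabilisers of totally isotropic subspaces. -/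
theorem index_isotropic (W : Submodule F V) (h0 : W ≠ ⊥)
    (hiso : ∀ u ∈ W, ∀ v ∈ W, sf u v = 0) :
    qq ^ (2 * m) - 1 ≤ (qq - 1) * (Cfsg.stabilizing (Cfsg.spToMat m F) (W : Set V)).index := by
  set k := Module.finrank F W with hk
  have hk0 : 1 ≤ k := Nat.pos_of_ne_zero fun h => h0 (Submodule.finrank_eq_zero.1 h)
  have hkm : k ≤ m := by
    let b := Module.finBasisOfFinrankEq F W hk.symm
    have hu : (fun i => (b i : V)) ∈ frames (Fin m) F k :=
      ⟨b.linearIndependent.map' W.subtype W.ker_subtype, fun i j => hiso _ (b i).2 _ (b j).2⟩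
    by_contra hcon
    have h1 := card_frames (l := Fin m) (F := F) k
    rw [Finset.prod_eq_zero (i := m) (Finset.mem_range.2 (by omega))
      (by rw [Fintype.card_fin, show 2 * m - m = m by omega, Nat.sub_self])] at h1
    rw [Nat.card_eq_zero] at h1
    rcases h1 with h1 | h1
    · exact h1.false ⟨_, hu⟩
    · exact h1.not_finite inferInstance
  have hcard := card_stabilizing_isotropic hkm W hk.symm hiso
  have hidx := (Cfsg.stabilizing (Cfsg.spToMat m F) (W : Set V)).index_mul_card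
  rw [hcard, card_sp, Fintype.card_fin, prod_pow_sub] at hidx
  set n := (Cfsg.stabilizing (Cfsg.spToMat m F) (W : Set V)).index
  have hch : k.choose 2 ≤ m ^ 2 := by
    have h1 := choose_two_add k
    have h2 : k ^ 2 ≤ m ^ 2 := Nat.pow_le_pow_left hkm 2
    omega
  have h2 : ∏ i ∈ Finset.range m, (qq ^ (2 * (i + 1)) - 1) =
      (∏ i ∈ Finset.range (m - k), (qq ^ (2 * (i + 1)) - 1)) *
        ∏ i ∈ Finset.range k, (qq ^ (2 * (m - k + i + 1)) - 1) := by
    conv_lhs => rw [show m = m - k + k by omega]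
    rw [Finset.prod_range_add]
  have h3 : qq ^ k.choose 2 * qq ^ (m ^ 2 - k.choose 2) = qq ^ (m ^ 2) := by
    rw [← pow_add]; congr 1; omega
  rw [h2, ← h3] at hidx
  have hP : 0 < qq ^ k.choose 2 * qq ^ (m ^ 2 - k.choose 2) *
      ∏ i ∈ Finset.range (m - k), (qq ^ (2 * (i + 1)) - 1) := by
    refine Nat.mul_pos (Nat.mul_pos (Nat.pow_pos Fintype.card_pos) (Nat.pow_pos Fintype.card_pos)) ?_
    exact Finset.prod_pos fun i _ => one_le_pow_sub qq Fintype.one_lt_card _ (by omega)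
  have hmain : n * ∏ i ∈ Finset.range k, (qq ^ (i + 1) - 1) =
      ∏ i ∈ Finset.range k, (qq ^ (2 * (m - k + i + 1)) - 1) := by
    refine Nat.eq_of_mul_eq_mul_left hP ?_
    rw [← mul_assoc (qq ^ k.choose 2 * qq ^ (m ^ 2 - k.choose 2))] at hidx
    rw [← hidx]
    ring
  obtain ⟨k', hk'⟩ : ∃ k', k = k' + 1 := ⟨k - 1, by omega⟩
  rw [hk', Finset.prod_range_succ' (fun i => qq ^ (i + 1) - 1),
    Finset.prod_range_succ (fun i => qq ^ (2 * (m - (k' + 1) + i + 1)) - 1),
    show 2 * (m - (k' + 1) + k' + 1) = 2 * m by omega, zero_add, pow_one] at hmain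
  have hD : ∏ i ∈ Finset.range k', (qq ^ (i + 1 + 1) - 1) ≤
      ∏ i ∈ Finset.range k', (qq ^ (2 * (m - (k' + 1) + i + 1)) - 1) :=
    Finset.prod_le_prod' fun i _ => Nat.sub_le_sub_right
      (Nat.pow_le_pow_right Fintype.card_pos (by omega)) 1
  have hD0 : 0 < ∏ i ∈ Finset.range k', (qq ^ (i + 1 + 1) - 1) :=
    Finset.prod_pos fun i _ => one_le_pow_sub qq Fintype.one_lt_card _ (by omega)
  refine Nat.le_of_mul_le_mul_left ?_ hD0
  calc (∏ i ∈ Finset.range k', (qq ^ (i + 1 + 1) - 1)) * (qq ^ (2 * m) - 1)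
      ≤ (∏ i ∈ Finset.range k', (qq ^ (2 * (m - (k' + 1) + i + 1)) - 1)) * (qq ^ (2 * m) - 1) :=
        Nat.mul_le_mul_right _ hD
    _ = n * ((∏ i ∈ Finset.range k', (qq ^ (i + 1 + 1) - 1)) * (qq - 1)) := hmain.symm
    _ = _ := by ring

/-- Stabilisers of non-degenerate subspaces are small. -/
theorem card_stab_nondeg (W : Submodule F V) (h0 : W ≠ ⊥) (h1 : W ≠ ⊤)
    (hnd : ∀ u ∈ W, (∀ v ∈ W, sf u v = 0) → u = 0) :
    qq ^ (4 * (m - 1)) * Nat.card ↥(Cfsg.stabilizing (Cfsg.spToMat m F) (W : Set V)) ≤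
      Nat.card Sp := by
  obtain ⟨k, p, -, -, hdim⟩ := exists_hyp_basis W hnd
  have hk0 : 1 ≤ k := by
    by_contra h
    exact h0 (Submodule.finrank_eq_zero.1 (by omega))
  have hkm : k < m := by
    have h2 := Submodule.finrank_lt h1
    rw [Module.finrank_pi, Fintype.card_sum, Fintype.card_fin] at h2
    omega
  obtain ⟨l, rfl⟩ : ∃ l, m = k + l := ⟨m - k, by omega⟩
  obtain ⟨e⟩ := stabilizer_split k W hdim hnd
  rw [Nat.card_congr e.toEquiv, Nat.card_prod, card_sp, card_sp, card_sp, Fintype.card_fin,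
    Fintype.card_fin, Fintype.card_fin, Nat.add_sub_cancel_left, Finset.prod_range_add]
  have hl : 1 ≤ l := by omega
  have hexp : 4 * (k + l - 1) ≤ 4 * (k * l) := by
    obtain ⟨k', rfl⟩ : ∃ k', k = k' + 1 := ⟨k - 1, by omega⟩
    obtain ⟨l', rfl⟩ : ∃ l', l = l' + 1 := ⟨l - 1, by omega⟩
    rw [show k' + 1 + (l' + 1) - 1 = k' + l' + 1 by omega]
    nlinarith
  have hprod : qq ^ (2 * (k * l)) * ∏ i ∈ Finset.range l, (qq ^ (2 * (i + 1)) - 1) ≤
      ∏ i ∈ Finset.range l, (qq ^ (2 * (k + i + 1)) - 1) := by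
    rw [show 2 * (k * l) = 2 * k * l by ring, pow_mul,
      show (qq ^ (2 * k)) ^ l = ∏ _i ∈ Finset.range l, qq ^ (2 * k) by simp,
      ← Finset.prod_mul_distrib]
    refine Finset.prod_le_prod' fun i _ => ?_
    rw [Nat.mul_sub, mul_one, ← pow_add, show 2 * k + 2 * (i + 1) = 2 * (k + i + 1) by ring]
    exact Nat.sub_le_sub_left (Nat.one_le_pow _ _ Fintype.card_pos) _
  calc qq ^ (4 * (k + l - 1)) * (qq ^ k ^ 2 * (∏ i ∈ Finset.range k, (qq ^ (2 * (i + 1)) - 1)) *
        (qq ^ l ^ 2 * ∏ i ∈ Finset.range l, (qq ^ (2 * (i + 1)) - 1)))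
      ≤ qq ^ (4 * (k * l)) * (qq ^ k ^ 2 * (∏ i ∈ Finset.range k, (qq ^ (2 * (i + 1)) - 1)) *
        (qq ^ l ^ 2 * ∏ i ∈ Finset.range l, (qq ^ (2 * (i + 1)) - 1))) :=
        Nat.mul_le_mul_right _ (Nat.pow_le_pow_right Fintype.card_pos hexp)
    _ = qq ^ (k + l) ^ 2 * (∏ i ∈ Finset.range k, (qq ^ (2 * (i + 1)) - 1)) *
        (qq ^ (2 * (k * l)) * ∏ i ∈ Finset.range l, (qq ^ (2 * (i + 1)) - 1)) := by
          rw [show (k + l) ^ 2 = k ^ 2 + l ^ 2 + 2 * (k * l) by ring,
            show 4 * (k * l) = 2 * (k * l) + 2 * (k * l) by ring]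
          simp only [pow_add]
          ring
    _ ≤ _ := by
          rw [mul_assoc]
          gcongr

omit [Fintype F] in
theorem stab_of_le {W : Submodule F V} {S : Set V} (hW : Submodule.span F S = W) {g : Sp}
    (hg : ∀ v ∈ S, g • v ∈ W) : g ∈ Cfsg.stabilizing (Cfsg.spToMat m F) (W : Set V) := by
  refine mem_stabilizing_of_maps fun v hv => ?_
  rw [← hW] at hv
  induction hv using Submodule.span_induction with
  | mem v hv => exact hg v hv
  | zero => rw [smul_zero]; exact W.zero_mem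
  | add a b _ _ ha hb => rw [smul_add]; exact W.add_mem ha hb
  | smul c a _ ha => rw [smul_comm]; exact W.smul_mem c ha

theorem num_nondeg {q m : ℕ} (hq : 3 ≤ q) (hm : 2 ≤ m) : m * q ^ (2 * m) ≤ (q - 1) * q ^ (4 * (m - 1)) := by
  obtain ⟨i, rfl⟩ : ∃ i, m = i + 2 := ⟨m - 2, by omega⟩
  rw [show 4 * (i + 2 - 1) = 2 * (i + 2) + 2 * i by omega, pow_add _ (2 * (i + 2)) (2 * i),
    mul_comm (i + 2), mul_left_comm]
  refine Nat.mul_le_mul_left _ ?_
  have h1 : i + 1 ≤ q ^ (2 * i) := by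
    refine le_trans (Nat.succ_le_of_lt (Nat.lt_pow_self (show 1 < q * q by nlinarith) (n := i))) ?_
    rw [pow_mul, sq]
  calc i + 2 ≤ 2 * (i + 1) := by omega
    _ ≤ (q - 1) * q ^ (2 * i) := Nat.mul_le_mul (by omega) h1

/-- The relation of having a common neighbour among the centres. -/
def Rel (K : Subgroup (Matrix.symplecticGroup (Fin m) F)) (x z : V) : Prop :=
  ∃ a, IsCtr K a ∧ sf x a ≠ 0 ∧ sf a z ≠ 0

theorem Rel.symm {x z : V} (h : Rel K x z) : Rel K z x := by
  obtain ⟨a, ha, h1, h2⟩ := h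
  exact ⟨a, ha, fun e => h2 (sf_eq_zero_comm e), fun e => h1 (sf_eq_zero_comm e)⟩

theorem rel_of_adj {x z : V} (hx : IsCtr K x) (hz : IsCtr K z) (h : sf x z ≠ 0) : Rel K x z :=
  ⟨x + z, by simpa using Shift.ctr_comb hx hz h 1 1,
    by rw [map_add, sf_self, zero_add]; exact h,
    by rw [map_add, LinearMap.add_apply, sf_self, add_zero]; exact h⟩

theorem rel_path {x a b c : V} (ha : IsCtr K a) (hb : IsCtr K b) (h1 : sf x a ≠ 0) (h2 : sf a b ≠ 0)
    (h3 : sf b c ≠ 0) : Rel K x c := by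
  by_cases hxb : sf x b = 0
  swap
  · exact ⟨b, hb, hxb, h3⟩
  by_cases hac : sf a c = 0
  swap
  · exact ⟨a, ha, h1, hac⟩
  refine ⟨a + b, by simpa using Shift.ctr_comb ha hb h2 1 1, ?_, ?_⟩
  · rw [map_add, hxb, add_zero]; exact h1
  · rw [map_add, LinearMap.add_apply, hac, zero_add]; exact h3

theorem Rel.trans {x z w : V} (hz : IsCtr K z) (h : Rel K x z) (h' : Rel K z w) : Rel K x w := by
  obtain ⟨a, ha, h1, h2⟩ := h
  obtain ⟨b, hb, h3, h4⟩ := h'
  obtain ⟨c, hc, h5, h6⟩ := rel_path ha hz h1 h2 h3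
  exact rel_path hc hb h5 h6 h4

theorem Rel.map {x z : V} {g : Sp} (hg : g ∈ K) (h : Rel K x z) : Rel K (g • x) (g • z) := by
  obtain ⟨a, ha, h1, h2⟩ := h
  exact ⟨g • a, ha.group_smul hg, by rwa [sf_smul_smul], by rwa [sf_smul_smul]⟩

/-- Subgroups containing a full root group. -/
theorem bound_ctr (hm : 2 ≤ m) (hq : 3 ≤ qq) (hK : K ≠ ⊤) {z₀ : V} (hz₀ : z₀ ≠ 0)
    (hz₀C : IsCtr K z₀) : qq ^ (2 * m) - 1 ≤ (qq - 1) * K.index := by
  classical
  set C : Set V := {v | v ≠ 0 ∧ IsCtr K v} with hCdef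
  set U := Submodule.span F C with hU
  have hCmap : ∀ g ∈ K, ∀ v ∈ C, g • v ∈ C := fun g hg v hv =>
    ⟨fun h => hv.1 ((smul_eq_zero_iff_eq g).1 h), hv.2.group_smul hg⟩
  have hUstab : K ≤ Cfsg.stabilizing (Cfsg.spToMat m F) (U : Set V) := fun g hg =>
    stab_of_le rfl fun v hv => Submodule.subset_span (hCmap g hg v hv)
  have hidx : ∀ W : Submodule F V, K ≤ Cfsg.stabilizing (Cfsg.spToMat m F) (W : Set V) →
      (Cfsg.stabilizing (Cfsg.spToMat m F) (W : Set V)).index ≤ K.index := fun W hW =>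
    Nat.le_of_dvd (Nat.pos_of_ne_zero Subgroup.index_ne_zero_of_finite) (Subgroup.index_dvd_of_le hW)
  by_cases hUtop : U = ⊤
  swap
  · let R : Submodule F V :=
      { carrier := {v | v ∈ U ∧ ∀ u ∈ U, sf u v = 0}
        add_mem' := fun {a b} ha hb => ⟨U.add_mem ha.1 hb.1, fun u hu => by
          rw [map_add, ha.2 u hu, hb.2 u hu, add_zero]⟩
        zero_mem' := ⟨U.zero_mem, fun u _ => map_zero _⟩
        smul_mem' := fun c a ha => ⟨U.smul_mem c ha.1, fun u hu => by rw [map_smul, ha.2 u hu, smul_zero]⟩ }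
    by_cases hR : R = ⊥
    swap
    · refine (index_isotropic R hR fun u hu v hv => hv.2 u hu.1).trans (Nat.mul_le_mul_left _ (hidx R ?_))
      intro g hg
      refine mem_stabilizing_of_maps fun v hv => ?_
      have hgU := mem_stabilizing.1 (hUstab hg)
      refine ⟨(hgU v).1 hv.1, fun u hu => ?_⟩
      rw [← sf_smul_smul g⁻¹, inv_smul_smul]
      exact hv.2 _ ((hgU _).2 (by rw [smul_inv_smul]; exact hu))
    · have hU0 : U ≠ ⊥ := fun h => hz₀ (by
        have : z₀ ∈ U := Submodule.subset_span ⟨hz₀, hz₀C⟩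
        rw [h] at this
        exact (Submodule.mem_bot F).1 this)
      have h1 := card_stab_nondeg U hU0 hUtop fun u hu h => by
        have : u ∈ R := ⟨hu, fun v hv => sf_eq_zero_comm (h v hv)⟩
        rw [hR] at this
        exact (Submodule.mem_bot F).1 this
      rw [← (Cfsg.stabilizing (Cfsg.spToMat m F) (U : Set V)).index_mul_card] at h1
      have h2 := (Nat.le_of_mul_le_mul_right h1 Nat.card_pos).trans (hidx U hUstab)
      refine le_trans ?_ (Nat.mul_le_mul_left _ h2)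
      have := num_nondeg hq hm
      have h3 : qq ^ (2 * m) ≤ m * qq ^ (2 * m) := Nat.le_mul_of_pos_left _ (by omega)
      omega
  -- the centres span
  have hperp : ∀ w : V, (∀ z ∈ C, sf z w = 0) → w = 0 := fun w h => by
    refine eq_zero_of_sf fun v => sf_eq_zero_comm ?_
    have hv : v ∈ U := hUtop ▸ Submodule.mem_top
    induction hv using Submodule.span_induction with
    | mem a ha => exact h a ha
    | zero => simp
    | add a b _ _ ha hb => simp [ha, hb]
    | smul c a _ ha => simp [ha]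
  have hnbr : ∀ x ∈ C, ∃ a ∈ C, sf x a ≠ 0 := fun x hx => by
    by_contra hcon
    simp only [not_exists, not_and, not_not] at hcon
    exact hx.1 (hperp x fun z hz => sf_eq_zero_comm (hcon z hz))
  by_cases hone : ∀ z ∈ C, Rel K z₀ z
  · exfalso
    obtain ⟨c₀, -, hc₀⟩ := Finset.exists_mem_notMem_of_card_lt_card (s := ({0, 1} : Finset F))
      (t := Finset.univ) (by
        have := Finset.card_le_two (a := (0 : F)) (b := 1)
        rw [Finset.card_univ]; omega)
    simp only [Finset.mem_insert, Finset.mem_singleton, not_or] at hc₀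
    apply hK
    refine Shift.eq_top_of_star hc₀.1 hc₀.2 hz₀C (Ω := {v | IsCtr K v ∧ sf z₀ v ≠ 0}) (fun v hv => hv)
      ?_ ?_
    · rw [eq_top_iff, ← hUtop, hU, Submodule.span_le]
      intro z hz
      by_cases h : sf z₀ z = 0
      swap
      · exact Submodule.subset_span ⟨hz.2, h⟩
      obtain ⟨a, ha, h1, h2⟩ := hone z hz
      have hmem : a + z ∈ {v : V | IsCtr K v ∧ sf z₀ v ≠ 0} :=
        ⟨by simpa using Shift.ctr_comb ha hz.2 h2 1 1, by rwa [map_add, h, add_zero]⟩
      have ha' : a ∈ {v : V | IsCtr K v ∧ sf z₀ v ≠ 0} := ⟨ha, h1⟩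
      have := Submodule.sub_mem _ (Submodule.subset_span (R := F) hmem) (Submodule.subset_span ha')
      rwa [add_sub_cancel_left] at this
    · obtain ⟨a, ha, h1⟩ := hnbr z₀ ⟨hz₀, hz₀C⟩
      exact ⟨a, ha.2, h1⟩
  simp only [not_forall] at hone
  obtain ⟨z₁, hz₁, hz₁R⟩ := hone
  set S : Set V := {v | v ∈ C ∧ Rel K z₀ v} with hS
  set W := Submodule.span F S with hWdef
  have hrefl : ∀ x ∈ C, Rel K x x := fun x hx => by
    obtain ⟨a, ha, h⟩ := hnbr x hx
    exact ⟨a, ha.2, h, fun e => h (sf_eq_zero_comm e)⟩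
  have hout : ∀ z ∈ C, ¬ Rel K z₀ z → ∀ w ∈ W, sf w z = 0 := by
    intro z hz hzR w hw
    induction hw using Submodule.span_induction with
    | mem a ha =>
      by_contra h
      exact hzR (ha.2.trans ha.1.2 (rel_of_adj ha.1.2 hz.2 h))
    | zero => simp
    | add a b _ _ ha hb => simp [ha, hb]
    | smul c a _ ha => simp [ha]
  have hW0 : W ≠ ⊥ := fun h => hz₀ (by
    have : z₀ ∈ W := Submodule.subset_span ⟨⟨hz₀, hz₀C⟩, hrefl _ ⟨hz₀, hz₀C⟩⟩
    rw [h] at this
    exact (Submodule.mem_bot F).1 this)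
  have hnd : ∀ u ∈ W, (∀ v ∈ W, sf u v = 0) → u = 0 := by
    intro u hu h
    refine hperp u fun z hz => ?_
    by_cases hzR : Rel K z₀ z
    · exact sf_eq_zero_comm (h z (Submodule.subset_span ⟨hz, hzR⟩))
    · exact sf_eq_zero_comm (hout z hz hzR u hu)
  have hW1 : W ≠ ⊤ := fun h => by
    obtain ⟨a, -, hne⟩ := hnbr z₁ hz₁
    exact hne (sf_eq_zero_comm (hout z₁ hz₁ hz₁R a (h ▸ Submodule.mem_top)))
  have h1 := card_stab_nondeg W hW0 hW1 hnd
  let H : Subgroup Sp :=
    { carrier := {g | g ∈ K ∧ Rel K z₀ (g • z₀)}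
      one_mem' := ⟨K.one_mem, by rw [one_smul]; exact hrefl _ ⟨hz₀, hz₀C⟩⟩
      mul_mem' := by
        rintro g g' ⟨hg, hgR⟩ ⟨hg', hg'R⟩
        refine ⟨K.mul_mem hg hg', ?_⟩
        rw [mul_smul]
        exact hgR.trans (hz₀C.group_smul hg) (hg'R.map hg)
      inv_mem' := by
        rintro g ⟨hg, hgR⟩
        refine ⟨K.inv_mem hg, ?_⟩
        have := (hgR.map (K.inv_mem hg)).symm
        rwa [inv_smul_smul] at this }
  have hHstab : H ≤ Cfsg.stabilizing (Cfsg.spToMat m F) (W : Set V) := fun g hg =>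
    stab_of_le hWdef.symm fun v hv => Submodule.subset_span
      ⟨hCmap g hg.1 v hv.1, hg.2.trans (hz₀C.group_smul hg.1) (hv.2.map hg.1)⟩
  have hcardK := card_eq_image_mul_stab K H (fun g => {v : V | Rel K (g • z₀) v}) (fun g hg => hg.1)
    (fun g hg h hh => by
      constructor
      · intro e
        have h' : Rel K (g • z₀) (h • z₀) := by
          have : h • z₀ ∈ {v : V | Rel K (h • z₀) v} := (hrefl _ ⟨hz₀, hz₀C⟩).map hh
          exact (Set.ext_iff.1 e _).2 this
        refine ⟨K.mul_mem (K.inv_mem hg) hh, ?_⟩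
        have := h'.map (K.inv_mem hg)
        rwa [inv_smul_smul, ← mul_smul] at this
      · rintro ⟨-, hR⟩
        have := hR.map hg
        rw [← mul_smul, mul_inv_cancel_left] at this
        ext v
        exact ⟨fun hv => this.symm.trans (hz₀C.group_smul hg) hv,
          fun hv => this.trans (hz₀C.group_smul hh) hv⟩)
  have hr : Nat.card ((fun g : Sp => {v : V | Rel K (g • z₀) v}) '' (K : Set Sp)) ≤ m := by
    set T := (fun g : Sp => {v : V | Rel K (g • z₀) v}) '' (K : Set Sp)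
    haveI : Fintype T := Fintype.ofFinite _
    have hsec : ∀ t : T, ∃ g ∈ K, {v : V | Rel K (g • z₀) v} = (t : Set V) := fun t => t.2
    choose g hgK hgt using hsec
    set x : T → V := fun t => g t • z₀ with hxdef
    have hxC : ∀ t, x t ∈ C := fun t => hCmap _ (hgK t) _ ⟨hz₀, hz₀C⟩
    choose a haC ha using fun t => hnbr _ (hxC t)
    have hsep : ∀ s t, s ≠ t → ¬ Rel K (x s) (x t) := fun s t hst h => hst (Subtype.ext (by
      rw [← hgt s, ← hgt t]
      ext v
      exact ⟨fun hv => h.symm.trans (hxC s).2 hv, fun hv => h.trans (hxC t).2 hv⟩))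
    have hxx : ∀ s t, s ≠ t → sf (x s) (x t) = 0 := fun s t hst => by_contra fun h =>
      hsep s t hst (rel_of_adj (hxC s).2 (hxC t).2 h)
    have hxa : ∀ s t, s ≠ t → sf (x s) (a t) = 0 := fun s t hst => by_contra fun h =>
      hsep s t hst ((rel_of_adj (hxC s).2 (haC t).2 h).trans (haC t).2
        (rel_of_adj (hxC t).2 (haC t).2 (ha t)).symm)
    have haa : ∀ s t, s ≠ t → sf (a s) (a t) = 0 := fun s t hst => by_contra fun h =>
      hsep s t hst ((rel_of_adj (hxC s).2 (haC s).2 (ha s)).trans (haC s).2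
        ((rel_of_adj (haC s).2 (haC t).2 h).trans (haC t).2
          (rel_of_adj (hxC t).2 (haC t).2 (ha t)).symm))
    have hli : LinearIndependent F (Sum.elim x a) := by
      rw [Fintype.linearIndependent_iff]
      intro c hc
      have key : ∀ t, c (Sum.inr t) = 0 := by
        intro t
        have := congrArg (sf (x t)) hc
        rw [Fintype.sum_sum_type, map_add, map_sum, map_sum, map_zero,
          Finset.sum_eq_zero (fun s _ => by
            rcases eq_or_ne t s with rfl | hts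
            · simp
            · simp [hxx t s hts]), zero_add,
          Finset.sum_eq_single t (fun s _ hst => by simp [hxa t s hst.symm]) (by simp)] at this
        simpa [ha t] using this
      rintro (t | t)
      · have := congrArg (sf (a t)) hc
        rw [Fintype.sum_sum_type, map_add, map_sum, map_sum, map_zero,
          Finset.sum_eq_single t (fun s _ hst => by simp [sf_eq_zero_comm (hxa s t hst)]) (by simp),
          Finset.sum_eq_zero (fun s _ => by simp [key s]), add_zero] at this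
        have hne : sf (a t) (x t) ≠ 0 := fun e => ha t (sf_eq_zero_comm e)
        simpa [hne] using this
      · exact key t
    have h2 := hli.fintype_card_le_finrank
    rw [Fintype.card_sum, Module.finrank_pi, Fintype.card_sum, Fintype.card_fin] at h2
    rw [Nat.card_eq_fintype_card]
    omega
  have h3 : Nat.card Sp ≤ K.index * (m * Nat.card ↥(Cfsg.stabilizing (Cfsg.spToMat m F) (W : Set V))) := by
    rw [← K.index_mul_card, hcardK]
    exact Nat.mul_le_mul_left _ (Nat.mul_le_mul hr (Subgroup.card_le_of_le hHstab))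
  have h4 : qq ^ (4 * (m - 1)) ≤ K.index * m := by
    refine Nat.le_of_mul_le_mul_right ?_ (Nat.card_pos (α := ↥(Cfsg.stabilizing (Cfsg.spToMat m F) (W : Set V))))
    rw [mul_assoc]
    exact h1.trans h3
  have h5 := num_nondeg hq hm
  refine le_trans (Nat.sub_le _ _) (Nat.le_of_mul_le_mul_left ?_ (show 0 < m by omega))
  calc m * qq ^ (2 * m) ≤ (qq - 1) * qq ^ (4 * (m - 1)) := h5
    _ ≤ (qq - 1) * (K.index * m) := Nat.mul_le_mul_left _ h4
    _ = _ := by ring

end MinIdx

end H48
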