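import Mathlib

/-!
# The orbit of a quadratic form with non-zero polar form in characteristic two
-/

set_option autoImplicit false

namespace H48

namespace QuadEven

open Finset

variable {F : Type*} [Field F] [Fintype F] [DecidableEq F] [CharP F 2]

/-- `y ↦ y ^ 2 + y`. -/
def artinSchreier : F →+ F where
  toFun y := y * y + y
  map_zero' := by simp
  map_add' a b := by
    have : (2 : F) = 0 := CharP.cast_eq_zero F 2
    linear_combination (a * b) * this

theorem index_range_artinSchreier : (artinSchreier : F →+ F).range.index = 2 := by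
  have hker : Nat.card (artinSchreier : F →+ F).ker = 2 := by
    have e : ((artinSchreier : F →+ F).ker : Set F) = {0, 1} := by
      ext y
      show y * y + y = 0 ↔ _
      rw [Set.mem_insert_iff, Set.mem_singleton_iff]
      constructor
      · intro h
        have h' : y * (y + 1) = 0 := by linear_combination h
        rcases mul_eq_zero.1 h' with h1 | h1
        · exact Or.inl h1
        · exact Or.inr (by rw [eq_neg_of_add_eq_zero_left h1, CharTwo.neg_eq])
      · rintro (rfl | rfl)
        · simp
        · rw [one_mul]; exact CharTwo.add_self_eq_zero 1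
    show Nat.card ((artinSchreier : F →+ F).ker : Set F) = 2
    rw [e, Nat.card_coe_set_eq, Set.ncard_pair zero_ne_one]
  have h1 := (artinSchreier : F →+ F).ker.card_eq_card_quotient_mul_card_addSubgroup
  have h2 := (artinSchreier : F →+ F).range.index_mul_card
  rw [Nat.card_congr (QuotientAddGroup.quotientKerEquivRange _).toEquiv, hker] at h1
  have h3 : 0 < Nat.card (artinSchreier : F →+ F).range := Nat.card_pos
  rw [h1, mul_comm _ 2] at h2
  exact Nat.eq_of_mul_eq_mul_right h3 h2

/-- The sign attached to the index two subgroup. -/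
def theta (x : F) : ℤ := if ∃ y : F, y * y + y = x then 1 else -1

theorem theta_sq (x : F) : theta x * theta x = 1 := by
  unfold theta; split_ifs <;> norm_num

theorem theta_add (x y : F) : theta (x + y) = theta x * theta y := by
  have h := AddSubgroup.add_mem_iff_of_index_two (index_range_artinSchreier (F := F)) (a := x) (b := y)
  have e : ∀ z : F, z ∈ (artinSchreier : F →+ F).range ↔ ∃ y : F, y * y + y = z := fun z => Iff.rfl
  rw [e, e, e] at h
  unfold theta
  by_cases hx : ∃ w : F, w * w + w = x <;> by_cases hy : ∃ w : F, w * w + w = y <;>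
    simp [hx, hy, h]

theorem exists_theta_neg : ∃ x : F, theta x = -1 := by
  by_contra hcon
  simp only [not_exists] at hcon
  have h : (artinSchreier : F →+ F).range = ⊤ := by
    rw [eq_top_iff]
    intro x _
    by_contra hx
    exact hcon x (if_neg hx)
  have h2 := index_range_artinSchreier (F := F)
  rw [h, AddSubgroup.index_top] at h2
  omega

variable {W : Type*} [AddCommGroup W] [Module F W]

/-- `Q` is a quadratic form with polar form `P`. -/
structure IsQuad (Q : W → F) (P : W →ₗ[F] W →ₗ[F] F) : Prop where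
  add : ∀ v w, Q (v + w) = Q v + Q w + P v w
  smul : ∀ (a : F) v, Q (a • v) = a * a * Q v
  self : ∀ v, P v v = 0

omit [Fintype F] [DecidableEq F] in
theorem IsQuad.symm {Q : W → F} {P : W →ₗ[F] W →ₗ[F] F} (h : IsQuad Q P) (v w : W) :
    P v w = P w v := by
  have := h.self (v + w)
  simp only [map_add, LinearMap.add_apply, h.self v, h.self w, zero_add, add_zero] at this
  rw [eq_neg_of_add_eq_zero_right this, CharTwo.neg_eq]

/-- The key Gauss sum: `S ^ 2 = |U|`. -/
theorem theta_sum_sq {U : Type*} [AddCommGroup U] [Module F U] [Fintype U] {Q : U → F}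
    {P : U →ₗ[F] U →ₗ[F] F} (h : IsQuad Q P) (hnd : ∀ u, u ≠ 0 → ∃ w, P w u ≠ 0) :
    (∑ u : U, theta (Q u)) * (∑ u : U, theta (Q u)) = Fintype.card U := by
  classical
  rw [Finset.sum_mul_sum]
  have e : ∀ z : U, ∑ w : U, theta (Q z) * theta (Q w) = ∑ u : U, theta (Q u) * theta (P z u) := by
    intro z
    symm
    refine Fintype.sum_equiv (Equiv.addLeft z) _ _ fun u => ?_
    simp only [Equiv.coe_addLeft, h.add, theta_add]
    linear_combination (-(theta (Q u) * theta (P z u))) * theta_sq (Q z)
  simp only [e]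
  rw [Finset.sum_comm]
  simp only [← Finset.mul_sum]
  rw [Finset.sum_eq_single 0]
  · have h0 : Q 0 = 0 := by simpa using h.smul 0 0
    have t0 : theta (0 : F) = 1 := if_pos ⟨0, by simp⟩
    simp [h0, t0]
  · intro u _ hu
    obtain ⟨w, hw⟩ := hnd u hu
    obtain ⟨x, hx⟩ := exists_theta_neg (F := F)
    refine mul_eq_zero_of_right _ ?_
    have hw' : P ((x / P w u) • w) u = x := by
      rw [map_smul, LinearMap.smul_apply, smul_eq_mul, div_mul_cancel₀ _ hw]
    have : ∑ z : U, theta (P z u) = -∑ z : U, theta (P z u) := by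
      conv_lhs => rw [← Fintype.sum_equiv (Equiv.addLeft ((x / P w u) • w)) _ _ (fun _ => rfl)]
      rw [← Finset.sum_neg_distrib]
      refine Finset.sum_congr rfl fun z _ => ?_
      simp only [Equiv.coe_addLeft, Function.comp_apply, map_add, LinearMap.add_apply, hw', theta_add, hx]
      ring
    omega
  · simp

/-- Many values in the index two subgroup. -/
theorem count_theta {U : Type*} [AddCommGroup U] [Module F U] [Fintype U] {Q : U → F}
    {P : U →ₗ[F] U →ₗ[F] F} (h : IsQuad Q P) (hnd : ∀ u, u ≠ 0 → ∃ w, P w u ≠ 0) {r : ℕ}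
    (hr : Fintype.card U = r * r) :
    (r * r - r) ≤ 2 * (univ.filter fun u : U => theta (Q u) = 1).card := by
  classical
  have hS := theta_sum_sq h hnd
  rw [hr, Nat.cast_mul] at hS
  have hsplit : ∑ u : U, theta (Q u) = 2 * ((univ.filter fun u : U => theta (Q u) = 1).card : ℤ)
      - Fintype.card U := by
    have e : ∀ u : U, theta (Q u) = 2 * (if theta (Q u) = 1 then (1 : ℤ) else 0) - 1 := by
      intro u
      by_cases hu : ∃ y : F, y * y + y = Q u <;> simp [theta, hu]
    rw [Finset.sum_congr rfl fun u _ => e u, Finset.sum_sub_distrib, ← Finset.mul_sum,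
      Finset.sum_boole]
    simp
  rcases mul_self_eq_mul_self_iff.1 hS with h1 | h1 <;>
  · rw [hsplit, hr, Nat.cast_mul] at h1
    rcases Nat.eq_zero_or_pos r with rfl | hr0
    · simp
    have : r ≤ r * r := Nat.le_mul_self r
    zify [this]
    omega

variable [Fintype W] {n : ℕ}

/-- The functions `Q ∘ g`. -/
def orb (Q : W → F) : Set (W → F) := Set.range fun g : W ≃ₗ[F] W => Q ∘ g

/-- The functions `P ∘ g`. -/
def porb (P : W →ₗ[F] W →ₗ[F] F) : Set (W → W → F) :=
  Set.range fun g : W ≃ₗ[F] W => fun v w => P (g v) (g w)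

/-- Forms in the orbit with unchanged polar form. -/
def pfib (Q : W → F) (P : W →ₗ[F] W →ₗ[F] F) : Set (W → F) :=
  (fun g : W ≃ₗ[F] W => Q ∘ g) '' {g | ∀ v w, P (g v) (g w) = P v w}

omit [DecidableEq F] in
theorem mul_le_orb {Q : W → F} {P : W →ₗ[F] W →ₗ[F] F} (h : IsQuad Q P) :
    Nat.card (porb P) * Nat.card (pfib Q P) ≤ Nat.card (orb Q) := by
  rw [← Nat.card_prod]
  have hπ : ∀ π : porb P, ∃ g : W ≃ₗ[F] W, (fun v w => P (g v) (g w)) = π.1 := fun π => π.2
  choose G hG using hπ
  refine Nat.card_le_card_of_injective (fun p => (⟨p.2.1 ∘ G p.1, ?_⟩ : orb Q)) ?_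
  · obtain ⟨g, -, hg⟩ := p.2.2
    exact ⟨(G p.1).trans g, by rw [← hg]; rfl⟩
  rintro ⟨π, φ⟩ ⟨π', φ'⟩ he
  have he' : φ.1 ∘ G π = φ'.1 ∘ G π' := congrArg Subtype.val he
  have hpol : ∀ (ψ : pfib Q P) (v w : W), ψ.1 (v + w) - ψ.1 v - ψ.1 w = P v w := by
    rintro ⟨_, g, hg, rfl⟩ v w
    show Q (g (v + w)) - Q (g v) - Q (g w) = P v w
    rw [map_add, h.add, hg v w]
    ring
  have hππ : π = π' := Subtype.ext (by
    rw [← hG π, ← hG π']
    funext v w
    rw [← hpol φ, ← hpol φ', ← map_add, ← map_add]
    show (φ.1 ∘ G π) (v + w) - (φ.1 ∘ G π) v - (φ.1 ∘ G π) w = _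
    rw [he']; rfl)
  subst hππ
  have : φ = φ' := Subtype.ext (funext fun v => by
    have := congrFun he' ((G π).symm v)
    simpa using this)
  rw [this]

/-- The fibre contains one form for each `z` with `θ (Q z) = 1`. -/
theorem pfib_ge {Q : W → F} {P : W →ₗ[F] W →ₗ[F] F} (h : IsQuad Q P) {U : Type*} [AddCommGroup U]
    [Module F U] [Fintype U] (L : U →ₗ[F] W) (hnd : ∀ u, u ≠ 0 → ∃ w, P (L w) (L u) ≠ 0) {r : ℕ}
    (hr : Fintype.card U = r * r) : r * r - r ≤ 2 * Nat.card (pfib Q P) := by
  classical
  let PU : U →ₗ[F] U →ₗ[F] F := P.compl₁₂ L L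
  have hU : IsQuad (Q ∘ L) PU :=
    ⟨fun v w => by simp [PU, h.add], fun a v => by simp [h.smul], fun v => h.self _⟩
  refine (count_theta hU hnd hr).trans (Nat.mul_le_mul_left 2 ?_)
  rw [← Nat.card_eq_finsetCard]
  have h2 : (2 : F) = 0 := CharP.cast_eq_zero F 2
  have hc : ∀ u : (univ.filter fun u : U => theta (Q (L u)) = 1), ∃ c : F, c * c * Q (L u) + c = 1 := by
    rintro ⟨u, hu⟩
    have hu' := (Finset.mem_filter.1 hu).2
    obtain ⟨y, hy⟩ : ∃ y : F, y * y + y = Q (L u) := by
      by_contra hcon
      rw [theta, if_neg hcon] at hu'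
      norm_num at hu'
    by_cases hy0 : y = 0
    · exact ⟨1, by rw [← hy, hy0]; simp⟩
    · refine ⟨y⁻¹, ?_⟩
      rw [← hy]
      field_simp
      linear_combination h2
  choose c hc using hc
  have hmem : ∀ u : (univ.filter fun u : U => theta (Q (L u)) = 1),
      (fun v => Q v + P (L u) v * P (L u) v) ∈ pfib Q P := by
    intro u
    let f : W →ₗ[F] W := LinearMap.id + ((c u) • (P (L u))).smulRight (L u)
    have hf : ∀ v, f v = v + (c u * P (L u) v) • L u := fun v => rfl
    have hff : Function.Involutive f := fun v => by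
      rw [hf, hf v, map_add, map_smul, h.self, smul_zero, add_zero, add_assoc, ← add_smul,
        CharTwo.add_self_eq_zero, zero_smul, add_zero]
    refine ⟨LinearEquiv.ofInvolutive f hff, fun v w => ?_, funext fun v => ?_⟩
    · show P (f v) (f w) = P v w
      rw [hf, hf]
      simp only [map_add, map_smul, LinearMap.add_apply, LinearMap.smul_apply, smul_eq_mul, h.self,
        h.symm v (L u)]
      linear_combination (c u * P (L u) v * P (L u) w) * h2
    · show Q (f v) = _
      rw [hf, h.add, h.smul, map_smul, smul_eq_mul, h.symm v (L u)]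
      linear_combination (P (L u) v * P (L u) v) * hc u
  refine Nat.card_le_card_of_injective (fun u => (⟨_, hmem u⟩ : pfib Q P)) fun u u' he => ?_
  have he' := congrArg Subtype.val he
  apply Subtype.ext
  by_contra hne
  obtain ⟨w, hw⟩ := hnd _ (sub_ne_zero.2 hne)
  have hv : P (L u.1) (L w) * P (L u.1) (L w) = P (L u'.1) (L w) * P (L u'.1) (L w) :=
    add_left_cancel (congrFun he' (L w))
  refine hw ?_
  rw [h.symm, map_sub, map_sub, LinearMap.sub_apply]
  rcases mul_self_eq_mul_self_iff.1 hv with hv | hv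
  · rw [hv, sub_self]
  · rw [hv, CharTwo.neg_eq, sub_self]

end QuadEven

end H48
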