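import Mathlib
import Cfsg.Agent.H48.MinFull
import Cfsg.Agent.H48.QuadEven

/-!
# The minimal index over the field with two elements
-/

set_option autoImplicit false

namespace H48

namespace MinTwo

open Matrix
open H49 (IsCtr)
open MinIdx

variable {m : ℕ} {F : Type*} [Field F] [Fintype F]
  {K : Subgroup (Matrix.symplecticGroup (Fin m) F)}

local notation "V" => (Fin m ⊕ Fin m → F)
local notation "Sp" => Matrix.symplecticGroup (Fin m) F
local notation "qq" => Fintype.card F

theorem two_cases (h2 : qq = 2) (a : F) : a = 0 ∨ a = 1 := by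
  classical
  by_contra h
  rw [not_or] at h
  have : ({0, 1, a} : Finset F).card = 3 := by
    rw [Finset.card_insert_of_notMem, Finset.card_insert_of_notMem, Finset.card_singleton]
    · simp [Ne.symm h.2]
    · simp [Ne.symm h.1]
  have := Finset.card_le_univ ({0, 1, a} : Finset F)
  omega

theorem two_eq_zero (h2 : qq = 2) : (2 : F) = 0 := by
  have := card_cast_eq_zero (F := F)
  rw [h2] at this
  exact_mod_cast this

theorem eq_one_of_ne (h2 : qq = 2) {a : F} (h : a ≠ 0) : a = 1 := (two_cases h2 a).resolve_left h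

theorem add_eq_zero_self (h2 : qq = 2) (v : V) : v + v = 0 := by
  rw [← two_smul F, two_eq_zero h2, zero_smul]

theorem neg_eq_self (h2 : qq = 2) (v : V) : -v = v := by
  rw [neg_eq_iff_add_eq_zero, add_eq_zero_self h2]

theorem sf_comm (h2 : qq = 2) (u v : V) : sf u v = sf v u := by
  rw [sf_swap v u]
  linear_combination (-(sf v u)) * two_eq_zero h2

theorem isCtr_iff (h2 : qq = 2) {v : V} : IsCtr K v ↔ tv v 1 ∈ K := by
  refine ⟨fun h => h 1, fun h c => ?_⟩
  rcases two_cases h2 c with rfl | rfl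
  · rw [tv_zero]; exact K.one_mem
  · exact h

theorem zPart_bot (h2 : qq = 2) {x : V} (hC : ¬ IsCtr K x) : zPart K x = ⊥ := by
  rw [AddSubgroup.eq_bot_iff_forall]
  intro c hc
  rcases two_cases h2 c with rfl | rfl
  · rfl
  · exact absurd ((isCtr_iff h2).2 (by
      rw [mem_zPart, pu_eq_tv, show -(1 : F) = 1 by linear_combination (-1 : F) * two_eq_zero h2] at hc
      exact hc)) hC

theorem annih_ne {x y : V} (hxy : sf x y = 1) {ψ : AddChar F ℂ} (hψ : ψ.IsPrimitive)
    (hprop : ∃ v ∈ Vp x y, v ∉ iPart K x y) : ∃ j ∈ annih x y ψ (iPart K x y), j ≠ 0 := by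
  by_contra hcon
  simp only [not_exists, not_and, not_not] at hcon
  have h1 := annih_card hxy hψ (iPart K x y) fun i hi => hi.1
  have h2 : Nat.card (annih x y ψ (iPart K x y)) = 1 := by
    rw [Nat.card_eq_one_iff_unique]
    exact ⟨⟨fun a b => Subtype.ext ((hcon _ a.2).trans (hcon _ b.2).symm)⟩, ⟨0⟩⟩
  rw [h2, one_mul] at h1
  obtain ⟨v, hv, hvn⟩ := hprop
  have h3 : (iPart K x y : Set V) = (Vp x y : Set V) :=
    Set.eq_of_subset_of_ncard_le (fun i hi => hi.1) (le_of_eq h1.symm) (Set.toFinite _)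
  exact hvn (show v ∈ (iPart K x y : Set V) by rw [h3]; exact hv)

/-- A point with proper image gives a large index. -/
theorem bound_proper (h2 : qq = 2) {x y : V} (hxy : sf x y = 1) (hC : ¬ IsCtr K x)
    (hprop : ∃ v ∈ Vp x y, v ∉ iPart K x y) : 2 * 2 ^ (2 * m - 2) ≤ K.index := by
  classical
  have hx : x ≠ 0 := fun h => by simp [h] at hxy
  obtain ⟨ψ, hψ⟩ := exists_psi (F := F) (K := ℂ) (by
    rw [ringChar.eq ℂ 0]
    exact (CharP.char_ne_zero_of_finite F (ringChar F)).symm)
  obtain ⟨j, hj, hj0⟩ := annih_ne hxy hψ hprop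
  set J := annih x y ψ (iPart K x y) with hJ
  set I := iPart K x y with hI
  set S := (lev1 x y ⊓ fixFam (fun _ : Unit => j) : Subgroup Sp) with hS
  have h1 := master (K := K) hxy
  rw [zPart_bot h2 hC, AddSubgroup.card_bot, one_mul, card_Vp hxy, h2] at h1
  have hlam : Nat.card (lamSet K x y) ≤ 1 := by
    refine Finite.card_le_one_iff_subsingleton.2 ⟨fun a b => Subtype.ext ?_⟩
    rw [eq_one_of_ne h2 (lamSet_spec hxy a.2).1, eq_one_of_ne h2 (lamSet_spec hxy b.2).1]
  have h2' := lev1_card_ge hxy hj.1 hj0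
  rw [h2] at h2'
  have h3 := annih_card hxy hψ I fun i hi => hi.1
  rw [card_Vp hxy, h2] at h3
  have horb : Nat.card (gamPart K x y) ≤ (Nat.card J - 1) * Nat.card S := by
    have e : Nat.card ((J : Set V) \ {0} : Set V) = Nat.card J - 1 := by
      rw [Nat.card_coe_set_eq, Set.ncard_sdiff_singleton_of_mem J.zero_mem]
      rfl
    rw [← e]
    refine (card_le_orbit_mul (gamPart K x y) ((J : Set V) \ {0}) fun g hg =>
      ⟨annih_smul hg.2 (fun i hi => gamPart_smul_iPart (inv_mem hg) hi) hj,
        fun h => hj0 ((smul_eq_zero_iff_eq g).1 h)⟩).trans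
      (Nat.mul_le_mul_left _ (Subgroup.card_le_of_le (inf_le_inf_right _ inf_le_right)))
  have hSpos : 0 < Nat.card S := Nat.card_pos
  have hIpos : 0 < Nat.card I := Nat.card_pos
  have hX : 0 < 2 ^ (2 * m - 2) - 1 := by
    have hj1 : 2 ≤ Nat.card J := by
      haveI : Nontrivial J := ⟨⟨⟨j, hj⟩, 0, fun h => hj0 (congrArg Subtype.val h)⟩⟩
      exact Finite.one_lt_card
    have : 2 ≤ 2 ^ (2 * m - 2) := h3 ▸ le_trans hj1 (Nat.le_mul_of_pos_right _ hIpos)
    omega
  have hIJ : Nat.card I * (Nat.card J - 1) ≤ 2 ^ (2 * m - 2) - 1 := by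
    rw [Nat.mul_sub, mul_one, mul_comm, h3]
    omega
  refine Nat.le_of_mul_le_mul_right ?_ (Nat.mul_pos hX hSpos)
  calc 2 * 2 ^ (2 * m - 2) * ((2 ^ (2 * m - 2) - 1) * Nat.card S)
      ≤ 2 * (2 - 1) * (2 ^ (2 * m - 2) * Nat.card (lev1 x y)) := by
        rw [show 2 * (2 - 1) = 2 from rfl, mul_assoc]
        gcongr
    _ ≤ Nat.card (lamSet K x y) * (K.index * (Nat.card I * Nat.card (gamPart K x y))) := h1
    _ ≤ 1 * (K.index * (Nat.card I * ((Nat.card J - 1) * Nat.card S))) := by gcongr
    _ = K.index * (Nat.card I * (Nat.card J - 1) * Nat.card S) := by ring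
    _ ≤ _ := by gcongr

/-- All points outside the centres have full image. -/
def Full (K : Subgroup (Matrix.symplecticGroup (Fin m) F)) : Prop :=
  ∀ x : V, x ≠ 0 → ¬ IsCtr K x → ∀ v : V, sf x v = 0 → ∃ c, pu x v c ∈ K

theorem full_of_not_bound (h2 : qq = 2) (h : K.index < 2 * 2 ^ (2 * m - 2)) : Full K := by
  intro x hx hC v hv
  obtain ⟨z, hz⟩ := exists_sf_ne hx
  obtain ⟨y, hxy⟩ : ∃ y, sf x y = 1 :=
    ⟨(sf x z)⁻¹ • z, by rw [map_smul, smul_eq_mul, inv_mul_cancel₀ hz]⟩
  have hall : ∀ w ∈ Vp x y, w ∈ iPart K x y := by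
    by_contra hcon
    simp only [not_forall] at hcon
    obtain ⟨w, hw, hwn⟩ := hcon
    exact (h.trans_le (bound_proper h2 hxy hC ⟨w, hw, hwn⟩)).false
  have hw : v + sf y v • x ∈ Vp x y := by
    refine ⟨?_, ?_⟩
    · show sf x _ = 0
      simp [hv]
    · show sf y _ = 0
      rw [map_add, map_smul, sf_swap x y, hxy, smul_eq_mul]; ring
  obtain ⟨-, c, hc⟩ := hall _ hw
  refine ⟨c + 2 * sf y v, ?_⟩
  convert hc using 1
  refine sp_ext fun u => ?_
  rw [pu_smul hv, pu_smul (by simp [hv])]
  simp only [map_add, map_smul, LinearMap.add_apply, LinearMap.smul_apply, smul_eq_mul]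
  match_scalars <;> ring

variable (h2 : Fintype.card F = 2) (hfull : Full K)

include h2

theorem unique_c {x v : V} (hC : ¬ IsCtr K x) (hv : sf x v = 0) {c c' : F}
    (h : pu x v c ∈ K) (h' : pu x v c' ∈ K) : c = c' := by
  have h1 := K.mul_mem h (K.inv_mem h')
  rw [pu_inv hv, pu_mul hv (by rw [map_neg, hv, neg_zero]), map_neg, sf_self, neg_zero, add_zero,
    add_neg_cancel] at h1
  have := (AddSubgroup.eq_bot_iff_forall _).1 (zPart_bot h2 hC) _ (mem_zPart.2 h1)
  exact sub_eq_zero.1 (by rw [sub_eq_add_neg]; exact this)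

omit h2 in
open Classical in
/-- The chosen scalar. -/
noncomputable def cf (K : Subgroup (Matrix.symplecticGroup (Fin m) F)) (x v : V) : F :=
  if h : ∃ c, pu x v c ∈ K then h.choose else 0

include hfull

theorem cf_mem {x v : V} (hx : x ≠ 0) (hC : ¬ IsCtr K x) (hv : sf x v = 0) : pu x v (cf K x v) ∈ K := by
  have h := hfull x hx hC v hv
  rw [cf, dif_pos h]
  exact h.choose_spec

theorem cf_add {x v w : V} (hx : x ≠ 0) (hC : ¬ IsCtr K x) (hv : sf x v = 0) (hw : sf x w = 0) :
    cf K x (v + w) = cf K x v + cf K x w + sf v w := by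
  have h1 := K.mul_mem (cf_mem h2 hfull hx hC hv) (cf_mem h2 hfull hx hC hw)
  rw [pu_mul hv hw] at h1
  exact unique_c h2 hC (by rw [map_add, hv, hw, add_zero])
    (cf_mem h2 hfull hx hC (by rw [map_add, hv, hw, add_zero])) h1

/-- The product of the three transvections of an isotropic line. -/
theorem pu_eq_tv3 {u v : V} (huv : sf v u = 0) :
    pu v u 0 = tv v 1 * tv u 1 * tv (v + u) 1 := by
  have huv' := sf_eq_zero_comm huv
  refine sp_ext fun z => ?_
  simp only [pu_smul huv, mul_smul, tv_smul]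
  simp only [map_add, map_smul, LinearMap.add_apply, LinearMap.smul_apply, smul_eq_mul, sf_self, huv, huv',
    sf_comm h2 z v, sf_comm h2 z u]
  match_scalars <;>
    first
      | ring1
      | linear_combination (-(sf v z)) * two_eq_zero h2
      | linear_combination (-(sf u z)) * two_eq_zero h2
      | linear_combination (sf v z) * two_eq_zero h2
      | linear_combination (sf u z) * two_eq_zero h2

theorem cf_symm {u v : V} (hu : u ≠ 0) (hv : v ≠ 0) (huC : ¬ IsCtr K u) (hvC : ¬ IsCtr K v)
    (huv : sf v u = 0) : cf K v u = cf K u v := by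
  have huv' := sf_eq_zero_comm huv
  have e : pu v u 0 = pu u v 0 := sp_ext fun z => by
    rw [pu_smul huv, pu_smul huv']; module
  have h1 := cf_mem h2 hfull hv hvC huv
  have h1' := cf_mem h2 hfull hu huC huv'
  rcases two_cases h2 (cf K v u) with hc | hc
  · rw [hc, e] at h1
    rw [hc, unique_c h2 huC huv' h1' h1]
  · rcases two_cases h2 (cf K u v) with hc' | hc'
    · rw [hc', ← e] at h1'
      exact absurd (hc ▸ unique_c h2 hvC huv h1 h1') one_ne_zero
    · rw [hc, hc']

open Classical in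
/-- The indicator of the centres. -/
noncomputable def Qc (K : Subgroup (Matrix.symplecticGroup (Fin m) F)) (v : V) : F :=
  if v ≠ 0 ∧ IsCtr K v then 1 else 0

omit h2 hfull in
theorem Qc_eq_one {v : V} : Qc K v = 1 ↔ v ≠ 0 ∧ IsCtr K v := by
  rw [Qc]
  split_ifs with h <;> simp [h]

omit h2 hfull in
theorem Qc_eq_zero {v : V} : Qc K v = 0 ↔ ¬ (v ≠ 0 ∧ IsCtr K v) := by
  rw [Qc]
  split_ifs with h <;> simp [h]

omit hfull in
theorem ctr_sum {u v : V} (hu : IsCtr K u) (hv : IsCtr K v) (h : sf u v ≠ 0) : IsCtr K (u + v) := by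
  have := hu.add_smul_of_ne hv h 1
  rwa [one_smul] at this

theorem cf_of_ctr {u v : V} (hv : v ≠ 0) (hvC : ¬ IsCtr K v) (huC : IsCtr K u) (huv : sf v u = 0) :
    cf K v u = Qc K (u + v) := by
  have h1 := cf_mem h2 hfull hv hvC huv
  have hne : u + v ≠ 0 := fun h => hvC (by
    rw [show v = u by rw [eq_neg_of_add_eq_zero_right h, neg_eq_self h2]]
    exact huC)
  have e : pu v u 1 = pu v u 0 * tv v 1 := by
    have : pu v 0 1 = tv v 1 := by
      rw [pu_eq_tv, show -(1 : F) = 1 by linear_combination (-1 : F) * two_eq_zero h2]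
    rw [← this, pu_mul huv (map_zero _), map_zero, add_zero, add_zero, zero_add]
  by_cases hs : IsCtr K (u + v)
  · rw [Qc_eq_one.2 ⟨hne, hs⟩]
    refine eq_one_of_ne h2 fun hc => hvC ((isCtr_iff h2).2 ?_)
    rw [hc, pu_eq_tv3 h2 hfull huv] at h1
    have h3 := K.mul_mem (K.mul_mem h1 (K.inv_mem ((add_comm v u) ▸ hs 1))) (K.inv_mem (huC 1))
    rwa [mul_inv_cancel_right, mul_inv_cancel_right] at h3
  · rw [Qc_eq_zero.2 fun h => hs h.2]
    by_contra hc
    rw [eq_one_of_ne h2 hc, e, pu_eq_tv3 h2 hfull huv] at h1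
    apply hs
    refine (isCtr_iff h2).2 ?_
    -- the transvections along an isotropic line commute
    have hcom : tv (v + u) 1 * tv v 1 = tv v 1 * tv (v + u) 1 := by
      rw [← mul_inv_eq_iff_eq_mul, tv_conj, tv_smul]
      simp [huv, sf_eq_zero_comm huv]
    have hcom2 : tv u 1 * tv v 1 = tv v 1 * tv u 1 := by
      rw [← mul_inv_eq_iff_eq_mul, tv_conj, tv_smul, huv]
      simp
    have hvv : tv v (1 : F) * tv v 1 = 1 := by rw [tv_mul, ← two_mul, mul_one, two_eq_zero h2, tv_zero]
    have e2 : tv v 1 * tv u 1 * tv (v + u) 1 * tv v 1 = tv u 1 * tv (v + u) 1 := by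
      rw [mul_assoc _ (tv (v + u) 1), hcom, ← mul_assoc, mul_assoc (tv v 1), hcom2, ← mul_assoc (tv v 1),
        hvv, one_mul]
    rw [e2] at h1
    have := K.mul_mem (K.inv_mem (huC 1)) h1
    rwa [inv_mul_cancel_left, add_comm] at this

/-- Every hyperbolic line meets the centres. -/
theorem no_line (hm : 3 ≤ m) {e f : V} (hef : sf e f = 1) (he : ¬ IsCtr K e) (hf : ¬ IsCtr K f) :
    IsCtr K (e + f) := by
  by_contra hg
  have he0 : e ≠ 0 := fun h => by simp [h] at hef
  have hf0 : f ≠ 0 := fun h => by simp [h] at hef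
  have hg0 : e + f ≠ 0 := fun h => by
    have := congrArg (sf e) h
    simp [hef] at this
  set L := Vp e f with hL
  have hperp : ∀ u ∈ L, sf e u = 0 ∧ sf f u = 0 ∧ sf (e + f) u = 0 := fun u hu =>
    ⟨hu.1, hu.2, by rw [map_add, LinearMap.add_apply, hu.1, hu.2, add_zero]⟩
  let S : V → F := fun u => cf K e u + cf K f u + cf K (e + f) u
  have hSadd : ∀ u ∈ L, ∀ w ∈ L, S (u + w) = S u + S w + sf u w := by
    intro u hu w hw
    obtain ⟨a1, a2, a3⟩ := hperp u hu
    obtain ⟨b1, b2, b3⟩ := hperp w hw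
    simp only [S, cf_add h2 hfull he0 he a1 b1, cf_add h2 hfull hf0 hf a2 b2, cf_add h2 hfull hg0 hg a3 b3]
    linear_combination (sf u w) * two_eq_zero h2
  have hD : ∀ u ∈ L, u ≠ 0 → ¬ IsCtr K u → S u = 1 := by
    intro u hu hu0 huC
    obtain ⟨a1, a2, a3⟩ := hperp u hu
    simp only [S, cf_symm h2 hfull hu0 he0 huC he a1, cf_symm h2 hfull hu0 hf0 huC hf a2,
      cf_symm h2 hfull hu0 hg0 huC hg a3]
    rw [cf_add h2 hfull hu0 huC (sf_eq_zero_comm a1) (sf_eq_zero_comm a2), hef]
    linear_combination (cf K u e + cf K u f) * two_eq_zero h2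
  have hCv : ∀ u ∈ L, IsCtr K u → S u = Qc K (u + e) + Qc K (u + f) + Qc K (u + (e + f)) := by
    intro u hu huC
    obtain ⟨a1, a2, a3⟩ := hperp u hu
    simp only [S, cf_of_ctr h2 hfull he0 he huC a1, cf_of_ctr h2 hfull hf0 hf huC a2,
      cf_of_ctr h2 hfull hg0 hg huC a3]
  have hpair : ∀ u ∈ L, IsCtr K u → ∀ a b : V, sf a u = 0 → sf b u = 0 → sf a b = 1 →
      ¬ IsCtr K (a + b) → ¬ (IsCtr K (u + a) ∧ IsCtr K (u + b)) := by
    rintro u - huC a b ha hb hab hn ⟨h1, h1'⟩
    apply hn
    have := ctr_sum h2 h1 h1' (by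
      simp only [map_add, LinearMap.add_apply, sf_self, sf_eq_zero_comm hb, ha, hab]
      simp)
    rwa [show u + a + (u + b) = a + b + (u + u) by abel, add_eq_zero_self h2, add_zero] at this
  -- singular vectors
  have hsing : ∀ u ∈ L, u ≠ 0 → S u = 0 → IsCtr K u ∧ ¬ IsCtr K (u + e) ∧ ¬ IsCtr K (u + f) ∧
      ¬ IsCtr K (u + (e + f)) := by
    intro u hu hu0 hS
    have huC : IsCtr K u := by
      by_contra h
      rw [hD u hu hu0 h] at hS
      exact one_ne_zero hS
    obtain ⟨a1, a2, a3⟩ := hperp u hu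
    have p1 := hpair u hu huC e f a1 a2 hef hg
    have p2 := hpair u hu huC e (e + f) a1 a3 (by simp [hef]) (by
      rwa [show e + (e + f) = f + (e + e) by abel, add_eq_zero_self h2, add_zero])
    have p3 := hpair u hu huC f (e + f) a2 a3 (by
      rw [map_add, sf_self, sf_comm h2 f e, hef, add_zero]) (by
      rwa [show f + (e + f) = e + (f + f) by abel, add_eq_zero_self h2, add_zero])
    have hne : ∀ a, sf a u = 0 → ¬ IsCtr K a → u + a ≠ 0 := fun a ha haC h => haC (by
      rw [eq_neg_of_add_eq_zero_right h, neg_eq_self h2]; exact huC)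
    have n1 := hne e a1 he
    have n2 := hne f a2 hf
    have n3 := hne (e + f) a3 hg
    rw [hCv u hu huC] at hS
    by_cases c1 : IsCtr K (u + e) <;> by_cases c2 : IsCtr K (u + f) <;>
      by_cases c3 : IsCtr K (u + (e + f)) <;> simp [Qc, c1, c2, c3, n1, n2, n3] at hS p1 p2 p3 ⊢
    all_goals exact huC
  -- two non-orthogonal singular vectors
  obtain ⟨a, ha, b, hb, ha0, hb0, hab0, hab⟩ : ∃ a ∈ L, ∃ b ∈ L, a ≠ 0 ∧ b ≠ 0 ∧ a + b ≠ 0 ∧ sf a b = 0 := by
    obtain ⟨a, ha, ha0⟩ := Vp_ne_zero (by omega) hef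
    obtain ⟨a', ha', haa⟩ := Vp_exists_ne hef ha ha0
    by_contra hcon
    have hle : L ≤ Submodule.span F {a, a'} := by
      intro v hv
      set w := v - sf a v • a' with hw
      have hwL : w ∈ L := sub_mem hv (Submodule.smul_mem _ _ ha')
      have hwa : sf a w = 0 := by simp [hw, haa]
      have hwspan : w ∈ Submodule.span F {a, a'} := by
        by_cases hw0 : w = 0
        · rw [hw0]; exact Submodule.zero_mem _
        by_cases hws : a + w = 0
        · rw [eq_neg_of_add_eq_zero_right hws]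
          exact Submodule.neg_mem _ (Submodule.subset_span (Or.inl rfl))
        exact absurd ⟨a, ha, w, hwL, ha0, hw0, hws, hwa⟩ hcon
      have : v = w + sf a v • a' := by rw [hw, sub_add_cancel]
      rw [this]
      exact add_mem hwspan (Submodule.smul_mem _ _ (Submodule.subset_span (Or.inr rfl)))
    classical
    have h1 := (Submodule.finrank_mono hle).trans (finrank_span_le_card _)
    have h5 := card_Vp hef
    rw [card_submodule] at h5
    have h6 := Nat.pow_right_injective (Fintype.one_lt_card (α := F)) h5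
    have h7 : ({a, a'} : Set V).toFinset.card ≤ 2 := by
      rw [Set.toFinset_insert, Set.toFinset_singleton]; exact Finset.card_le_two
    rw [← hL] at h6
    omega
  obtain ⟨u, hu, hu0, huS⟩ : ∃ u ∈ L, u ≠ 0 ∧ S u = 0 := by
    rcases two_cases h2 (S a) with h | h
    · exact ⟨a, ha, ha0, h⟩
    rcases two_cases h2 (S b) with h' | h'
    · exact ⟨b, hb, hb0, h'⟩
    refine ⟨a + b, add_mem ha hb, hab0, ?_⟩
    rw [hSadd a ha b hb, hab, h, h', add_zero]
    linear_combination two_eq_zero h2
  obtain ⟨w', hw', huw⟩ := Vp_exists_ne hef hu hu0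
  obtain ⟨w, hw, huw, hwS⟩ : ∃ w ∈ L, sf u w = 1 ∧ S w = 0 := by
    rcases two_cases h2 (S w') with h | h
    · exact ⟨w', hw', huw, h⟩
    refine ⟨w' + u, add_mem hw' hu, by rw [map_add, huw, sf_self, add_zero], ?_⟩
    rw [hSadd w' hw' u hu, h, huS, sf_comm h2, huw]
    linear_combination two_eq_zero h2
  have hw0 : w ≠ 0 := fun h => by simp [h] at huw
  obtain ⟨huC, hu1, hu2, hu3⟩ := hsing u hu hu0 huS
  obtain ⟨hwC, hw1, hw2, hw3⟩ := hsing w hw hw0 hwS
  have hrC : IsCtr K (u + w) := ctr_sum h2 huC hwC (by rw [huw]; exact one_ne_zero)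
  have hbad : ∀ z, sf z u = 0 → IsCtr K (u + w + z) → IsCtr K (w + z) := by
    intro z hz h
    have := ctr_sum h2 h huC (by
      simp only [map_add, LinearMap.add_apply, sf_self, hz, add_zero, zero_add]
      rw [sf_comm h2, huw]; exact one_ne_zero)
    rwa [show u + w + z + u = w + z + (u + u) by abel, add_eq_zero_self h2, add_zero] at this
  have hr1 : S (u + w) = 1 := by rw [hSadd u hu w hw, huS, hwS, huw]; ring
  rw [hCv _ (add_mem hu hw) hrC] at hr1
  obtain ⟨a1, a2, a3⟩ := hperp u hu
  have z1 : Qc K (u + w + e) = 0 := Qc_eq_zero.2 fun h => hw1 (hbad e a1 h.2)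
  have z2 : Qc K (u + w + f) = 0 := Qc_eq_zero.2 fun h => hw2 (hbad f a2 h.2)
  have z3 : Qc K (u + w + (e + f)) = 0 := Qc_eq_zero.2 fun h => hw3 (hbad (e + f) a3 h.2)
  rw [z1, z2, z3] at hr1
  simp at hr1

theorem Qc_adj (hm : 3 ≤ m) {u v : V} (h : sf u v = 1) : Qc K (u + v) = Qc K u + Qc K v + 1 := by
  have hu0 : u ≠ 0 := fun h' => by simp [h'] at h
  have hv0 : v ≠ 0 := fun h' => by simp [h'] at h
  have hs0 : u + v ≠ 0 := fun h' => by
    have := congrArg (sf u) h'
    simp [h] at this
  have hne : sf u v ≠ 0 := by rw [h]; exact one_ne_zero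
  have hback : IsCtr K (u + v) → IsCtr K u → IsCtr K v := fun a b => by
    have := ctr_sum h2 a b (by
      rw [map_add, LinearMap.add_apply, sf_self, zero_add, sf_comm h2 v u]; exact hne)
    rwa [show u + v + u = v + (u + u) by abel, add_eq_zero_self h2, add_zero] at this
  have hback' : IsCtr K (u + v) → IsCtr K v → IsCtr K u := fun a b => by
    have := ctr_sum h2 a b (by
      rw [map_add, LinearMap.add_apply, sf_self, add_zero]; exact hne)
    rwa [add_assoc, add_eq_zero_self h2, add_zero] at this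
  have h20 := two_eq_zero (F := F) h2
  by_cases hu : IsCtr K u <;> by_cases hv : IsCtr K v
  · simp [Qc, hu, hv, hu0, hv0, hs0, ctr_sum h2 hu hv hne]
    first | linear_combination h20 | linear_combination (-1 : F) * h20
  · have hs : ¬ IsCtr K (u + v) := fun a => hv (hback a hu)
    simp [Qc, hu, hv, hu0, hv0, hs0, hs]
    linear_combination (-1 : F) * h20
  · have hs : ¬ IsCtr K (u + v) := fun a => hu (hback' a hv)
    simp [Qc, hu, hv, hu0, hv0, hs0, hs]
    linear_combination (-1 : F) * h20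
  · simp [Qc, hu, hv, hu0, hv0, hs0, no_line h2 hfull hm h hu hv]

/-- The centres form the non-singular vectors of a quadratic form, or of a linear form. -/
theorem dichotomy (hm : 3 ≤ m) :
    (∀ u v : V, Qc K (u + v) = Qc K u + Qc K v + sf u v) ∨
      ∃ a : V, ∀ v : V, v ≠ 0 → Qc K v = 1 + sf v a := by
  classical
  have h20 := two_eq_zero (F := F) h2
  have hQ0 : Qc K (0 : V) = 0 := Qc_eq_zero.2 fun h => h.1 rfl
  let g : V → V → F := fun u v => Qc K (u + v) + Qc K u + Qc K v + sf u v
  have hgs : ∀ u v, g u v = g v u := fun u v => by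
    simp only [g, add_comm u v, sf_comm h2 u v]; ring
  have hg1 : ∀ u v, sf u v = 1 → g u v = 0 := fun u v h => by
    simp only [g, Qc_adj h2 hfull hm h, h]
    linear_combination (Qc K u + Qc K v + 1) * h20
  have hcoc : ∀ u v w, g u v + g (u + v) w = g u (v + w) + g v w := fun u v w => by
    simp only [g, map_add, LinearMap.add_apply, add_assoc]
    linear_combination (Qc K (u + v) - Qc K (v + w)) * h20
  have hrel : ∀ u v w, sf u v = 0 → sf u w = 0 → sf v w = 1 → g u v = g u (v + w) := fun u v w _ h1 h3 => by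
    have := hcoc u v w
    rwa [hg1 (u + v) w (by rw [map_add, LinearMap.add_apply, h1, h3, zero_add]), hg1 v w h3, add_zero,
      add_zero] at this
  have hrel' : ∀ u v v', sf u v = 0 → sf u v' = 0 → sf v v' = 1 → g u v = g u v' := fun u v v' a b c => by
    have := hrel u v (v + v') a (by rw [map_add, a, b, add_zero]) (by rw [map_add, sf_self, c, zero_add])
    rwa [← add_assoc, add_eq_zero_self h2, zero_add] at this
  -- `g u ·` is constant
  have hconst : ∀ u v v', sf u v = 0 → sf u v' = 0 → v ∉ Submodule.span F {u} →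
      v' ∉ Submodule.span F {u} → g u v = g u v' := by
    intro u v v' a b hv hv'
    obtain ⟨w, hw, hvw, hv'w⟩ := exists_sep₂ hv hv'
    have huw := hw u (Submodule.mem_span_singleton_self u)
    rw [hrel' u v w a huw (eq_one_of_ne h2 hvw), hrel' u v' w b huw (eq_one_of_ne h2 hv'w)]
  have hsp : ∀ u v : V, v ≠ 0 → u ≠ v → v ∉ Submodule.span F {u} := by
    intro u v hv huv h
    obtain ⟨t, ht⟩ := Submodule.mem_span_singleton.1 h
    rcases two_cases h2 t with rfl | rfl
    · exact hv (by rw [← ht, zero_smul])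
    · exact huv (by rw [← ht, one_smul])
  -- all values agree
  have hall : ∀ u v u' v' : V, u ≠ 0 → v ≠ 0 → u ≠ v → sf u v = 0 → u' ≠ 0 → v' ≠ 0 → u' ≠ v' →
      sf u' v' = 0 → g u v = g u' v' := by
    intro u v u' v' hu hv huv a hu' hv' huv' b
    obtain ⟨w, hwu, hwu', hw0, hwne, hwne'⟩ :
        ∃ w : V, sf u w = 0 ∧ sf u' w = 0 ∧ w ≠ 0 ∧ u ≠ w ∧ u' ≠ w := by
      by_contra hcon
      simp only [not_exists, not_and, not_not] at hcon
      let P : Submodule F V := LinearMap.ker (sf u) ⊓ LinearMap.ker (sf u')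
      have hle : P ≤ Submodule.span F {u, u'} := by
        intro w hw
        obtain ⟨hw1, hw2⟩ := hw
        by_cases h0 : w = 0
        · rw [h0]; exact Submodule.zero_mem _
        by_cases h1 : u = w
        · rw [← h1]; exact Submodule.subset_span (Or.inl rfl)
        rw [← hcon w hw1 hw2 h0 h1]
        exact Submodule.subset_span (Or.inr rfl)
      have h1 := (Submodule.finrank_mono hle).trans (finrank_span_le_card _)
      have h7 : ({u, u'} : Set V).toFinset.card ≤ 2 := by
        rw [Set.toFinset_insert, Set.toFinset_singleton]; exact Finset.card_le_two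
      have h8 := LinearMap.finrank_range_add_finrank_ker ((sf u).prod (sf u'))
      rw [LinearMap.ker_prod, Module.finrank_pi, Fintype.card_sum, Fintype.card_fin] at h8
      have h9 := Submodule.finrank_le (LinearMap.range ((sf u).prod (sf u')))
      rw [Module.finrank_prod, Module.finrank_self] at h9
      change Module.finrank F ↥P ≤ _ at h1
      change _ + Module.finrank F ↥P = _ at h8
      omega
    have h1 := hconst u v w a hwu (hsp u v hv huv) (hsp u w hw0 hwne)
    have h2' := hconst u' v' w b hwu' (hsp u' v' hv' huv') (hsp u' w hw0 hwne')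
    have h3 : g w u = g w u' := by
      by_cases huu : u = u'
      · rw [huu]
      exact hconst w u u' (sf_eq_zero_comm hwu) (sf_eq_zero_comm hwu') (hsp w u hu hwne.symm)
        (hsp w u' hu' hwne'.symm)
    rw [h1, h2', hgs u w, hgs u' w, h3]
  by_cases hz : ∀ u v : V, u ≠ 0 → v ≠ 0 → u ≠ v → sf u v = 0 → g u v = 0
  · left
    intro u v
    rcases two_cases h2 (sf u v) with h | h
    · rw [h, add_zero]
      by_cases hu : u = 0
      · rw [hu, zero_add, hQ0, zero_add]
      by_cases hv : v = 0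
      · rw [hv, add_zero, hQ0, add_zero]
      by_cases huv : u = v
      · rw [← huv, add_eq_zero_self h2, hQ0]
        linear_combination (-(Qc K u)) * h20
      have := hz u v hu hv huv h
      simp only [g, h, add_zero] at this
      linear_combination this - (Qc K u + Qc K v) * h20
    · rw [h]; exact Qc_adj h2 hfull hm h
  · right
    simp only [not_forall] at hz
    obtain ⟨u₀, v₀, hu₀, hv₀, huv₀, h₀, hne⟩ := hz
    let φ : V →ₗ[F] F :=
      { toFun := fun v => if v = 0 then 0 else Qc K v + 1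
        map_add' := fun u v => by
          by_cases hu : u = 0
          · simp [hu]
          by_cases hv : v = 0
          · simp [hv]
          by_cases huv : u = v
          · rw [← huv, add_eq_zero_self h2]
            simp only [if_true, hu, if_false]
            linear_combination (-(Qc K u + 1)) * h20
          have hs : u + v ≠ 0 := fun h => huv (by rw [eq_neg_of_add_eq_zero_left h, neg_eq_self h2])
          simp only [hu, hv, hs, if_false]
          rcases two_cases h2 (sf u v) with h | h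
          · have h' : g u v = 1 := by
              rw [hall u v u₀ v₀ hu hv huv h hu₀ hv₀ huv₀ h₀]
              exact eq_one_of_ne h2 hne
            simp only [g, h, add_zero] at h'
            linear_combination h' - (Qc K u + Qc K v) * h20
          · rw [Qc_adj h2 hfull hm h]; ring
        map_smul' := fun t v => by
          rcases two_cases h2 t with rfl | rfl <;> simp }
    obtain ⟨a, ha⟩ := exists_sf_eq φ
    refine ⟨a, fun v hv => ?_⟩
    rw [ha v, show φ v = Qc K v + 1 from if_neg hv]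
    linear_combination (-1 : F) * h20

omit hfull

omit h2 in
theorem Qc_smul {g : Sp} (hg : g ∈ K) (v : V) : Qc K (g • v) = Qc K v := by
  classical
  by_cases h : v ≠ 0 ∧ IsCtr K v
  · rw [Qc_eq_one.2 h, Qc_eq_one.2 ⟨fun e => h.1 ((smul_eq_zero_iff_eq g).1 e), h.2.group_smul hg⟩]
  · rw [Qc_eq_zero.2 h, Qc_eq_zero.2 fun e => h ⟨fun e' => e.1 (by rw [e', smul_zero]), by
      have := e.2.group_smul (K.inv_mem hg)
      rwa [inv_smul_smul] at this⟩]

omit h2 in
/-- Orbit bound for a subgroup in terms of an invariant. -/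
theorem card_image_le_index {X : Type*} (φ : Sp → X)
    (hφ : ∀ g h : Sp, g⁻¹ * h ∈ K → φ g = φ h) : Nat.card (Set.range φ) ≤ K.index := by
  rw [Subgroup.index_eq_card]
  refine Nat.card_le_card_of_surjective
    (fun c : Sp ⧸ K => (⟨φ c.out, Set.mem_range_self _⟩ : Set.range φ)) ?_
  rintro ⟨_, g, rfl⟩
  refine ⟨(g : Sp ⧸ K), Subtype.ext (hφ _ _ ?_)⟩
  exact QuotientGroup.eq.1 (QuotientGroup.out_eq' (g : Sp ⧸ K))

theorem count_zeros {Q : V → F} (hQ : ∀ u v : V, Q (u + v) = Q u + Q v + sf u v) :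
    4 ^ m - 2 ^ m ≤ 2 * Nat.card {a : V // Q a = 0} := by
  classical
  haveI : CharP F 2 := CharTwo.of_one_ne_zero_of_two_eq_zero one_ne_zero (two_eq_zero h2)
  have hQ0 : Q 0 = 0 := by
    have := hQ 0 0
    simp at this
    linear_combination this
  have hq : QuadEven.IsQuad Q (sf : V →ₗ[F] V →ₗ[F] F) :=
    ⟨hQ, fun a v => by rcases two_cases h2 a with rfl | rfl <;> simp [hQ0], fun v => sf_self v⟩
  have hr : Fintype.card V = 2 ^ m * 2 ^ m := by
    rw [Fintype.card_fun, h2, Fintype.card_sum, Fintype.card_fin, pow_add]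
  have h1 := QuadEven.count_theta hq (fun u hu => by
    obtain ⟨w, hw⟩ := exists_sf_ne hu
    exact ⟨w, fun e => hw (sf_eq_zero_comm e)⟩) hr
  refine le_trans ?_ (h1.trans (Nat.mul_le_mul_left _ ?_))
  · rw [← mul_pow]; norm_num
  rw [← Nat.card_eq_finsetCard]
  refine Nat.card_le_card_of_injective (fun a => (⟨a.1, ?_⟩ : {a : V // Q a = 0}))
    fun a b e => Subtype.ext (Subtype.mk.inj e)
  have ha := (Finset.mem_filter.1 a.2).2
  rw [QuadEven.theta] at ha
  split_ifs at ha with h
  · obtain ⟨y, hy⟩ := h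
    rw [← hy]
    rcases two_cases h2 y with rfl | rfl
    · simp
    · linear_combination two_eq_zero h2

/-- The lower bound. -/
theorem bound (hm : 3 ≤ m) (hK : K ≠ ⊤) : 2 ^ (m - 1) * (2 ^ m - 1) ≤ K.index := by
  classical
  have hpow : 4 ^ m = 4 * 2 ^ (2 * m - 2) := by
    rw [show (4 : ℕ) = 2 ^ 2 by norm_num, ← pow_mul, ← pow_add]
    congr 1
    omega
  have hM : 2 * (2 ^ (m - 1) * (2 ^ m - 1)) = 4 ^ m - 2 ^ m := by
    rw [← mul_assoc, ← pow_succ', show m - 1 + 1 = m by omega, Nat.mul_sub, mul_one, ← mul_pow]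
    norm_num
  by_cases hlt : K.index < 2 * 2 ^ (2 * m - 2)
  swap
  · calc 2 ^ (m - 1) * (2 ^ m - 1) ≤ 2 ^ (m - 1) * 2 ^ m := Nat.mul_le_mul_left _ (Nat.sub_le _ _)
      _ = 2 * 2 ^ (2 * m - 2) := by
          rw [← pow_add, ← pow_succ']
          congr 1
          omega
      _ ≤ K.index := not_lt.1 hlt
  rcases dichotomy h2 (full_of_not_bound h2 hlt) hm with hQ | ⟨a, ha⟩
  · have hcount := count_zeros h2 hQ
    have hinj : Nat.card {a : V // Qc K a = 0} ≤ K.index := by
      refine le_trans ?_ (card_image_le_index (K := K) (fun g : Sp => fun v => Qc K (g⁻¹ • v))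
        fun g h hgh => funext fun v => ?_)
      swap
      · have e : g⁻¹ • v = (g⁻¹ * h) • (h⁻¹ • v) := by rw [mul_smul, smul_inv_smul]
        show Qc K (g⁻¹ • v) = Qc K (h⁻¹ • v)
        rw [e, Qc_smul hgh]
      have hval : ∀ a : {a : V // Qc K a = 0},
          (fun v => Qc K ((tv a.1 1 : Sp)⁻¹ • v)) = fun v => Qc K v + sf v a.1 := by
        rintro ⟨a, ha⟩
        funext v
        rw [tv_inv, tv_smul]
        rcases two_cases h2 (sf v a) with h | h
        · simp [h]
        · rw [h, mul_one, show -(1 : F) = 1 by linear_combination (-1 : F) * two_eq_zero h2, one_smul,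
            hQ, ha, h, add_zero]
      refine Nat.card_le_card_of_injective
        (fun a => (⟨_, tv a.1 1, hval a⟩ : Set.range fun g : Sp => fun v => Qc K (g⁻¹ • v)))
        fun a b e => Subtype.ext ?_
      have e' : (fun v => Qc K v + sf v a.1) = fun v => Qc K v + sf v b.1 := congrArg Subtype.val e
      rw [← sub_eq_zero]
      refine eq_zero_of_sf fun z => sf_eq_zero_comm ?_
      rw [map_sub, add_left_cancel (congrFun e' z), sub_self]
    omega
  · by_cases ha0 : a = 0
    · exfalso
      apply hK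
      refine H49.eq_top_of_ctr K fun v => ?_
      by_cases hv : v = 0
      · subst hv
        intro c
        rw [tv_zero_left]; exact K.one_mem
      have := ha v hv
      rw [ha0, map_zero, add_zero] at this
      exact (Qc_eq_one.1 this).2
    have hfix : ∀ g ∈ K, g • a = a := by
      intro g hg
      rw [← sub_eq_zero]
      refine eq_zero_of_sf fun z => sf_eq_zero_comm ?_
      rw [map_sub, sub_eq_zero]
      by_cases hz : z = 0
      · simp [hz]
      have hz' : g⁻¹ • z ≠ 0 := fun e => hz ((smul_eq_zero_iff_eq g⁻¹).1 e)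
      have h3 := ha _ hz'
      rw [Qc_smul (K.inv_mem hg), ha z hz] at h3
      have h4 : sf z (g • a) = sf (g⁻¹ • z) a := by rw [← sf_smul_smul g⁻¹, inv_smul_smul]
      rw [h4, add_left_cancel h3]
    have hinj : 4 ^ m - 1 ≤ K.index := by
      refine le_trans ?_ (card_image_le_index (K := K) (fun g : Sp => g • a) fun g h hgh => ?_)
      swap
      · have := hfix _ hgh
        rw [mul_smul, inv_smul_eq_iff] at this
        exact this.symm
      have e : Nat.card {v : V // v ≠ 0} = 4 ^ m - 1 := by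
        rw [Nat.card_eq_fintype_card, Fintype.card_subtype_compl, Fintype.card_subtype_eq,
          Fintype.card_fun, h2, Fintype.card_sum, Fintype.card_fin, pow_add, ← mul_pow]
        norm_num
      rw [← e]
      refine Nat.card_le_card_of_injective
        (fun v => (⟨v.1, ?_⟩ : Set.range fun g : Sp => g • a)) fun v w h => Subtype.ext (congrArg (fun z => z.1) h)
      obtain ⟨g, -, hg⟩ := witt_vec ha0 v.2
      exact ⟨g, hg⟩
    have : 1 ≤ 2 ^ m := Nat.one_le_pow _ _ (by norm_num)
    omega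

end MinTwo

end H48
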