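import Mathlib
import Cfsg.Agent.H48.MinTwo

/-!
# The stabiliser of a quadratic form of minus type over the field with two elements
-/

set_option autoImplicit false

namespace H48

namespace MinTwo

open Matrix

variable {m : ℕ} {F : Type*} [Field F] [Fintype F] (h2 : Fintype.card F = 2)

local notation "V" => (Fin m ⊕ Fin m → F)
local notation "Sp" => Matrix.symplecticGroup (Fin m) F

omit [Fintype F] in
theorem hyp_polar (h : (2 : F) = 0) (u v : V) :
    ∑ i, (u + v) (Sum.inl i) * (u + v) (Sum.inr i) =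
      (∑ i, u (Sum.inl i) * u (Sum.inr i)) + (∑ i, v (Sum.inl i) * v (Sum.inr i)) + sf u v := by
  rw [sf_apply]
  simp only [← Finset.sum_add_distrib, ← Finset.sum_sub_distrib]
  refine Finset.sum_congr rfl fun i _ => ?_
  simp only [Pi.add_apply]
  first
    | linear_combination (u (Sum.inl i) * v (Sum.inr i)) * h
    | linear_combination (v (Sum.inl i) * u (Sum.inr i)) * h

include h2

theorem zeros_sq {Q : V → F} (hQ : ∀ u v : V, Q (u + v) = Q u + Q v + sf u v) :
    (2 * (Nat.card {a : V // Q a = 0} : ℤ) - 4 ^ m) ^ 2 = 4 ^ m := by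
  classical
  haveI : CharP F 2 := CharTwo.of_one_ne_zero_of_two_eq_zero one_ne_zero (two_eq_zero h2)
  have hQ0 : Q 0 = 0 := by
    have := hQ 0 0
    simp at this
    linear_combination this
  have hq : QuadEven.IsQuad Q (sf : V →ₗ[F] V →ₗ[F] F) :=
    ⟨hQ, fun a v => by rcases two_cases h2 a with rfl | rfl <;> simp [hQ0], fun v => sf_self v⟩
  have h1 := QuadEven.theta_sum_sq hq (fun u hu => by
    obtain ⟨w, hw⟩ := exists_sf_ne hu
    exact ⟨w, fun e => hw (sf_eq_zero_comm e)⟩)
  have e : ∀ v : V, QuadEven.theta (Q v) = 2 * (if Q v = 0 then (1 : ℤ) else 0) - 1 := by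
    intro v
    rw [QuadEven.theta]
    rcases two_cases h2 (Q v) with h | h
    · rw [h, if_pos ⟨0, by simp⟩, if_pos rfl]; norm_num
    · rw [h, if_neg, if_neg one_ne_zero]
      · norm_num
      rintro ⟨y, hy⟩
      rcases two_cases h2 y with rfl | rfl
      · simp at hy
      · exact one_ne_zero (show (1 : F) = 0 by linear_combination two_eq_zero h2 - hy)
  have hcard : (Fintype.card V : ℤ) = 4 ^ m := by
    rw [Fintype.card_fun, h2, Fintype.card_sum, Fintype.card_fin, pow_add, ← mul_pow]
    norm_num
  simp only [e] at h1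
  rw [Finset.sum_sub_distrib, ← Finset.mul_sum, Finset.sum_boole, Finset.sum_const, Finset.card_univ,
    nsmul_eq_mul, mul_one, hcard] at h1
  rw [Nat.card_eq_fintype_card, Fintype.card_subtype, sq]
  exact h1

theorem zeros_shift {Q : V → F} (hQ : ∀ u v : V, Q (u + v) = Q u + Q v + sf u v) (a : V) :
    Nat.card {v : V // Q v + sf v a = 0} = Nat.card {v : V // Q v = Q a} := by
  refine Nat.card_congr (Equiv.subtypeEquiv (Equiv.addRight a) fun v => ?_)
  rw [Equiv.coe_addRight, hQ]
  constructor
  · intro h; linear_combination h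
  · intro h; linear_combination h

theorem zeros_compl (Q : V → F) :
    Nat.card {v : V // Q v = 1} + Nat.card {v : V // Q v = 0} = 4 ^ m := by
  classical
  have e : Nat.card {v : V // Q v = 1} = Nat.card {v : V // ¬ Q v = 0} :=
    Nat.card_congr (Equiv.subtypeEquivRight fun v =>
      ⟨fun h h' => one_ne_zero (h.symm.trans h'), fun h => eq_one_of_ne h2 h⟩)
  rw [e, Nat.card_eq_fintype_card, Nat.card_eq_fintype_card, Fintype.card_subtype_compl]
  rw [Nat.sub_add_cancel (Fintype.card_subtype_le _), Fintype.card_fun, h2, Fintype.card_sum,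
    Fintype.card_fin, pow_add, ← mul_pow]
  norm_num

/-- A form of minus type. -/
theorem exists_minus (hm : 1 ≤ m) : ∃ Q : V → F, (∀ u v : V, Q (u + v) = Q u + Q v + sf u v) ∧
    2 * Nat.card {v : V // Q v = 0} + 2 ^ m = 4 ^ m := by
  let Q₀ : V → F := fun v => ∑ i, v (Sum.inl i) * v (Sum.inr i)
  have hQ₀ : ∀ u v : V, Q₀ (u + v) = Q₀ u + Q₀ v + sf u v := hyp_polar (two_eq_zero h2)
  have h4 : (4 : ℤ) ^ m = (2 ^ m) * (2 ^ m) := by rw [← mul_pow]; norm_num
  have hsq := zeros_sq h2 hQ₀
  rw [h4, ← sq, sq_eq_sq_iff_eq_or_eq_neg] at hsq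
  rcases hsq with h | h
  · obtain ⟨a, ha⟩ : ∃ a : V, Q₀ a = 1 := by
      refine ⟨Pi.single (Sum.inl ⟨0, hm⟩) 1 + Pi.single (Sum.inr ⟨0, hm⟩) 1, ?_⟩
      show ∑ i, _ = (1 : F)
      rw [Finset.sum_eq_single (⟨0, hm⟩ : Fin m) (fun i _ hi => by simp [Pi.single_apply, hi]) (by simp)]
      simp
    refine ⟨fun v => Q₀ v + sf v a, fun u v => by
      simp only [hQ₀, map_add, LinearMap.add_apply]; ring, ?_⟩
    rw [zeros_shift h2 hQ₀ a, ha]
    have h5 := zeros_compl h2 Q₀
    zify at h5 ⊢
    rw [h4] at h5 ⊢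
    linear_combination 2 * h5 - h
  · refine ⟨Q₀, hQ₀, ?_⟩
    zify
    rw [h4]
    linear_combination h

/-- The stabiliser of a quadratic form. -/
theorem exists_stab {Q : V → F} (hQ : ∀ u v : V, Q (u + v) = Q u + Q v + sf u v)
    (hhalf : 2 * Nat.card {v : V // Q v = 0} ≠ 4 ^ m) :
    ∃ H : Subgroup Sp, H.index = Nat.card {v : V // Q v = 0} := by
  classical
  let φ : Sp → (V → F) := fun g v => Q (g⁻¹ • v)
  let H : Subgroup Sp :=
    { carrier := {g | ∀ v, Q (g • v) = Q v}
      mul_mem' := fun {a b} ha hb v => by rw [mul_smul, ha, hb]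
      one_mem' := fun v => by rw [one_smul]
      inv_mem' := fun {a} ha v => by rw [← ha (a⁻¹ • v), smul_inv_smul] }
  refine ⟨H, ?_⟩
  have hcard := card_eq_image_mul_stab (⊤ : Subgroup Sp) H φ le_top (fun g _ h _ => by
    constructor
    · intro e v
      have := congrFun e (h • v)
      simp only [φ, inv_smul_smul] at this
      rw [mul_smul]
      exact this
    · intro e
      funext v
      have := e (h⁻¹ • v)
      rwa [mul_smul, smul_inv_smul] at this)
  rw [Subgroup.card_top, Subgroup.coe_top, Set.image_univ, ← H.index_mul_card] at hcard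
  rw [Nat.eq_of_mul_eq_mul_right Nat.card_pos hcard]
  have hval : ∀ a : V, Q a = 0 → φ (tv a 1) = fun v => Q v + sf v a := by
    intro a ha
    funext v
    show Q ((tv a 1)⁻¹ • v) = _
    rw [tv_inv, tv_smul]
    rcases two_cases h2 (sf v a) with h | h
    · simp [h]
    · rw [h, mul_one, show -(1 : F) = 1 by linear_combination (-1 : F) * two_eq_zero h2, one_smul,
        hQ, ha, h, add_zero]
  symm
  refine Nat.card_eq_of_bijective
    (fun a : {v : V // Q v = 0} => (⟨_, tv a.1 1, hval a.1 a.2⟩ : Set.range φ)) ⟨?_, ?_⟩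
  · intro a b e
    have e' : (fun v => Q v + sf v a.1) = fun v => Q v + sf v b.1 := congrArg Subtype.val e
    refine Subtype.ext (sub_eq_zero.1 (eq_zero_of_sf fun z => sf_eq_zero_comm ?_))
    rw [map_sub, add_left_cancel (congrFun e' z), sub_self]
  · rintro ⟨_, g, rfl⟩
    let D : V →ₗ[F] F :=
      { toFun := fun v => φ g v + Q v
        map_add' := fun u v => by
          simp only [φ, smul_add, hQ, sf_smul_smul]
          linear_combination (sf u v) * two_eq_zero h2
        map_smul' := fun t v => by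
          rcases two_cases h2 t with rfl | rfl
          · have hQ0 : Q 0 = 0 := by
              have := hQ 0 0
              simp at this
              linear_combination this
            simp [φ, hQ0]
          · simp }
    obtain ⟨a, ha⟩ := exists_sf_eq D
    have he : ∀ v, φ g v = Q v + sf v a := fun v => by
      rw [ha v, show D v = φ g v + Q v from rfl]
      linear_combination (-(Q v)) * two_eq_zero h2
    have hz : Nat.card {v : V // Q v = Q a} = Nat.card {v : V // Q v = 0} := by
      rw [← zeros_shift h2 hQ a]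
      refine Nat.card_congr (Equiv.subtypeEquiv (MulAction.toPerm (g⁻¹ : Sp)) fun v => ?_)
      rw [← he v]
      rfl
    rcases two_cases h2 (Q a) with h | h
    · exact ⟨⟨a, h⟩, Subtype.ext (funext fun v => (he v).symm)⟩
    · exfalso
      apply hhalf
      have h5 := zeros_compl h2 Q
      rw [h] at hz
      omega

end MinTwo

end H48
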