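import Mathlib
import Cfsg.Agent.H48.QuadEven

/-!
# The orbit bound for quadratic forms in characteristic two
-/

set_option autoImplicit false

namespace H48

namespace QuadEven

open Finset Matrix

variable {F : Type*} [Field F] [Fintype F] [DecidableEq F]

/-- The linear map `(a, b) ↦ a • x + b • y`. -/
def pairMap {W : Type*} [AddCommGroup W] [Module F W] (x y : W) : (Fin 2 → F) →ₗ[F] W where
  toFun c := c 0 • x + c 1 • y
  map_add' a b := by simp [add_smul]; abel
  map_smul' a b := by simp [smul_smul]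

omit [Fintype F] [DecidableEq F] in
theorem exists_equiv_two {W : Type*} [AddCommGroup W] [Module F W] [FiniteDimensional F W]
    {x y x' y' : W} (h : Function.Injective (pairMap (F := F) x y))
    (h' : Function.Injective (pairMap (F := F) x' y')) : ∃ g : W ≃ₗ[F] W, g x = x' ∧ g y = y' := by
  obtain ⟨C, hC⟩ := Submodule.exists_isCompl (LinearMap.range (pairMap (F := F) x y))
  obtain ⟨C', hC'⟩ := Submodule.exists_isCompl (LinearMap.range (pairMap (F := F) x' y'))
  have e : Module.finrank F C = Module.finrank F C' := by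
    have a := Submodule.finrank_add_eq_of_isCompl hC
    have b := Submodule.finrank_add_eq_of_isCompl hC'
    rw [LinearMap.finrank_range_of_inj h] at a
    rw [LinearMap.finrank_range_of_inj h'] at b
    omega
  let g : W ≃ₗ[F] W := (Submodule.prodEquivOfIsCompl _ _ hC).symm ≪≫ₗ
    (((LinearEquiv.ofInjective _ h).symm ≪≫ₗ (LinearEquiv.ofInjective _ h')).prodCongr
      (LinearEquiv.ofFinrankEq C C' e)) ≪≫ₗ Submodule.prodEquivOfIsCompl _ _ hC'
  have key : ∀ c, g (pairMap (F := F) x y c) = pairMap (F := F) x' y' c := by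
    intro c
    have hs : (Submodule.prodEquivOfIsCompl _ _ hC).symm (pairMap (F := F) x y c)
        = (LinearEquiv.ofInjective _ h c, 0) := by
      rw [LinearEquiv.symm_apply_eq, Submodule.coe_prodEquivOfIsCompl']
      simp
    simp only [g, LinearEquiv.trans_apply, hs, LinearEquiv.prodCongr_apply,
      LinearEquiv.symm_apply_apply, map_zero]
    rw [Submodule.coe_prodEquivOfIsCompl']
    simp
  refine ⟨g, ?_, ?_⟩
  · have := key ![1, 0]
    simpa [pairMap] using this
  · have := key ![0, 1]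
    simpa [pairMap] using this

omit [DecidableEq F] in
theorem card_sl2_le :
    Nat.card {p : (F × F) × (F × F) // p.1.1 * p.2.2 - p.1.2 * p.2.1 = 1} ≤
      Fintype.card F * (Fintype.card F ^ 2 - 1) := by
  classical
  rw [Nat.card_eq_fintype_card, Fintype.card_subtype]
  have hsub : (univ.filter fun p : (F × F) × (F × F) => p.1.1 * p.2.2 - p.1.2 * p.2.1 = 1).image Prod.fst
      ⊆ univ.erase (0, 0) := by
    intro a ha
    obtain ⟨p, hp, rfl⟩ := Finset.mem_image.1 ha
    refine Finset.mem_erase.2 ⟨fun h => ?_, Finset.mem_univ _⟩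
    have := (Finset.mem_filter.1 hp).2
    rw [h] at this
    simp at this
  refine (Finset.card_le_mul_card_image _ (Fintype.card F) fun a ha => ?_).trans (Nat.mul_le_mul_left _
    ((Finset.card_le_card hsub).trans (le_of_eq ?_)))
  · have ha0 := Finset.mem_erase.1 (hsub ha)
    rw [← Finset.card_univ]
    refine Finset.card_le_card_of_injOn (fun p => if a.1 = 0 then p.2.2 else p.2.1)
      (fun _ _ => Finset.mem_univ _) ?_
    rintro ⟨⟨p, r⟩, ⟨s, t⟩⟩ hp ⟨⟨p', r'⟩, ⟨s', t'⟩⟩ hp' he
    simp only [Finset.coe_filter, Finset.mem_filter, Finset.mem_univ, true_and, Set.mem_setOf_eq] at hp hp'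
    obtain ⟨hp1, rfl⟩ := hp
    obtain ⟨hp1', he1⟩ := hp'
    simp only [Prod.mk.injEq] at he1
    obtain ⟨rfl, rfl⟩ := he1
    simp only at he hp1 hp1'
    by_cases h0 : p' = 0
    · rw [if_pos h0, if_pos h0] at he
      have hr : r' ≠ 0 := fun h => ha0.1 (by rw [h0, h])
      subst he
      simp only [h0, zero_mul, zero_sub] at hp1 hp1'
      rw [mul_left_cancel₀ hr (neg_inj.1 (hp1.trans hp1'.symm))]
    · rw [if_neg h0, if_neg h0] at he
      subst he
      rw [mul_left_cancel₀ h0 (sub_left_inj.1 (hp1.trans hp1'.symm))]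
  · rw [Finset.card_erase_of_mem (Finset.mem_univ _), Finset.card_univ, Fintype.card_prod, sq]

omit [Fintype F] [DecidableEq F] in
theorem exists_dual {ι : Type*} [Fintype ι] {n : ℕ} (s : ι → Fin n → F) (hs : LinearIndependent F s)
    (c : ι → F) : ∃ u : Fin n → F, ∀ i, s i ⬝ᵥ u = c i := by
  classical
  obtain ⟨B, hB⟩ := (Fintype.linearCombination F s).exists_leftInverse_of_injective
    (LinearMap.ker_eq_bot.2 (linearIndependent_iff_injective_fintypeLinearCombination.1 hs))
  refine ⟨fun j => ∑ k, c k * B (Pi.single j 1) k, fun i => ?_⟩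
  have e : B (s i) = Pi.single i 1 := by
    have := LinearMap.congr_fun hB (Pi.single i 1)
    simpa [Fintype.linearCombination_apply_single] using this
  have e2 : ∀ k, ∑ j, s i j * B (Pi.single j 1) k = B (s i) k := fun k => by
    conv_rhs => rw [pi_eq_sum_univ' (s i)]
    simp
  simp only [dotProduct, Finset.mul_sum, mul_left_comm (s i _) (c _)]
  rw [Finset.sum_comm]
  simp only [← Finset.mul_sum, e2, e]
  simp [Pi.single_apply]

variable [CharP F 2] {n : ℕ}

local notation "W" => (Fin n → F)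

/-- Rank two: many polar forms. -/
theorem porb_rank_two {P : W →ₗ[F] W →ₗ[F] F} (hn : 2 ≤ n) (α β : W)
    (hαβ : Function.Injective (pairMap (F := F) α β))
    (hP : ∀ v w, P v w = (α ⬝ᵥ v) * (β ⬝ᵥ w) + (β ⬝ᵥ v) * (α ⬝ᵥ w)) :
    (Fintype.card F ^ n - 1) * (Fintype.card F ^ n - Fintype.card F) ≤
      Nat.card (porb P) * (Fintype.card F * (Fintype.card F ^ 2 - 1)) := by
  classical
  have hcard : Nat.card {s : Fin 2 → W // LinearIndependent F s}
      = (Fintype.card F ^ n - 1) * (Fintype.card F ^ n - Fintype.card F) := by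
    rw [card_linearIndependent (by rw [Module.finrank_fin_fun]; exact hn), Fin.prod_univ_two,
      Module.finrank_fin_fun]
    simp
  rw [← hcard]
  have h2 : (2 : F) = 0 := CharP.cast_eq_zero F 2
  have hinj : ∀ s : {s : Fin 2 → W // LinearIndependent F s},
      Function.Injective (pairMap (F := F) (s.1 0) (s.1 1)) := by
    intro s c d hcd
    have := Fintype.linearIndependent_iff.1 s.2 (c - d) (by
      simp only [Fin.sum_univ_two, Pi.sub_apply, sub_smul]
      change c 0 • s.1 0 + c 1 • s.1 1 = d 0 • s.1 0 + d 1 • s.1 1 at hcd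
      rw [sub_add_sub_comm, hcd, sub_self])
    exact funext fun i => sub_eq_zero.1 (this i)
  let form : W → W → W → W → F := fun a b v w => (a ⬝ᵥ v) * (b ⬝ᵥ w) + (b ⬝ᵥ v) * (a ⬝ᵥ w)
  have hmem : ∀ s : {s : Fin 2 → W // LinearIndependent F s}, form (s.1 0) (s.1 1) ∈ porb P := by
    intro s
    obtain ⟨k, hk0, hk1⟩ := exists_equiv_two hαβ (hinj s)
    set M := (LinearMap.toMatrix' k.toLinearMap)ᵀ with hM
    have hMu : IsUnit M := by
      rw [hM, Matrix.isUnit_transpose]
      exact IsUnit.of_mul_eq_one (LinearMap.toMatrix' k.symm.toLinearMap) (by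
        rw [← LinearMap.toMatrix'_comp, LinearEquiv.comp_symm, LinearMap.toMatrix'_id])
    refine ⟨(LinearEquiv.ofBijective M.mulVecLin ⟨(Matrix.mulVec_injective_iff_isUnit.2 hMu),
      (Matrix.mulVec_surjective_iff_isUnit.2 hMu)⟩), funext fun v => funext fun w => ?_⟩
    show P (M *ᵥ v) (M *ᵥ w) = _
    have e : ∀ a u : W, a ⬝ᵥ M *ᵥ u = k a ⬝ᵥ u := fun a u => by
      rw [dotProduct_mulVec, hM, vecMul_transpose, LinearMap.toMatrix'_mulVec]
      rfl
    rw [hP, e, e, e, e, hk0, hk1]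
  rw [Nat.card_eq_fintype_card, Nat.card_eq_fintype_card (α := porb P), ← Set.toFinset_card, mul_comm, Fintype.card]
  refine (Finset.card_le_mul_card_image (f := fun s => form (s.1 0) (s.1 1)) _
    (Fintype.card F * (Fintype.card F ^ 2 - 1)) fun π hπ => ?_).trans
    (Nat.mul_le_mul_left _ (Finset.card_le_card ?_))
  swap
  · intro π hπ
    obtain ⟨s, -, rfl⟩ := Finset.mem_image.1 hπ
    exact Set.mem_toFinset.2 (hmem s)
  obtain ⟨s, -, rfl⟩ := Finset.mem_image.1 hπ
  refine le_trans ?_ (card_sl2_le (F := F))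
  -- dual vectors
  obtain ⟨x, hx⟩ : ∃ x : W, s.1 0 ⬝ᵥ x = 1 ∧ s.1 1 ⬝ᵥ x = 0 := by
    obtain ⟨u, hu⟩ := exists_dual s.1 s.2 ![1, 0]
    exact ⟨u, hu 0, hu 1⟩
  obtain ⟨y, hy⟩ : ∃ y : W, s.1 0 ⬝ᵥ y = 0 ∧ s.1 1 ⬝ᵥ y = 1 := by
    obtain ⟨u, hu⟩ := exists_dual s.1 s.2 ![0, 1]
    exact ⟨u, hu 0, hu 1⟩
  have hrec : ∀ t ∈ univ.filter (fun t : {s : Fin 2 → W // LinearIndependent F s} =>
      form (t.1 0) (t.1 1) = form (s.1 0) (s.1 1)),
      (t.1 0 ⬝ᵥ x) * (t.1 1 ⬝ᵥ y) - (t.1 0 ⬝ᵥ y) * (t.1 1 ⬝ᵥ x) = 1 ∧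
      t.1 0 = (t.1 0 ⬝ᵥ x) • s.1 0 + (t.1 0 ⬝ᵥ y) • s.1 1 ∧
      t.1 1 = (t.1 1 ⬝ᵥ x) • s.1 0 + (t.1 1 ⬝ᵥ y) • s.1 1 := by
    intro t ht
    have hf := (Finset.mem_filter.1 ht).2
    have f1 : ∀ w, (t.1 0 ⬝ᵥ x) * (t.1 1 ⬝ᵥ w) + (t.1 1 ⬝ᵥ x) * (t.1 0 ⬝ᵥ w) = s.1 1 ⬝ᵥ w := fun w => by
      have := congrFun (congrFun hf x) w
      simp only [form, hx.1, hx.2] at this
      linear_combination this
    have f2 : ∀ w, (t.1 0 ⬝ᵥ y) * (t.1 1 ⬝ᵥ w) + (t.1 1 ⬝ᵥ y) * (t.1 0 ⬝ᵥ w) = s.1 0 ⬝ᵥ w := fun w => by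
      have := congrFun (congrFun hf y) w
      simp only [form, hy.1, hy.2] at this
      linear_combination this
    have hdet : (t.1 0 ⬝ᵥ x) * (t.1 1 ⬝ᵥ y) - (t.1 0 ⬝ᵥ y) * (t.1 1 ⬝ᵥ x) = 1 := by
      have := f1 y
      rw [hy.2] at this
      linear_combination this - ((t.1 0 ⬝ᵥ y) * (t.1 1 ⬝ᵥ x)) * h2
    refine ⟨hdet, ?_, ?_⟩
    · refine dotProduct_eq _ _ fun w => ?_
      simp only [add_dotProduct, smul_dotProduct, smul_eq_mul, ← f1 w, ← f2 w]
      linear_combination (-(t.1 0 ⬝ᵥ w)) * hdet - ((t.1 0 ⬝ᵥ x) * (t.1 0 ⬝ᵥ y) * (t.1 1 ⬝ᵥ w)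
        + (t.1 0 ⬝ᵥ y) * (t.1 1 ⬝ᵥ x) * (t.1 0 ⬝ᵥ w)) * h2
    · refine dotProduct_eq _ _ fun w => ?_
      simp only [add_dotProduct, smul_dotProduct, smul_eq_mul, ← f1 w, ← f2 w]
      linear_combination (-(t.1 1 ⬝ᵥ w)) * hdet - ((t.1 1 ⬝ᵥ x) * (t.1 1 ⬝ᵥ y) * (t.1 0 ⬝ᵥ w)
        + (t.1 0 ⬝ᵥ y) * (t.1 1 ⬝ᵥ x) * (t.1 1 ⬝ᵥ w)) * h2
  rw [← Nat.card_eq_finsetCard]
  refine Nat.card_le_card_of_injective (fun t => ⟨((t.1.1 0 ⬝ᵥ x, t.1.1 0 ⬝ᵥ y), (t.1.1 1 ⬝ᵥ x, t.1.1 1 ⬝ᵥ y)),
    (hrec t.1 t.2).1⟩) ?_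
  rintro ⟨t, ht⟩ ⟨t', ht'⟩ he
  simp only [Subtype.mk.injEq, Prod.mk.injEq] at he
  apply Subtype.ext
  apply Subtype.ext
  funext i
  fin_cases i
  · show t.1 0 = t'.1 0
    rw [(hrec t ht).2.1, (hrec t' ht').2.1, he.1.1, he.1.2]
  · show t.1 1 = t'.1 1
    rw [(hrec t ht).2.2, (hrec t' ht').2.2, he.2.1, he.2.2]

/-- Any rank: a crude count of polar forms. -/
theorem porb_ge {m : ℕ} {P : (Fin (m + 2) → F) →ₗ[F] (Fin (m + 2) → F) →ₗ[F] F}
    (hself : ∀ v, P v v = 0) (hsymm : ∀ v w, P v w = P w v) {e f : Fin (m + 2) → F} (hef : P e f = 1) :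
    (Fintype.card F - 1) * (Fintype.card F ^ m * Fintype.card F ^ m) ≤ Nat.card (porb P) := by
  classical
  let E0 : Fin (m + 2) → F := Pi.single 0 1
  let E1 : Fin (m + 2) → F := Pi.single 1 1
  have hh : ∀ a : {a : F // a ≠ 0}, ∃ g : (Fin (m + 2) → F) ≃ₗ[F] (Fin (m + 2) → F),
      g E0 = e ∧ g E1 = a.1 • f := by
    intro a
    refine exists_equiv_two ?_ ?_
    · intro c d hcd
      funext i
      fin_cases i
      · have := congrFun hcd 0
        simpa [pairMap, E0, E1] using this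
      · have := congrFun hcd 1
        simpa [pairMap, E0, E1] using this
    · intro c d hcd
      change c 0 • e + c 1 • (a.1 • f) = d 0 • e + d 1 • (a.1 • f) at hcd
      funext i
      fin_cases i
      · have := congrArg (fun z => P z f) hcd
        simpa [hef, hself] using this
      · have := congrArg (fun z => P e z) hcd
        simpa [hef, hself, a.2] using this
  choose h h0 h1 using hh
  let tau : (Fin m → F) → (Fin m → F) → ((Fin (m + 2) → F) →ₗ[F] (Fin (m + 2) → F)) := fun t s =>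
    { toFun := fun v => v + (∑ j, t j * v j.succ.succ) • E0 + (∑ j, s j * v j.succ.succ) • E1
      map_add' := fun v w => by
        simp only [Pi.add_apply, mul_add, Finset.sum_add_distrib, add_smul]; abel
      map_smul' := fun c v => by
        simp only [Pi.smul_apply, smul_eq_mul, mul_left_comm _ c, ← Finset.mul_sum, ← smul_smul,
          smul_add, RingHom.id_apply] }
  have hinv : ∀ t s, Function.Involutive (tau t s) := fun t s v => by
    have e0 : ∀ j : Fin m, E0 j.succ.succ = 0 := fun j => by simp [E0, Fin.succ_ne_zero]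
    have e1 : ∀ j : Fin m, E1 j.succ.succ = 0 := fun j => by
      simp only [E1]; exact Pi.single_eq_of_ne (fun hj => by have := congrArg Fin.val hj; simp at this) _
    show tau t s v + (∑ j, t j * tau t s v j.succ.succ) • E0 + (∑ j, s j * tau t s v j.succ.succ) • E1 = v
    have ev : ∀ j : Fin m, tau t s v j.succ.succ = v j.succ.succ := fun j => by
      show (v + _ • E0 + _ • E1) j.succ.succ = _
      simp [e0, e1]
    simp only [ev]
    show v + _ + _ + _ + _ = v
    funext k
    simp only [Pi.add_apply, Pi.smul_apply, smul_eq_mul]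
    linear_combination ((∑ j, t j * v j.succ.succ) * E0 k + (∑ j, s j * v j.succ.succ) * E1 k) *
      (CharP.cast_eq_zero F 2 : (2 : F) = 0)
  let G : {a : F // a ≠ 0} × (Fin m → F) × (Fin m → F) → ((Fin (m + 2) → F) ≃ₗ[F] (Fin (m + 2) → F)) :=
    fun p => (LinearEquiv.ofInvolutive (tau p.2.1 p.2.2) (hinv _ _)).trans (h p.1)
  have hG : ∀ p v, G p v = h p.1 (v + (∑ j, p.2.1 j * v j.succ.succ) • E0
      + (∑ j, p.2.2 j * v j.succ.succ) • E1) := fun p v => rfl
  have hG0 : ∀ p, G p E0 = e := fun p => by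
    rw [hG]
    have e0 : ∀ j : Fin m, E0 j.succ.succ = 0 := fun j => by simp [E0, Fin.succ_ne_zero]
    simp [e0, h0]
  have hG1 : ∀ p, G p E1 = p.1.1 • f := fun p => by
    rw [hG]
    have e1 : ∀ j : Fin m, E1 j.succ.succ = 0 := fun j => by
      simp only [E1]; exact Pi.single_eq_of_ne (fun hj => by have := congrArg Fin.val hj; simp at this) _
    simp [e1, h1]
  have hcardD : Nat.card ({a : F // a ≠ 0} × (Fin m → F) × (Fin m → F)) =
      (Fintype.card F - 1) * (Fintype.card F ^ m * Fintype.card F ^ m) := by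
    have : Nat.card {a : F // a ≠ 0} = Fintype.card F - 1 := by
      rw [Nat.card_eq_fintype_card, Fintype.card_subtype, Finset.filter_ne',
        Finset.card_erase_of_mem (Finset.mem_univ _), Finset.card_univ]
    rw [Nat.card_prod, Nat.card_prod, this]
    simp
  rw [← hcardD]
  refine Nat.card_le_card_of_injective
    (fun p => (⟨fun v w => P (G p v) (G p w), G p, rfl⟩ : porb P)) ?_
  intro p p' he
  have he' : ∀ v w, P (G p v) (G p w) = P (G p' v) (G p' w) := fun v w =>
    congrFun (congrFun (congrArg Subtype.val he) v) w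
  obtain ⟨a, t, s⟩ := p
  obtain ⟨a', t', s'⟩ := p'
  have ea : a = a' := Subtype.ext (by
    have := he' E0 E1
    simpa [hG0, hG1, hef] using this)
  subst ea
  have et : t = t' ∧ s = s' := by
    constructor
    · funext j
      have := he' E1 (Pi.single j.succ.succ 1)
      rw [hG1, hG1, hG, hG] at this
      simp only [map_add, map_smul, LinearMap.smul_apply, smul_eq_mul, h0, h1, hsymm f e, hef, hself,
        Pi.single_apply, Fin.succ_inj, mul_ite, mul_one, mul_zero, Finset.sum_ite_eq',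
        Finset.mem_univ, if_true, add_zero, mul_add] at this
      exact mul_right_cancel₀ a.2 (add_left_cancel this)
    · funext j
      have := he' E0 (Pi.single j.succ.succ 1)
      rw [hG0, hG0, hG, hG] at this
      simp only [map_add, map_smul, smul_eq_mul, h0, h1, hef, hself,
        Pi.single_apply, Fin.succ_inj, mul_ite, mul_one, mul_zero, Finset.sum_ite_eq',
        Finset.mem_univ, if_true, add_zero] at this
      exact mul_right_cancel₀ a.2 (add_left_cancel this)
  rw [et.1, et.2]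

/-- The main count. -/
theorem orb_ge (hn : 2 ≤ n) {Q : W → F} {P : W →ₗ[F] W →ₗ[F] F} (h : IsQuad Q P)
    (hne : ∃ v w, P v w ≠ 0) :
    (Fintype.card F ^ n - 1) * (Fintype.card F ^ n - Fintype.card F) ≤
      2 * (Fintype.card F + 1) * Nat.card (orb Q) := by
  classical
  obtain ⟨e, w, hw⟩ := hne
  set f := (P e w)⁻¹ • w with hf
  have hef : P e f = 1 := by rw [hf, map_smul, smul_eq_mul, inv_mul_cancel₀ hw]
  have hfe : P f e = 1 := by rw [h.symm]; exact hef
  have horb := mul_le_orb h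
  set q := Fintype.card F with hq
  have hq2 : 2 ≤ q := Fintype.one_lt_card
  by_cases hA : ∀ v v', P v v' = P v f * P e v' + P e v * P v' f
  · -- rank two
    obtain ⟨α, hα⟩ : ∃ α : W, ∀ v, P v f = α ⬝ᵥ v :=
      ⟨fun i => P (Pi.single i 1) f, fun v => by
        conv_lhs => rw [pi_eq_sum_univ' v]
        simp [dotProduct, mul_comm]⟩
    obtain ⟨β, hβ⟩ : ∃ β : W, ∀ v, P e v = β ⬝ᵥ v :=
      ⟨fun i => P e (Pi.single i 1), fun v => by
        conv_lhs => rw [pi_eq_sum_univ' v]
        simp [dotProduct, mul_comm]⟩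
    have hαβ : Function.Injective (pairMap (F := F) α β) := by
      intro c d hcd
      change c 0 • α + c 1 • β = d 0 • α + d 1 • β at hcd
      funext i
      fin_cases i
      · have := congrArg (fun z => z ⬝ᵥ e) hcd
        simpa [← hα, ← hβ, hef, h.self] using this
      · have := congrArg (fun z => z ⬝ᵥ f) hcd
        simpa [← hα, ← hβ, hef, h.self] using this
    have hPi := porb_rank_two hn α β hαβ fun v v' => by rw [hA, ← hα, ← hβ, ← hα, ← hβ]
    have hnd : ∀ u : Fin 2 → F, u ≠ 0 → ∃ u', P (pairMap (F := F) e f u') (pairMap (F := F) e f u) ≠ 0 := by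
      intro u hu
      by_contra hcon
      simp only [not_exists, not_not] at hcon
      apply hu
      funext i
      fin_cases i
      · have := hcon ![0, 1]
        simpa [pairMap, h.self, hfe] using this
      · have := hcon ![1, 0]
        simpa [pairMap, h.self, hef] using this
    have hPhi := pfib_ge h (pairMap (F := F) e f) hnd (r := q)
      (by rw [Fintype.card_fun, Fintype.card_fin, sq])
    calc (q ^ n - 1) * (q ^ n - q) ≤ Nat.card (porb P) * (q * (q ^ 2 - 1)) := hPi
      _ = Nat.card (porb P) * (q + 1) * (q * q - q) := by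
          have : q ^ 2 - 1 = (q + 1) * (q - 1) := by rw [← Nat.sq_sub_sq, one_pow]
          rw [this, ← Nat.mul_sub_one]; ring
      _ ≤ Nat.card (porb P) * (q + 1) * (2 * Nat.card (pfib Q P)) := Nat.mul_le_mul_left _ hPhi
      _ = 2 * (q + 1) * (Nat.card (porb P) * Nat.card (pfib Q P)) := by ring
      _ ≤ 2 * (q + 1) * Nat.card (orb Q) := Nat.mul_le_mul_left _ horb
  · simp only [not_forall] at hA
    obtain ⟨v, v', hvv⟩ := hA
    set k := v + P v f • e + P e v • f with hk
    set k' := v' + P v' f • e + P e v' • f with hk'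
    have h2 : (2 : F) = 0 := CharP.cast_eq_zero F 2
    have k1 : ∀ x, P (x + P x f • e + P e x • f) f = 0 ∧ P e (x + P x f • e + P e x • f) = 0 := fun x => by
      constructor <;>
      · simp only [map_add, map_smul, LinearMap.add_apply, LinearMap.smul_apply, smul_eq_mul, h.self, hef,
          mul_one, mul_zero, add_zero]
        exact CharTwo.add_self_eq_zero _
    have kf := (k1 v).1
    have ek := (k1 v).2
    have k'f := (k1 v').1
    have ek' := (k1 v').2
    rw [← hk] at kf ek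
    rw [← hk'] at k'f ek'
    have hkk : P k k' ≠ 0 := by
      intro h0
      apply hvv
      rw [hk, hk'] at h0
      simp only [map_add, map_smul, LinearMap.add_apply, LinearMap.smul_apply, smul_eq_mul, h.self, hef, hfe,
        mul_one, mul_zero, add_zero, zero_add, h.symm f v'] at h0
      rw [h.symm v e] at h0
      linear_combination h0 - (P v f * P e v' + P e v * P v' f) * 2 * h2
    set g' := (P k k')⁻¹ • k' with hg'
    have hkg : P k g' = 1 := by rw [hg', map_smul, smul_eq_mul, inv_mul_cancel₀ hkk]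
    have eg : P e g' = 0 := by rw [hg', map_smul, ek', smul_zero]
    have gf : P g' f = 0 := by rw [hg', map_smul P, LinearMap.smul_apply, k'f, smul_zero]
    let L : (Fin 2 → F) × (Fin 2 → F) →ₗ[F] W :=
      (pairMap (F := F) e f).coprod (pairMap (F := F) k g')
    have hnd : ∀ u, u ≠ 0 → ∃ u', P (L u') (L u) ≠ 0 := by
      rintro ⟨u₁, u₂⟩ hu
      by_contra hcon
      simp only [not_exists, not_not] at hcon
      apply hu
      have a1 := hcon (![0, 1], 0)
      have a2 := hcon (![1, 0], 0)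
      have a3 := hcon (0, ![0, 1])
      have a4 := hcon (0, ![1, 0])
      simp only [L, LinearMap.coprod_apply, map_zero, add_zero, zero_add] at a1 a2 a3 a4
      simp [pairMap, h.self, hef, hfe, eg, h.symm g' e, gf, h.symm f g', kf, h.symm f k, ek, h.symm k e,
        hkg, h.symm g' k] at a1 a2 a3 a4
      refine Prod.ext (funext fun i => ?_) (funext fun i => ?_) <;> fin_cases i <;> simp_all
    have hPhi := pfib_ge h L hnd (r := q * q)
      (by rw [Fintype.card_prod, Fintype.card_fun, Fintype.card_fin, sq])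
    obtain ⟨m, rfl⟩ : ∃ m, n = m + 2 := ⟨n - 2, by omega⟩
    have hPi := porb_ge (P := P) h.self h.symm hef
    rw [← hq] at hPi
    have hsq : q * q * (q * q) - q * q = q * q * (q + 1) * (q - 1) := by
      rw [Nat.mul_assoc (q*q), ← Nat.mul_sub_one]
      congr 1
      rw [← sq, ← Nat.sq_sub_sq, one_pow]
    rw [hsq] at hPhi
    calc (q ^ (m + 2) - 1) * (q ^ (m + 2) - q) ≤ q ^ (m + 2) * q ^ (m + 2) :=
          Nat.mul_le_mul (Nat.sub_le _ _) (Nat.sub_le _ _)
      _ = q ^ m * q ^ m * (q * q) * (q * q) := by ring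
      _ ≤ q ^ m * q ^ m * (q * q) * (((q + 1) * (q - 1)) * ((q + 1) * (q - 1))) := by
          gcongr <;>
          · obtain ⟨j, hj⟩ : ∃ j, q = j + 2 := ⟨q - 2, by omega⟩
            rw [hj, show j + 2 - 1 = j + 1 by omega]; nlinarith
      _ = (q + 1) * (((q - 1) * (q ^ m * q ^ m)) * (q * q * (q + 1) * (q - 1))) := by ring
      _ ≤ (q + 1) * (Nat.card (porb P) * (2 * Nat.card (pfib Q P))) := by gcongr
      _ = 2 * (q + 1) * (Nat.card (porb P) * Nat.card (pfib Q P)) := by ring
      _ ≤ 2 * (q + 1) * Nat.card (orb Q) := Nat.mul_le_mul_left _ horb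

end QuadEven

end H48
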