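import Mathlib
import Cfsg.Agent.H48.RepBoundOdd
import Cfsg.Agent.H48.QuadOrbit

/-!
# Cross characteristic degree bound for `Sp_{2n}(q)`, `q` even
-/

set_option autoImplicit false

namespace H48

open Matrix

variable {n : ℕ} {F : Type*} [Field F] [Fintype F] {K : Type*} [Field K]

omit [Fintype F] in
theorem symOuter_mem (v w : Fin n → F) : vecMulVec v w + vecMulVec w v ∈ symMat n F := by
  show (_ : Matrix (Fin n) (Fin n) F)ᵀ = _
  rw [transpose_add, transpose_vecMulVec, transpose_vecMulVec, add_comm]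

/-- The symmetric matrix `c • (v wᵀ + w vᵀ)`. -/
def outer2 (v w : Fin n → F) (c : F) : symMat n F :=
  ⟨c • (vecMulVec v w + vecMulVec w v), (Matrix.IsSymm.smul (symOuter_mem v w) c)⟩

/-- The quadratic form attached to a character of the radical. -/
theorem exists_quad {ψ : AddChar F K} (hψ : ψ.IsPrimitive) [CharP F 2]
    (χ : AddChar (symMat n F) K) :
    ∃ (Q : (Fin n → F) → F) (P : (Fin n → F) →ₗ[F] (Fin n → F) →ₗ[F] F),
      QuadEven.IsQuad Q P ∧ (∀ v c, χ (sqMat c v) = ψ (Q v * c)) ∧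
      ∀ v w c, χ (outer2 v w c) = ψ (P v w * c) := by
  classical
  let φ : (Fin n → F) → AddChar F K := fun v =>
    { toFun := fun c => χ (sqMat c v)
      map_zero_eq_one' := by
        rw [show sqMat (0 : F) v = 0 from Subtype.ext (zero_smul F _)]
        exact χ.map_zero_eq_one
      map_add_eq_mul' := fun a b => by
        rw [← χ.map_add_eq_mul]
        exact congrArg χ (Subtype.ext (add_smul a b _)) }
  let φ₂ : (Fin n → F) → (Fin n → F) → AddChar F K := fun v w =>
    { toFun := fun c => χ (outer2 v w c)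
      map_zero_eq_one' := by
        rw [show outer2 v w (0 : F) = 0 from Subtype.ext (zero_smul F _)]
        exact χ.map_zero_eq_one
      map_add_eq_mul' := fun a b => by
        rw [← χ.map_add_eq_mul]
        exact congrArg χ (Subtype.ext (add_smul a b _)) }
  choose Q hQ using fun v => exists_shift hψ (φ v)
  choose P hP using fun v w => exists_shift hψ (φ₂ v w)
  have eqQ : ∀ {x y : F}, (∀ c, ψ (x * c) = ψ (y * c)) → x = y := fun h =>
    AddChar.to_mulShift_inj_of_isPrimitive hψ (DFunLike.ext _ _ fun c => by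
      simpa [AddChar.mulShift_apply] using h c)
  have hP' : ∀ v w c, χ (outer2 v w c) = ψ (P v w * c) := fun v w c => hP v w c
  have hQ' : ∀ v c, χ (sqMat c v) = ψ (Q v * c) := fun v c => hQ v c
  have padd : ∀ v v' w, P (v + v') w = P v w + P v' w := fun v v' w => eqQ fun c => by
    rw [add_mul, AddChar.map_add_eq_mul, ← hP', ← hP', ← hP', ← χ.map_add_eq_mul]
    exact congrArg χ (Subtype.ext (by
      show c • _ = c • _ + c • _
      rw [← smul_add, add_vecMulVec, vecMulVec_add]; congr 1; abel))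
  have pswap : ∀ v w, P v w = P w v := fun v w => eqQ fun c => by
    rw [← hP', ← hP']
    exact congrArg χ (Subtype.ext (congrArg (c • ·) (add_comm _ _)))
  have psmul : ∀ (a : F) v w, P (a • v) w = a * P v w := fun a v w => eqQ fun c => by
    rw [show a * P v w * c = P v w * (c * a) by ring, ← hP', ← hP']
    exact congrArg χ (Subtype.ext (by
      show c • _ = (c * a) • _
      rw [smul_vecMulVec, vecMulVec_smul, ← smul_add, smul_smul]))
  let PL : (Fin n → F) →ₗ[F] (Fin n → F) →ₗ[F] F := LinearMap.mk₂ F P padd psmul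
    (fun v w w' => by rw [pswap, padd, pswap w, pswap w'])
    (fun a v w => by rw [pswap, psmul, pswap w, smul_eq_mul])
  refine ⟨Q, PL, ⟨fun v w => eqQ fun c => ?_, fun a v => eqQ fun c => ?_, fun v => eqQ fun c => ?_⟩,
    hQ', hP'⟩
  · show _ = ψ ((Q v + Q w + P v w) * c)
    rw [add_mul, add_mul, AddChar.map_add_eq_mul, AddChar.map_add_eq_mul, ← hQ', ← hQ', ← hQ', ← hP',
      ← χ.map_add_eq_mul, ← χ.map_add_eq_mul]
    exact congrArg χ (Subtype.ext (by
      show c • _ = c • _ + c • _ + c • _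
      rw [← smul_add, ← smul_add, add_vecMulVec, vecMulVec_add, vecMulVec_add]; congr 1; abel))
  · rw [show a * a * Q v * c = Q v * (c * (a * a)) by ring, ← hQ', ← hQ']
    exact congrArg χ (Subtype.ext (by
      show c • _ = (c * (a * a)) • _
      rw [smul_vecMulVec, vecMulVec_smul, smul_smul, smul_smul, mul_assoc]))
  · show ψ (P v v * c) = _
    rw [← hP', zero_mul, AddChar.map_zero_eq_one,
      show outer2 v v c = 0 from Subtype.ext (by
        show c • _ = (0 : Matrix (Fin n) (Fin n) F)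
        rw [← two_nsmul, ← Nat.cast_smul_eq_nsmul F, CharP.cast_eq_zero, zero_smul, smul_zero]),
      AddChar.map_zero_eq_one]

omit [Fintype F] in
theorem radical_mul_comm (a b : symMat n F) : radical a * radical b = radical b * radical a := by
  rw [← radical_add, ← radical_add, add_comm]

/-- A character non-trivial on a given matrix, once that matrix acts non-trivially. -/
theorem exists_char_ne [IsAlgClosed K] {M : Type*} [AddCommGroup M] [Module K M]
    [FiniteDimensional K M] (hK : ringChar K ≠ ringChar F)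
    (ρ : Matrix.symplecticGroup (Fin n) F →* Module.End K M) (A₀ : AddSubgroup (symMat n F))
    (hne : ∃ a ∈ A₀, ρ (radical a) ≠ 1) :
    ∃ χ : AddChar (symMat n F) K, (∃ a ∈ A₀, χ a ≠ 1) ∧
      ∃ v : M, v ≠ 0 ∧ AbW.HasChar (fun a => ρ (radical a)) χ v := by
  classical
  have hcard : (Nat.card A₀ : K) ≠ 0 := by
    obtain ⟨k, hk⟩ := AddSubgroup.card_addSubgroup_dvd_card A₀
    have := card_symMat_ne_zero (n := n) (F := F) hK
    rw [hk, Nat.cast_mul] at this
    exact left_ne_zero_of_mul this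
  obtain ⟨a, ha, hne⟩ := hne
  have hact0 : AbW.IsAct (fun x : A₀ => ρ (radical x.1)) :=
    ⟨by simp [radical_zero], fun x y => by
      show ρ (radical (x.1 + y.1)) = _
      rw [radical_add, _root_.map_mul]⟩
  obtain ⟨χ₀, hχ₀, v, hv0, hv⟩ := hact0.exists_hasChar hcard ⟨⟨a, ha⟩, hne⟩
  obtain ⟨a₁, ha₁⟩ := AddChar.ne_one_iff.1 hχ₀
  let W : Submodule K M := ⨅ x : A₀, LinearMap.ker (ρ (radical x.1) - χ₀ x • 1)
  have hW : ∀ u, u ∈ W ↔ ∀ x : A₀, ρ (radical x.1) u = χ₀ x • u := fun u => by
    simp [W, Submodule.mem_iInf, sub_eq_zero]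
  have hinv : ∀ b u, u ∈ W → ρ (radical b) u ∈ W := fun b u hu => (hW _).2 fun x => by
    rw [← Module.End.mul_apply, ← _root_.map_mul, radical_mul_comm, _root_.map_mul,
      Module.End.mul_apply, (hW u).1 hu, map_smul]
  have hvW : v ∈ W := (hW v).2 hv
  have hact : AbW.IsAct (fun b : symMat n F => (ρ (radical b)).restrict (hinv b)) :=
    ⟨LinearMap.ext fun u => Subtype.ext (by simp [radical_zero]), fun x y => LinearMap.ext fun u =>
      Subtype.ext (by
        show ρ (radical (x + y)) u.1 = ρ (radical x) (ρ (radical y) u.1)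
        rw [radical_add, _root_.map_mul]; rfl)⟩
  obtain ⟨χ, -, u, hu0, hu⟩ := hact.exists_hasChar (card_symMat_ne_zero hK) ⟨a₁.1, fun h1 => ha₁ (by
    have h2 := congrArg Subtype.val (LinearMap.congr_fun h1 ⟨v, hvW⟩)
    change ρ (radical a₁.1) v = v at h2
    rw [hv a₁] at h2
    exact smul_left_injective K hv0 (h2.trans (one_smul K v).symm))⟩
  refine ⟨χ, ⟨a₁.1, a₁.2, fun h1 => ha₁ ?_⟩, u.1, fun h => hu0 (Subtype.ext h),
    fun b => congrArg Subtype.val (hu b)⟩
  have h2 : ρ (radical a₁.1) u.1 = χ a₁.1 • u.1 := congrArg Subtype.val (hu a₁.1)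
  rw [(hW u.1).1 u.2 a₁, h1] at h2
  exact smul_left_injective K (fun h => hu0 (Subtype.ext h)) h2

/-- Degree bound, `q` even. -/
theorem finrank_ge_even [IsAlgClosed K] [CharP F 2] (hK : ringChar K ≠ ringChar F) (hn : 2 ≤ n)
    (hex : 3 ≤ n ∨ 3 ≤ Fintype.card F) {M : Type*} [AddCommGroup M] [Module K M]
    [FiniteDimensional K M] (ρ : Matrix.symplecticGroup (Fin n) F →* Module.End K M)
    (hne : ∃ g, ρ g ≠ 1) :
    (Fintype.card F ^ n - 1) * (Fintype.card F ^ n - Fintype.card F) ≤
      2 * (Fintype.card F + 1) * Module.finrank K M := by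
  classical
  haveI : Nonempty (Fin n) := ⟨⟨0, by omega⟩⟩
  set i : Fin n := ⟨0, by omega⟩
  set j : Fin n := ⟨1, by omega⟩
  have hij : i ≠ j := by simp [i, j, Fin.ext_iff]
  set A₀ : AddSubgroup (symMat n F) :=
    AddSubgroup.closure (Set.range fun p : (Fin n → F) × (Fin n → F) => outer2 p.1 p.2 1)
  set B₁ := outer2 (Pi.single i (1 : F)) (Pi.single j 1) 1 with hB₁
  have hB₁A : B₁ ∈ A₀ := AddSubgroup.subset_closure ⟨(_, _), rfl⟩
  have hne₁ : ρ (radical B₁) ≠ 1 := by
    intro h1
    let φ := MonoidHom.toHomUnits ρ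
    have hker : radical B₁ ∈ φ.ker := MonoidHom.mem_ker.2 (Units.ext h1)
    have hcom := perfect (l := Fin n) (F := F) (by simp only [Fintype.card_fin]; omega)
    obtain ⟨g, hg⟩ := hne
    rcases normal_le_center_or φ.ker with h | h
    · obtain ⟨a, -, ha⟩ := (mem_center_iff _).1 (h hker)
      have := congrFun (ha (Pi.single (Sum.inr j) 1)) (Sum.inl i)
      change ((radical B₁).1 *ᵥ Pi.single (Sum.inr j) 1) (Sum.inl i) = _ at this
      simp [radical, upperSp, hB₁, outer2, Matrix.mulVec_single, vecMulVec, hij] at this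
    · rw [hcom, top_le_iff] at h
      exact hg (congrArg Units.val (MonoidHom.mem_ker.1 (h ▸ Subgroup.mem_top g : g ∈ φ.ker)))
  obtain ⟨ψ, hψ⟩ := exists_psi (F := F) (K := K) hK
  obtain ⟨χ, ⟨a, ha, hχa⟩, v, hv0, hv⟩ := exists_char_ne hK ρ A₀ ⟨B₁, hB₁A, hne₁⟩
  obtain ⟨Q, P, hQ, hQv, hPv⟩ := exists_quad hψ χ
  have hP : ∃ x y, P x y ≠ 0 := by
    by_contra hcon
    simp only [not_exists, not_not] at hcon
    suffices h1 : ∀ z ∈ A₀, χ z = 1 from hχa (h1 a ha)
    intro z hz
    induction hz using AddSubgroup.closure_induction with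
    | mem z hz =>
      obtain ⟨p, rfl⟩ := hz
      rw [hPv, hcon, zero_mul, AddChar.map_zero_eq_one]
    | zero => exact χ.map_zero_eq_one
    | add z z' _ _ hz hz' => rw [AddChar.map_add_eq_mul, hz, hz', one_mul]
    | neg z _ hz => rw [AddChar.map_neg_eq_inv, hz, inv_one]
  refine (QuadEven.orb_ge hn hQ hP).trans (Nat.mul_le_mul_left _ ?_)
  have hX : ∀ π : QuadEven.orb Q, ∃ X : Matrix (Fin n) (Fin n) F, IsUnit X ∧ ∀ w, π.1 w = Q (X *ᵥ w) := by
    rintro ⟨_, g, rfl⟩
    refine ⟨LinearMap.toMatrix' g.toLinearMap, ?_, fun w => ?_⟩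
    · exact IsUnit.of_mul_eq_one (LinearMap.toMatrix' g.symm.toLinearMap) (by
        rw [← LinearMap.toMatrix'_comp, LinearEquiv.comp_symm, LinearMap.toMatrix'_id])
    · rw [LinearMap.toMatrix'_mulVec]; rfl
  choose X hXu hX using hX
  let Φ : QuadEven.orb Q → AddChar (symMat n F) K := fun π =>
    χ.compAddMonoidHom
      { toFun := congr' (X π)
        map_zero' := Subtype.ext (by simp [congr'])
        map_add' := fun x y => Subtype.ext (by simp [congr', Matrix.mul_add, Matrix.add_mul]) }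
  have hinj : Function.Injective Φ := by
    intro π π' h
    refine Subtype.ext (funext fun w => ?_)
    rw [hX, hX]
    refine AddChar.to_mulShift_inj_of_isPrimitive hψ (DFunLike.ext _ _ fun c => ?_)
    simp only [AddChar.mulShift_apply]
    rw [← hQv, ← hQv, ← congr'_sqMat, ← congr'_sqMat]
    exact DFunLike.congr_fun h (sqMat c w)
  rw [← Nat.card_range_of_injective hinj]
  refine AbW.IsAct.card_orbit_le ρ radical hv0 hv _ ?_
  rintro _ ⟨π, rfl⟩
  obtain ⟨g, hg⟩ := exists_conj_radical (X π) (hXu π)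
  exact ⟨g, fun b => ⟨congr' (X π) b, hg b, rfl⟩⟩

end H48
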