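import Mathlib
import Cfsg.Agent.H48.TvClosure
import Cfsg.Agent.H44.TwoGenSp

/-!
# `Sp(2n, q)` is generated by three conjugate regular unipotents
-/

set_option autoImplicit false

namespace H48

namespace Shift

open Matrix
open H49 (IsCtr)

variable {F : Type*} [Field F] {n : ℕ}

local notation "V" => (Fin n ⊕ Fin n → F)
local notation "Sp" => Matrix.symplecticGroup (Fin n) F

variable {C : Matrix.symplecticGroup (Fin n) F} {ε : ℕ → (Fin n ⊕ Fin n → F)}

/-- The group generated by `C`, `hCh⁻¹` and `(hs⁻¹)C(hs⁻¹)⁻¹`. -/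
def gen3 (C h s : Matrix.symplecticGroup (Fin n) F) : Subgroup (Matrix.symplecticGroup (Fin n) F) :=
  Subgroup.closure {C, h * C * h⁻¹, (h * s⁻¹) * C * (h * s⁻¹)⁻¹}

theorem gen3_tv {h s : Sp} {e : V} {γ : F} (hs : s⁻¹ * C * s * C⁻¹ = tv e γ) {x : V} {μ : F}
    (hx : h • e = μ • x) : tv x (μ * μ * γ) ∈ gen3 C h s := by
  have h1 : (h * s⁻¹) * C * (h * s⁻¹)⁻¹ * (h * C * h⁻¹)⁻¹ ∈ gen3 C h s :=
    mul_mem (Subgroup.subset_closure (Or.inr (Or.inr rfl))) (inv_mem (Subgroup.subset_closure (Or.inr (Or.inl rfl))))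
  have e1 : (h * s⁻¹) * C * (h * s⁻¹)⁻¹ * (h * C * h⁻¹)⁻¹ = h * (s⁻¹ * C * s * C⁻¹) * h⁻¹ := by group
  rwa [e1, hs, tv_conj, hx, tv_scale] at h1

theorem gen3_left (C h s : Sp) : C ∈ gen3 C h s := Subgroup.subset_closure (Or.inl rfl)

theorem gen3_mid (C h s : Sp) : h * C * h⁻¹ ∈ gen3 C h s := Subgroup.subset_closure (Or.inr (Or.inl rfl))

/-- An element scaling the centre of a transvection spreads it to the whole root group. -/
theorem ctr_of_eigen {K : Subgroup (Matrix.symplecticGroup (Fin n) F)} {x : V} {γ R : F} {el : Sp}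
    (hγ : γ ≠ 0) (hK : tv x γ ∈ K) (hel : el ∈ K) (hR : el • x = R • x)
    (hgen : ∀ S : Subring F, R * R ∈ S → S = ⊤) : IsCtr K x := by
  let A : AddSubgroup F :=
    { carrier := {c | tv x c ∈ K}
      zero_mem' := by simp
      add_mem' := fun {a b} ha hb => by
        show tv x (a + b) ∈ K
        rw [← tv_mul]; exact K.mul_mem ha hb
      neg_mem' := fun {a} ha => by
        show tv x (-a) ∈ K
        rw [← tv_inv]; exact K.inv_mem ha }
  let S : Subring F :=
    { carrier := {r | ∀ c ∈ A, r * c ∈ A}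
      one_mem' := fun c hc => by rwa [one_mul]
      zero_mem' := fun c _ => by rw [zero_mul]; exact A.zero_mem
      add_mem' := fun {r s} hr hs c hc => by rw [add_mul]; exact A.add_mem (hr c hc) (hs c hc)
      neg_mem' := fun {r} hr c hc => by rw [neg_mul]; exact A.neg_mem (hr c hc)
      mul_mem' := fun {r s} hr hs c hc => by rw [mul_assoc]; exact hr _ (hs c hc) }
  have hS : R * R ∈ S := fun c hc => by
    have := K.mul_mem (K.mul_mem hel (show tv x c ∈ K from hc)) (K.inv_mem hel)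
    rwa [tv_conj, hR, tv_scale] at this
  intro c
  have h := (show c / γ ∈ S by rw [hgen S hS]; trivial) γ hK
  rwa [div_mul_cancel₀ _ hγ] at h

variable (M : Model C ε)
include M

theorem Model.orbit_span {h : Sp} {x v₁ : V} {μ : F} (hx : h • ε (2 * n - 1) = μ • x) (hμ : μ ≠ 0)
    (hβ : sf x v₁ ≠ 0) :
    Submodule.span F (Set.range fun k : ℕ => (h * C * h⁻¹) ^ k • v₁) = ⊤ := by
  set P := Submodule.span F (Set.range fun k : ℕ => (h * C * h⁻¹) ^ k • v₁)
  let L : V ≃ₗ[F] V := DistribMulAction.toLinearEquiv F V h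
  have hθ : sf (h⁻¹ • v₁) (ε (2 * n - 1)) ≠ 0 := by
    rw [← sf_smul_smul h, smul_inv_smul, hx, map_smul, smul_eq_mul]
    exact mul_ne_zero hμ fun e => hβ (sf_eq_zero_comm e)
  have hstep : ∀ v ∈ P, (h * C * h⁻¹) • v ∈ P := by
    intro v hv
    have : P ≤ P.comap (DistribMulAction.toLinearEquiv F V (h * C * h⁻¹)).toLinearMap := by
      refine Submodule.span_le.2 ?_
      rintro _ ⟨k, rfl⟩
      exact Submodule.subset_span ⟨k + 1, by simp [pow_succ', mul_smul]⟩
    exact this hv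
  have := M.cyclic hθ (P := P.comap L.toLinearMap)
    (by show h • (h⁻¹ • v₁) ∈ P; rw [smul_inv_smul]; exact Submodule.subset_span ⟨0, by simp⟩)
    (fun v hv => by
      show h • (C • v) ∈ P
      have := hstep _ (show h • v ∈ P from hv)
      rwa [mul_smul, inv_smul_smul, mul_smul] at this)
  rw [eq_top_iff]
  intro v _
  have hv : h⁻¹ • v ∈ P.comap L.toLinearMap := this ▸ trivial
  have : h • (h⁻¹ • v) ∈ P := hv
  rwa [smul_inv_smul] at this

/-- The main criterion. -/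
theorem Model.gen_of_eigen {c₀ : F} (hc0 : c₀ ≠ 0) (hc1 : c₀ ≠ 1) {h s : Sp} {γ μ R : F}
    (hs : s⁻¹ * C * s * C⁻¹ = tv (ε (2 * n - 1)) γ) (hγ : γ ≠ 0) {m : V}
    (hm : h • ε (2 * n - 1) = μ • m) (hμ : μ ≠ 0) (hβ : sf m (C • m) ≠ 0)
    {el : Sp} (hel : el ∈ gen3 C h s) (hR : el • m = R • m)
    (hgen : ∀ S : Subring F, R * R ∈ S → S = ⊤) : gen3 C h s = ⊤ := by
  have hctr : IsCtr (gen3 C h s) m :=
    ctr_of_eigen (mul_ne_zero (mul_ne_zero hμ hμ) hγ) (gen3_tv hs hm) hel hR hgen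
  set u := h * C * h⁻¹
  have hu : u • m = m := by
    have e1 : u • (μ • m) = μ • m := by
      rw [← hm, mul_smul, inv_smul_smul, mul_smul, M.smul_e]
    rw [smul_comm] at e1
    exact smul_right_injective V hμ e1
  have hupow : ∀ k : ℕ, u ^ k • m = m := fun k => by
    induction k with
    | zero => simp
    | succ k ih => rw [pow_succ, mul_smul, hu, ih]
  refine eq_top_of_star hc0 hc1 hctr (Ω := Set.range fun k : ℕ => u ^ k • (C • m)) ?_
    (M.orbit_span hm hμ hβ) ⟨_, 0, rfl⟩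
  rintro _ ⟨k, rfl⟩
  refine ⟨(hctr.group_smul (gen3_left C h s)).group_smul (Subgroup.pow_mem _ (gen3_mid C h s) k), ?_⟩
  show sf m (u ^ k • (C • m)) ≠ 0
  have h1 := sf_smul_smul (u ^ k) m (C • m)
  rw [hupow k] at h1
  rw [h1]
  exact hβ

/-- The word `C⁻¹ u C²` as eigen element. -/
theorem Model.gen_of_data {c₀ : F} (hc0 : c₀ ≠ 0) (hc1 : c₀ ≠ 1) {s : Sp} {γ : F}
    (hs : s⁻¹ * C * s * C⁻¹ = tv (ε (2 * n - 1)) γ) (hγ : γ ≠ 0) {m b : V} {R : F}
    (hm : sf m (ε (2 * n - 1)) ≠ 0) (hb : sf b (ε (2 * n - 1)) ≠ 0) (hR0 : R ≠ 0)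
    (hβ : sf m (C • m) ≠ 0) (h2 : sf m (C • (C • m)) = R * sf m (C • m))
    (hbb : sf b (C • b) = - (R * sf m (C • m)))
    (hgen : ∀ S : Subring F, R * R ∈ S → S = ⊤) : ∃ h : Sp, gen3 C h s = ⊤ := by
  set e := ε (2 * n - 1) with he
  set β := sf m (C • m) with hβdef
  set μ := sf e b / (R * β) with hμdef
  have hRβ : R * β ≠ 0 := mul_ne_zero hR0 hβ
  have hμ : μ ≠ 0 := div_ne_zero (fun h => hb (sf_eq_zero_comm h)) hRβ
  have hμe : μ * (R * β) = sf e b := div_mul_cancel₀ _ hRβ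
  have hli : LinearIndependent F ![μ • m, C • (C • m), R • (C • m)] := by
    simpa using M.li_target hm hμ (d := 0) (a := 0) hR0
  have hvv : sf (C • (C • m)) (C • m) = -β := by rw [sf_smul_smul, sf_swap m (C • m)]
  have hee : sf e (C • b) = sf e b := by rw [← sf_smul_smul C e b, show C • e = e from M.smul_e]
  obtain ⟨h, -, H⟩ := witt ![e, b, C • b] ![μ • m, C • (C • m), R • (C • m)] (M.li_source hb) hli (by
    intro i j
    fin_cases i <;> fin_cases j <;>
      simp [hee, hbb, h2, hvv, ← hβdef, ← hμe, sf_swap e b, sf_swap b (C • b), sf_swap e (C • b),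
        sf_swap m (C • m), sf_swap m (C • (C • m)), sf_swap (C • (C • m)) (C • m)] <;> ring)
  have H0 : h • e = μ • m := H 0
  have H1 : h • b = C • (C • m) := H 1
  have H2 : h • (C • b) = R • (C • m) := H 2
  refine ⟨h, M.gen_of_eigen hc0 hc1 hs hγ H0 hμ hβ (el := C⁻¹ * (h * C * h⁻¹) * (C * C))
    (mul_mem (mul_mem (inv_mem (gen3_left C h s)) (gen3_mid C h s))
      (mul_mem (gen3_left C h s) (gen3_left C h s))) ?_ hgen⟩
  simp only [mul_smul]
  rw [← H1, inv_smul_smul, H2, smul_comm, inv_smul_smul]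

omit M in
theorem sqrt_two [Finite F] (h2 : (2 : F) = 0) (x : F) : ∃ r : F, r * r = x := by
  haveI : CharP F 2 := (CharP.charP_iff_prime_eq_zero Nat.prime_two).2 (by simpa using h2)
  obtain ⟨r, hr⟩ := FiniteField.isSquare_of_char_two (ringChar.eq F 2) x
  exact ⟨r, hr.symm⟩

theorem Model.exists_b [Finite F] {a : F} (ha0 : a ≠ 0) (ha1 : 1 + a ≠ 0) {K₀ : F} (hK : K₀ ≠ 0) :
    ∃ b : V, sf b (ε (2 * n - 1)) ≠ 0 ∧ sf b (C • b) = K₀ := by
  have := M.two_le
  have hg1 : sf (ε 0) (C • ε 0) = 0 := by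
    have := M.g_small (i := 0) (j := 1) (by omega) (by omega); simpa using this
  by_cases h2 : (2 : F) = 0
  · have hneg : ∀ x : F, -x = x := fun x => by linear_combination (-x) * h2
    set b₀ := ε 0 + a • C ^ (n - 1) • ε 0 with hb₀
    have e1 : sf (ε 0) (C • C ^ (n - 1) • ε 0) = 1 := by
      rw [← mul_smul, ← pow_succ', show n - 1 + 1 = n by omega]
      have := M.g_n 0; simpa using this
    have e2 : sf (C ^ (n - 1) • ε 0) (C • ε 0) = 0 := by
      have := M.g_small (i := n - 1) (j := 1) (by omega) (by omega); simpa using this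
    have e3 : sf (C ^ (n - 1) • ε 0) (C • C ^ (n - 1) • ε 0) = 0 := by
      rw [← mul_smul, ← pow_succ']
      exact M.g_small (by omega) (by omega)
    have hb : sf b₀ (C • b₀) = a := by
      simp [hb₀, smul_add, smul_comm C a, hg1, e1, e2, e3]
    have hθ : sf b₀ (ε (2 * n - 1)) = 1 + a := by simp [hb₀, M.theta_zero, M.theta_pow]
    obtain ⟨κ, hκ⟩ := sqrt_two h2 (K₀ / a)
    have hκ0 : κ ≠ 0 := fun h => div_ne_zero hK ha0 (by rw [← hκ, h, mul_zero])
    refine ⟨κ • b₀, ?_, ?_⟩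
    · simp [hθ, hκ0, ha1]
    · simp only [smul_comm C κ, map_smul, LinearMap.smul_apply, hb, smul_eq_mul]
      rw [← mul_assoc, hκ, div_mul_cancel₀ _ ha0]
  · refine ⟨ε 0 + (K₀ / 2) • ε (2 * n - 2), ?_, ?_⟩
    · simp [M.theta_zero, M.gram_eq_zero (a := 2 * n - 2) (b := 2 * n - 1) (by omega)]
    · rw [(M.Q_shift_y _ _).1, hg1, M.theta_zero]
      field_simp
      ring

theorem Model.gen_large (hn : 3 ≤ n) [Finite F] {a R : F} (ha0 : a ≠ 0) (ha1 : 1 + a ≠ 0)
    (hR0 : R ≠ 0) (hR2 : R ≠ 2) (hgen : ∀ S : Subring F, R * R ∈ S → S = ⊤) :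
    ∃ h s : Sp, gen3 C h s = ⊤ := by
  have hφ : sf (ε (2 * n - 2)) (ε (2 * n - 3)) = 0 := M.gram_eq_zero (by omega)
  obtain ⟨s, hs⟩ := M.exists_commutator 1
  rw [hφ, mul_zero, add_zero] at hs
  set m₀ := ε 0 + a • C ^ (n - 2) • ε 0 with hm₀
  have g01 : sf (ε 0) (C • ε 0) = 0 := by
    have := M.g_small (i := 0) (j := 1) (by omega) (by omega); simpa using this
  have g02 : sf (ε 0) (C • C • ε 0) = 0 := by
    have := M.g_small (i := 0) (j := 2) (by omega) (by omega); simpa [pow_two, mul_smul] using this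
  have g1a : sf (ε 0) (C • C ^ (n - 2) • ε 0) = 0 := by
    rw [← mul_smul, ← pow_succ']
    have := M.g_small (i := 0) (j := n - 2 + 1) (by omega) (by omega); simpa using this
  have g2a : sf (ε 0) (C • C • C ^ (n - 2) • ε 0) = 1 := by
    rw [← mul_smul, ← mul_smul, ← pow_two, ← pow_add, show 2 + (n - 2) = n by omega]
    have := M.g_n 0; simpa using this
  have ga1 : sf (C ^ (n - 2) • ε 0) (C • ε 0) = 0 := by
    have := M.g_small (i := n - 2) (j := 1) (by omega) (by omega); simpa using this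
  have ga2 : sf (C ^ (n - 2) • ε 0) (C • C • ε 0) = 0 := by
    have := M.g_small (i := n - 2) (j := 2) (by omega) (by omega); simpa [pow_two, mul_smul] using this
  have gb1 : sf (C ^ (n - 2) • ε 0) (C • C ^ (n - 2) • ε 0) = 0 := by
    rw [← mul_smul, ← pow_succ']
    exact M.g_small (by omega) (by omega)
  have gb2 : sf (C ^ (n - 2) • ε 0) (C • C • C ^ (n - 2) • ε 0) = 0 := by
    rw [← mul_smul, ← mul_smul, ← pow_two, ← pow_add]
    exact M.g_small (by omega) (by omega)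
  have q1 : sf m₀ (C • m₀) = 0 := by simp [hm₀, smul_add, smul_comm C a, g01, g1a, ga1, gb1]
  have q2 : sf m₀ (C • (C • m₀)) = a := by simp [hm₀, smul_add, smul_comm C a, g02, g2a, ga2, gb2]
  have hθ : sf m₀ (ε (2 * n - 1)) = 1 + a := by simp [hm₀, M.theta_zero, M.theta_pow]
  set D := 2 * sf m₀ (ε (2 * n - 2)) - sf m₀ (ε (2 * n - 1)) with hD
  -- the shift direction: `w`, corrected by `y` so that the first form moves
  obtain ⟨c₀, hc0, hc1⟩ : ∃ c₀ : F, c₀ ≠ 0 ∧ c₀ ≠ 1 := by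
    by_cases h : a = 1
    · exact ⟨-a, neg_ne_zero.2 ha0, fun e => ha1 (by linear_combination -e)⟩
    · exact ⟨a, ha0, h⟩
  by_cases hD0 : D = 0
  · -- then the characteristic is odd and `y` alone works
    have h2 : (2 : F) ≠ 0 := fun h2 => ha1 (by
      rw [← hθ]; rw [hD, h2, zero_mul, zero_sub, neg_eq_zero] at hD0; exact hD0)
    set t := a / ((R - 2) * 2 * (1 + a)) with ht
    set m := m₀ + t • ε (2 * n - 2) with hm
    have hQ := M.Q_shift_y m₀ t
    rw [q1, q2, hθ, zero_add] at hQ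
    have hR2' : R - 2 ≠ 0 := sub_ne_zero.2 hR2
    have htne : t ≠ 0 := div_ne_zero ha0 (mul_ne_zero (mul_ne_zero hR2' h2) ha1)
    obtain ⟨b, hb, hbb⟩ := M.exists_b ha0 ha1 (K₀ := -(R * sf m (C • m))) (neg_ne_zero.2 (mul_ne_zero hR0
      (by rw [hm, hQ.1]; exact mul_ne_zero (mul_ne_zero h2 htne) ha1)))
    obtain ⟨h, hh⟩ := M.gen_of_data hc0 hc1
      hs one_ne_zero (m := m) (b := b) (R := R)
      (by simp [hm, hθ, M.gram_eq_zero (a := 2 * n - 2) (b := 2 * n - 1) (by omega), ha1])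
      hb hR0 (by rw [hm, hQ.1]; exact mul_ne_zero (mul_ne_zero h2 htne) ha1)
      (by
        have e : t * ((R - 2) * 2 * (1 + a)) = a :=
          div_mul_cancel₀ _ (mul_ne_zero (mul_ne_zero hR2' h2) ha1)
        rw [hm, hQ.1, hQ.2]; linear_combination -e) hbb hgen
    exact ⟨h, s, hh⟩
  · set t := a / ((R - 2) * D) with ht
    set m := m₀ + t • ε (2 * n - 3) with hm
    have hQ := M.Q_shift_w hn m₀ t
    rw [q1, q2, zero_add, ← hD] at hQ
    have hR2' : R - 2 ≠ 0 := sub_ne_zero.2 hR2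
    have htne : t ≠ 0 := div_ne_zero ha0 (mul_ne_zero hR2' hD0)
    obtain ⟨b, hb, hbb⟩ := M.exists_b ha0 ha1 (K₀ := -(R * sf m (C • m))) (neg_ne_zero.2 (mul_ne_zero hR0
      (by rw [hm, hQ.1]; exact mul_ne_zero htne hD0)))
    obtain ⟨h, hh⟩ := M.gen_of_data hc0 hc1 hs one_ne_zero (m := m) (b := b) (R := R)
      (by simp [hm, hθ, M.gram_eq_zero (a := 2 * n - 3) (b := 2 * n - 1) (by omega), ha1])
      hb hR0 (by rw [hm, hQ.1]; exact mul_ne_zero htne hD0)
      (by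
        have e : t * ((R - 2) * D) = a := div_mul_cancel₀ _ (mul_ne_zero hR2' hD0)
        rw [hm, hQ.1, hQ.2]; linear_combination -e) hbb hgen
    exact ⟨h, s, hh⟩

end Shift

end H48
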