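import Mathlib
import Cfsg.Agent.H48.ShiftGen

/-!
# Assembly: three conjugate regular unipotents generate `Sp(2n, q)`
-/

set_option autoImplicit false

namespace H48

namespace Shift

open Matrix
open H49 (IsCtr)

variable {F : Type*} [Field F] [Fintype F] {n : ℕ}

local notation "V" => (Fin n ⊕ Fin n → F)
local notation "Sp" => Matrix.symplecticGroup (Fin n) F

omit [Fintype F] in
/-- If `S` contains `R²` and `R` is a generator-like element. -/
theorem subring_top_of_unit {ζ : Fˣ} (hζ : ∀ x : Fˣ, x ∈ Subgroup.zpowers ζ) {R : F}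
    (hR : R = (ζ : F) ∨ (ζ : F) = 2) [Fintype F] (S : Subring F) (hS : R * R ∈ S) : S = ⊤ := by
  refine H44.subring_eq_top hζ S ?_
  rcases hR with rfl | h
  · exact hS
  · rw [h, show (2 : F) = 1 + 1 by norm_num]
    exact S.mul_mem (S.add_mem S.one_mem S.one_mem) (S.add_mem S.one_mem S.one_mem)

theorem exists_unit_ne_one (hq : 3 ≤ Fintype.card F) :
    ∃ ζ : Fˣ, (∀ x : Fˣ, x ∈ Subgroup.zpowers ζ) ∧ (ζ : F) ≠ 1 := by
  obtain ⟨ζ, hζ⟩ := H44.exists_unit_gen F
  refine ⟨ζ, hζ, fun e => ?_⟩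
  have h1 : ∀ x : Fˣ, x = 1 := fun x => by
    obtain ⟨k, hk⟩ := hζ x
    rw [← hk, show ζ = 1 from Units.ext e]; simp
  have : Subsingleton Fˣ := ⟨fun x y => by rw [h1 x, h1 y]⟩
  classical
  have := Fintype.card_le_one_iff_subsingleton.2 this
  rw [Fintype.card_units] at this
  omega

/-- `ζ + ζ⁻¹` generates the field unless there are only four elements. -/
theorem subring_top_of_sum_inv {ζ : Fˣ} (hζ : ∀ x : Fˣ, x ∈ Subgroup.zpowers ζ)
    (hq : 5 ≤ Fintype.card F) {R : F} (h2 : (2 : F) = 0) (hR : R * (ζ : F) = 1 + (ζ : F) * ζ)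
    (S : Subring F) (hS : R * R ∈ S) : S = ⊤ := by
  classical
  have hneg : ∀ x : F, -x = x := fun x => by linear_combination (-x) * h2
  haveI : CharP F 2 := (CharP.charP_iff_prime_eq_zero Nat.prime_two).2 (by simpa using h2)
  -- `R` itself lies in `S`
  let _ : Fintype S := Fintype.ofFinite _
  let _ : Field S := Fintype.fieldOfDomain S
  have hpow : ∀ x : S, x ^ Fintype.card S = x := FiniteField.pow_card
  have hsq : Function.Injective fun x : S => x * x := fun a b h => by
    have h' : (a : F) * a = (b : F) * b := congrArg Subtype.val h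
    apply Subtype.ext
    have : ((a : F) - b) * ((a : F) - b) = 0 := by linear_combination h' + ((b : F) * b - (a : F) * b) * h2
    exact sub_eq_zero.1 ((mul_self_eq_zero).1 this)
  obtain ⟨⟨R', hR'S⟩, hR'⟩ := (Finite.injective_iff_surjective.1 hsq) ⟨R * R, hS⟩
  have hRS : R ∈ S := by
    have h' : R' * R' = R * R := congrArg Subtype.val hR'
    have : (R' - R) * (R' - R) = 0 := by linear_combination h' + (R * R - R' * R) * h2
    rw [← sub_eq_zero.1 (mul_self_eq_zero.1 this)]
    exact hR'S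
  set s := Fintype.card S with hsdef
  have hRs : R ^ s = R := congrArg Subtype.val (hpow ⟨R, hRS⟩)
  -- Frobenius of the subfield
  obtain ⟨k, hs⟩ : ∃ k, s = 2 ^ k := by
    haveI : CharP S 2 := CharP.subring F 2 S
    obtain ⟨k, -, hk⟩ := FiniteField.card S 2
    exact ⟨k, hk⟩
  have hadd : ∀ x y : F, (x + y) ^ s = x ^ s + y ^ s := fun x y => by
    rw [hs]; exact add_pow_char_pow x y 2 k
  have hζ0 : (ζ : F) ≠ 0 := ζ.ne_zero
  set z := (ζ : F) ^ s with hz
  have hroot : R * z = 1 + z * z := by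
    have := congrArg (· ^ s) hR
    simpa [mul_pow, hadd, hRs, hz] using this
  have hcases : z = ζ ∨ z * ζ = 1 := by
    have : (z - ζ) * (z * ζ - 1) = 0 := by linear_combination (z) * hR - (ζ : F) * hroot
    rcases mul_eq_zero.1 this with h | h
    · exact Or.inl (sub_eq_zero.1 h)
    · exact Or.inr (sub_eq_zero.1 h)
  have hord : orderOf (ζ : F) = Fintype.card F - 1 := by
    rw [orderOf_units, orderOf_eq_card_of_forall_mem_zpowers hζ, Nat.card_units, Nat.card_eq_fintype_card]
  have hs2 : 2 ≤ s := Fintype.one_lt_card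
  have hbound : Fintype.card F ≤ s + 2 := by
    rcases hcases with h | h
    · have hp : (ζ : F) ^ (s - 1) = 1 := by
        refine mul_right_cancel₀ hζ0 ?_
        rw [← pow_succ, Nat.sub_add_cancel (by omega), one_mul]
        exact h
      have := Nat.le_of_dvd (by omega) (hord ▸ orderOf_dvd_of_pow_eq_one hp)
      omega
    · rw [hz, ← pow_succ] at h
      have := Nat.le_of_dvd (by omega) (hord ▸ orderOf_dvd_of_pow_eq_one h)
      omega
  have hdvd : s ∣ Fintype.card F := by
    have := AddSubgroup.card_addSubgroup_dvd_card S.toAddSubgroup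
    rw [Nat.card_eq_fintype_card (α := F)] at this
    rwa [hsdef, ← Nat.card_eq_fintype_card]
  obtain ⟨d, hd⟩ := hdvd
  have hd1 : d = 1 := by
    rcases d with _ | _ | d
    · omega
    · rfl
    · nlinarith
  rw [hd1, mul_one] at hd
  have hsurj : Function.Surjective (Subtype.val : S → F) :=
    ((Fintype.bijective_iff_injective_and_card _).2 ⟨Subtype.val_injective, hd.symm⟩).2
  rw [eq_top_iff]
  intro x _
  obtain ⟨y, rfl⟩ := hsurj x
  exact y.2

variable {C : Matrix.symplecticGroup (Fin n) F} {ε : ℕ → (Fin n ⊕ Fin n → F)} (M : Model C ε)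
include M

theorem Model.gen_two (hn : n = 2) (hq : 3 ≤ Fintype.card F) : ∃ h s : Sp, gen3 C h s = ⊤ := by
  classical
  obtain ⟨ζ, hζ, hζ1⟩ := exists_unit_ne_one hq
  have hζ0 : (ζ : F) ≠ 0 := ζ.ne_zero
  have hφ : sf (ε (2 * n - 2)) (ε (2 * n - 3)) = 1 := by
    rw [M.gram_anti (by omega), show 2 * n - 2 = 2 * 1 by omega, pow_mul]
    simp
  have g01 : sf (ε 0) (C • ε 0) = 0 := by
    have := M.g_small (i := 0) (j := 1) (by omega) (by omega); simpa using this
  have g02 : sf (ε 0) (C • C • ε 0) = 1 := by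
    have := M.g_n 0
    rw [show 0 + n = 2 by omega] at this
    simpa [pow_two, mul_smul] using this
  by_cases h2 : (2 : F) = 0
  · have hneg : ∀ x : F, -x = x := fun x => by linear_combination (-x) * h2
    have g03 : sf (ε 0) (C • C • C • ε 0) = 0 := by
      have := M.g_succ 0
      rw [show 0 + (n + 1) = 3 by omega] at this
      rw [h2, zero_mul] at this
      simpa [pow_succ, mul_smul] using this
    set m := ε 0 + (ζ : F) • C • ε 0 with hm
    have hθm : sf m (ε (2 * n - 1)) = 1 + ζ := by simp [hm, M.theta_zero, M.theta_smul]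
    have h1ζ : (1 : F) + ζ ≠ 0 := fun e => hζ1 (by linear_combination e - h2)
    have q1 : sf m (C • m) = ζ := by
      simp [hm, smul_add, smul_comm C (ζ : F), g01, g02]
    have q2 : sf m (C • (C • m)) = 1 + ζ * ζ := by
      simp [hm, smul_add, smul_comm C (ζ : F), g01, g02, g03, mul_comm]
    obtain ⟨s, hs⟩ := M.exists_commutator (ζ : F)
    rw [hφ, mul_one] at hs
    have hγ : (ζ : F) + (ζ : F) ^ 2 ≠ 0 := by
      rw [show (ζ : F) + (ζ : F) ^ 2 = (ζ : F) * (1 + ζ) by ring]
      exact mul_ne_zero hζ0 h1ζ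
    by_cases hq5 : 5 ≤ Fintype.card F
    · set R := (1 + (ζ : F) * ζ) / ζ with hR
      have hRm : R * (ζ : F) = 1 + (ζ : F) * ζ := div_mul_cancel₀ _ hζ0
      have hR0 : R ≠ 0 := by
        refine div_ne_zero (fun e => h1ζ ?_) hζ0
        have : (1 + (ζ : F)) * (1 + ζ) = 0 := by linear_combination e + (ζ : F) * h2
        exact mul_self_eq_zero.1 this
      obtain ⟨b, hb, hbb⟩ := M.exists_b hζ0 h1ζ (K₀ := -(R * sf m (C • m)))
        (neg_ne_zero.2 (mul_ne_zero hR0 (by rw [q1]; exact hζ0)))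
      obtain ⟨h, hh⟩ := M.gen_of_data hζ0 hζ1 hs hγ (m := m) (b := b) (R := R) (by rw [hθm]; exact h1ζ)
        hb hR0 (by rw [q1]; exact hζ0) (by rw [q1, q2, hRm]) hbb
        (subring_top_of_sum_inv hζ hq5 h2 hRm)
      exact ⟨h, s, hh⟩
    · -- four elements
      have h4 : Fintype.card F = 4 := by
        haveI : CharP F 2 := (CharP.charP_iff_prime_eq_zero Nat.prime_two).2 (by simpa using h2)
        obtain ⟨k, -, hk⟩ := FiniteField.card F 2
        have : (k : ℕ) < 3 := by
          by_contra hlt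
          have := Nat.pow_le_pow_right (n := 2) two_pos (show 3 ≤ (k : ℕ) by omega)
          omega
        interval_cases (k : ℕ) <;> omega
      have h3 : (ζ : F) * ζ * ζ = 1 := by
        have := FiniteField.pow_card_sub_one_eq_one (ζ : F) hζ0
        rw [h4] at this
        linear_combination this
      have hz : (ζ : F) * ζ + ζ + 1 = 0 := by
        refine (mul_eq_zero.1 (?_ : ((ζ : F) - 1) * ((ζ : F) * ζ + ζ + 1) = 0)).resolve_left (sub_ne_zero.2 hζ1)
        linear_combination h3
      have hγ1 : (ζ : F) + (ζ : F) ^ 2 = 1 := by linear_combination hz - h2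
      rw [hγ1] at hs
      obtain ⟨lam, hlam⟩ : ∃ lam : F, lam = (ζ : F) * ζ := ⟨_, rfl⟩
      set T := m + sf m (C • m) • (C • m) with hT
      have hT1 : T = m + (ζ : F) • (C • m) := by rw [hT, q1]
      have hv2 : sf (C • (C • m)) (C • m) = -(ζ : F) := by rw [sf_smul_smul, sf_swap m (C • m), q1]
      have hlam0 : lam ≠ 0 := hlam ▸ mul_ne_zero hζ0 hζ0
      have hθb : sf (lam • m) (ε (2 * n - 1)) ≠ 0 := by
        rw [map_smul, LinearMap.smul_apply, hθm]
        exact mul_ne_zero hlam0 h1ζ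
      have hli : LinearIndependent F ![(1 : F) • m, C • (C • m), lam • T] := by
        have := M.li_target (m := m) (by rw [hθm]; exact h1ζ) (μ := 1) (d := 0) (a := lam)
          (b := lam * ζ) one_ne_zero (mul_ne_zero hlam0 hζ0)
        simpa [hT1, smul_add, smul_smul] using this
      set e := ε (2 * n - 1) with he
      have hem : sf e m = 1 + ζ := by rw [sf_swap m e, hθm, hneg]
      have heCm : sf e (C • m) = 1 + ζ := by
        rw [← hem, ← sf_smul_smul C e m, show C • e = e from M.smul_e]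
      have hCb : C • (lam • m) = lam • (C • m) := smul_comm _ _ _
      obtain ⟨h, -, H⟩ := witt ![e, lam • m, C • (lam • m)] ![(1 : F) • m, C • (C • m), lam • T]
        (M.li_source hθb) hli (by
          intro i j
          fin_cases i <;> fin_cases j <;>
            simp [hCb, hem, heCm, hT1, q1, q2, hv2, sf_swap e m, sf_swap m (C • m), sf_swap m (C • (C • m)),
              sf_swap (C • (C • m)) (C • m), sf_swap e (C • m), hneg] <;>
            subst hlam <;> grind)
      have H0 : h • e = (1 : F) • m := H 0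
      have H1 : h • (lam • m) = C • (C • m) := H 1
      have H2 : h • (C • (lam • m)) = lam • T := H 2
      have hz0 : tv m 1 ∈ gen3 C h s := by simpa using gen3_tv hs H0
      have hzC : C * tv m 1 * C⁻¹ ∈ gen3 C h s :=
        mul_mem (mul_mem (gen3_left C h s) hz0) (inv_mem (gen3_left C h s))
      have hTeq : (C * tv m 1 * C⁻¹) • m = T := by
        rw [tv_conj, tv_smul, one_mul, hT]
      refine ⟨h, s, M.gen_of_eigen hζ0 hζ1 hs one_ne_zero H0 one_ne_zero (by rw [q1]; exact hζ0)
        (el := (C * tv m 1 * C⁻¹)⁻¹ * (h * C * h⁻¹) * (C * C))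
        (mul_mem (mul_mem (inv_mem hzC) (gen3_mid C h s)) (mul_mem (gen3_left C h s) (gen3_left C h s)))
        (R := lam) ?_ fun S hS => H44.subring_eq_top hζ S ?_⟩
      · rw [mul_smul, mul_smul C C, ← H1, mul_smul, mul_smul (h * C), inv_smul_smul, mul_smul, H2,
          ← hTeq, smul_comm, inv_smul_smul]
      · have e : lam * lam = (ζ : F) := by rw [hlam]; linear_combination (ζ : F) * h3
        rw [e] at hS
        exact S.mul_mem hS hS
  · obtain ⟨s, hs⟩ := M.exists_commutator (-(ζ : F))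
    rw [hφ, mul_one] at hs
    have hγ : -(ζ : F) + (-(ζ : F)) ^ 2 ≠ 0 := by
      rw [show -(ζ : F) + (-(ζ : F)) ^ 2 = (ζ : F) * (ζ - 1) by ring]
      exact mul_ne_zero hζ0 (sub_ne_zero.2 hζ1)
    have h1a : (1 : F) + -(ζ : F) ≠ 0 := fun e => hζ1 (by linear_combination -e)
    obtain ⟨R, hR0, hR2, hRgen⟩ : ∃ R : F, R ≠ 0 ∧ R ≠ 2 ∧ ∀ S : Subring F, R * R ∈ S → S = ⊤ := by
      by_cases h : (ζ : F) = 2
      · exact ⟨1, one_ne_zero, fun e => one_ne_zero (α := F) (by linear_combination -e),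
          fun S => subring_top_of_unit hζ (Or.inr h) S⟩
      · exact ⟨ζ, hζ0, h, fun S => subring_top_of_unit hζ (Or.inl rfl) S⟩
    set t := 1 / (2 * (R - 2)) with ht
    set m := ε 0 + t • ε (2 * n - 2) with hm
    have hQ := M.Q_shift_y (ε 0) t
    rw [g01, g02, M.theta_zero, zero_add, mul_one, mul_one] at hQ
    have htne : t ≠ 0 := one_div_ne_zero (mul_ne_zero h2 (sub_ne_zero.2 hR2))
    obtain ⟨b, hb, hbb⟩ := M.exists_b (neg_ne_zero.2 hζ0) h1a (K₀ := -(R * sf m (C • m)))
      (neg_ne_zero.2 (mul_ne_zero hR0 (by rw [hm, hQ.1]; exact mul_ne_zero h2 htne)))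
    obtain ⟨h, hh⟩ := M.gen_of_data hζ0 hζ1 hs hγ (m := m) (b := b) (R := R)
      (by simp [hm, M.theta_zero, M.gram_eq_zero (a := 2 * n - 2) (b := 2 * n - 1) (by omega)])
      hb hR0 (by rw [hm, hQ.1]; exact mul_ne_zero h2 htne)
      (by
        have e : t * (2 * (R - 2)) = 1 := div_mul_cancel₀ _ (mul_ne_zero h2 (sub_ne_zero.2 hR2))
        rw [hm, hQ.1, hQ.2]; linear_combination -e) hbb hRgen
    exact ⟨h, s, hh⟩

theorem Model.gen_binary (hn : 3 ≤ n) (hq : Fintype.card F = 2) : ∃ h s : Sp, gen3 C h s = ⊤ := by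
  classical
  have hF2 : ∀ x : F, x = 0 ∨ x = 1 := by
    intro x
    by_contra h
    push Not at h
    have := Finset.card_le_univ ({0, 1, x} : Finset F)
    rw [Finset.card_insert_of_notMem (by simp [h.1.symm]), Finset.card_pair h.2.symm, hq] at this
    omega
  obtain ⟨s, hs⟩ := M.exists_commutator 1
  rw [M.gram_eq_zero (a := 2 * n - 2) (b := 2 * n - 3) (by omega), mul_zero, add_zero] at hs
  have g01 : sf (ε 0) (C • ε 0) = 0 := by
    have := M.g_small (i := 0) (j := 1) (by omega) (by omega); simpa using this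
  have hey : sf (ε (2 * n - 1)) (ε (2 * n - 2)) = 0 := M.gram_eq_zero (by omega)
  have hsrc : LinearIndependent F ![ε (2 * n - 1), ε (2 * n - 2)] := by
    rw [LinearIndependent.pair_iff]
    intro a b hab
    have h1 := congrArg (fun v => C • v - v) hab
    simp only [smul_add, smul_comm C a, smul_comm C b, M.smul_e, M.smul_y, smul_zero, sub_zero] at h1
    have hb : b • ε (2 * n - 1) = 0 := by rw [← h1]; abel
    have hb' : b = 0 := (smul_eq_zero.1 hb).resolve_right M.e_ne
    rw [hb', zero_smul, add_zero] at hab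
    exact ⟨(smul_eq_zero.1 hab).resolve_right M.e_ne, hb'⟩
  have htgt : LinearIndependent F ![ε 0, C • ε 0] := by
    rw [LinearIndependent.pair_iff]
    intro a b hab
    obtain ⟨h1, h2, -⟩ := M.li_three (z := ε 0) (by rw [M.theta_zero]; exact one_ne_zero)
      (p := a) (r := b) (q := 0) (by rw [zero_smul, add_zero]; exact hab)
    exact ⟨h1, h2⟩
  obtain ⟨h, -, H⟩ := witt ![ε (2 * n - 1), ε (2 * n - 2)] ![ε 0, C • ε 0] hsrc htgt (by
    intro i j
    fin_cases i <;> fin_cases j <;> simp [hey, g01, sf_eq_zero_comm hey, sf_eq_zero_comm g01])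
  have H0 : h • ε (2 * n - 1) = ε 0 := H 0
  have H1 : h • ε (2 * n - 2) = C • ε 0 := H 1
  have hz : tv (ε 0) 1 ∈ gen3 C h s := by
    simpa using gen3_tv hs (μ := (1 : F)) (x := ε 0) (by rw [one_smul]; exact H0)
  have hctr : IsCtr (gen3 C h s) (ε 0) := fun c => by
    rcases hF2 c with rfl | rfl
    · rw [tv_zero]; exact one_mem _
    · exact hz
  refine ⟨h, s, eq_top_of_chain M (gen3_left C h s) hctr ?_⟩
  have hu : (h * C * h⁻¹) • (C • ε 0) = C • ε 0 + ε 0 := by
    rw [← H1, mul_smul, inv_smul_smul, mul_smul, M.smul_y, smul_add, H1, H0]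
  have := (hctr.group_smul (gen3_left C h s)).group_smul (gen3_mid C h s)
  rwa [hu] at this

theorem Model.gen_any (h22 : ¬ (n = 2 ∧ Fintype.card F = 2)) : ∃ h s : Sp, gen3 C h s = ⊤ := by
  have hn := M.two_le
  have h1 : 1 < Fintype.card F := Fintype.one_lt_card
  by_cases hq : 3 ≤ Fintype.card F
  · rcases eq_or_lt_of_le hn with h | h
    · exact M.gen_two h.symm hq
    · obtain ⟨ζ, hζ, hζ1⟩ := exists_unit_ne_one hq
      have h1a : (1 : F) + -(ζ : F) ≠ 0 := fun e => hζ1 (by linear_combination -e)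
      obtain ⟨R, hR0, hR2, hRgen⟩ : ∃ R : F, R ≠ 0 ∧ R ≠ 2 ∧ ∀ S : Subring F, R * R ∈ S → S = ⊤ := by
        by_cases h : (ζ : F) = 2
        · exact ⟨1, one_ne_zero, fun e => one_ne_zero (α := F) (by linear_combination -e),
            fun S => subring_top_of_unit hζ (Or.inr h) S⟩
        · exact ⟨ζ, ζ.ne_zero, h, fun S => subring_top_of_unit hζ (Or.inl rfl) S⟩
      exact M.gen_large h (neg_ne_zero.2 ζ.ne_zero) h1a hR0 hR2 hRgen
  · exact M.gen_binary (by
      rcases eq_or_lt_of_le hn with h | h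
      · exact absurd ⟨h.symm, by omega⟩ h22
      · exact h) (by omega)

omit M in
/-- Three conjugate regular unipotents generating the symplectic group. -/
theorem exists_three_regular (F : Type*) [Field F] [Fintype F] (n : ℕ) (hn : 2 ≤ n)
    (h22 : ¬ (n = 2 ∧ Fintype.card F = 2)) :
    ∃ u g h : Matrix.symplecticGroup (Fin n) F,
      IsNilpotent ((u : Matrix (Fin n ⊕ Fin n) (Fin n ⊕ Fin n) F) - 1) ∧
      ((u : Matrix (Fin n ⊕ Fin n) (Fin n ⊕ Fin n) F) - 1) ^ (2 * n - 1) ≠ 0 ∧
      Subgroup.closure ({u, g * u * g⁻¹, h * u * h⁻¹} : Set (Matrix.symplecticGroup (Fin n) F)) = ⊤ := by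
  obtain ⟨C, ε, M⟩ := exists_Model F n hn
  obtain ⟨h, s, hgen⟩ := M.gen_any h22
  exact ⟨C, h, h * s⁻¹, ⟨2 * n, M.N_nil⟩, M.N_top, hgen⟩

end Shift

end H48
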