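import Mathlib
import Cfsg.Agent.H48.Diag

/-!
# The normaliser of the diagonal torus of `Sp_{2m}(q)`, `q ≥ 4`
-/

set_option autoImplicit false

namespace H48

open Matrix

variable {m : ℕ} {F : Type*} [Field F]

local notation "I" => (Fin m ⊕ Fin m)
local notation "V" => (Fin m ⊕ Fin m → F)
local notation "Sp" => Matrix.symplecticGroup (Fin m) F

/-- The diagonal torus, in the form used in the statement. -/
def torus (m : ℕ) (F : Type*) [Field F] : Subgroup (Matrix.symplecticGroup (Fin m) F) :=
  ⨅ i : Fin m ⊕ Fin m, Cfsg.stabilizing (Cfsg.spToMat m F)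
    ((Submodule.span F {(Pi.single i (1 : F) : Fin m ⊕ Fin m → F)} :
      Submodule F (Fin m ⊕ Fin m → F)) : Set (Fin m ⊕ Fin m → F))

theorem mem_span_single {x : I} {v : V} :
    v ∈ Submodule.span F {(Pi.single x (1 : F) : V)} ↔ ∃ c, v = Pi.single x c := by
  rw [Submodule.mem_span_singleton]
  constructor
  · rintro ⟨c, rfl⟩; exact ⟨c, by rw [← Pi.single_smul, smul_eq_mul, mul_one]⟩
  · rintro ⟨c, rfl⟩; exact ⟨c, by rw [← Pi.single_smul, smul_eq_mul, mul_one]⟩

theorem single_eq_smul (x : I) (c : F) : (Pi.single x c : V) = c • Pi.single x 1 := by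
  rw [← Pi.single_smul, smul_eq_mul, mul_one]

theorem mem_torus {g : Sp} :
    g ∈ torus m F ↔ ∀ x : I, ∃ c, g • (Pi.single x 1 : V) = Pi.single x c := by
  rw [torus, Subgroup.mem_iInf]
  constructor
  · intro h x
    exact mem_span_single.1 ((h x _).1 (Submodule.mem_span_singleton_self _))
  · intro h x v
    obtain ⟨c, hc⟩ := h x
    have hc0 : c ≠ 0 := by
      rintro rfl
      rw [Pi.single_zero, smul_eq_zero_iff_eq] at hc
      simp at hc
    change v ∈ Submodule.span F {_} ↔ g • v ∈ Submodule.span F {_}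
    constructor
    · intro hv
      obtain ⟨a, rfl⟩ := Submodule.mem_span_singleton.1 hv
      rw [smul_comm, hc]
      exact Submodule.smul_mem _ _ (mem_span_single.2 ⟨c, rfl⟩)
    · intro hv
      obtain ⟨a, ha⟩ := mem_span_single.1 hv
      refine mem_span_single.2 ⟨a / c, ?_⟩
      have : g • (Pi.single x (a / c) : V) = g • v := by
        rw [ha, single_eq_smul x (a / c), smul_comm, hc, ← Pi.single_smul, smul_eq_mul,
          div_mul_cancel₀ _ hc0]
      exact (smul_left_cancel g this).symm

/-- Monomial elements. -/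
def IsMono (g : Sp) : Prop :=
  ∀ x : I, ∃ (y : I) (c : F), g • (Pi.single x 1 : V) = Pi.single y c

theorem IsMono.coeff_ne {g : Sp} {x y : I} {c : F} (h : g • (Pi.single x 1 : V) = Pi.single y c) :
    c ≠ 0 := by
  rintro rfl
  rw [Pi.single_zero, smul_eq_zero_iff_eq] at h
  simp at h

theorem IsMono.inv {g : Sp} (hg : IsMono g) : IsMono g⁻¹ := by
  classical
  choose y c hyc using hg
  have hinj : Function.Injective y := by
    intro a b e
    by_contra hne
    have hcb := IsMono.coeff_ne (hyc b)
    have h : g • (Pi.single a 1 : V) = g • ((c a / c b) • (Pi.single b 1 : V)) := by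
      rw [smul_comm, hyc, hyc, ← Pi.single_smul, smul_eq_mul, div_mul_cancel₀ _ hcb, e]
    have := congrFun (smul_left_cancel g h) a
    simp [hne] at this
  intro x
  obtain ⟨a, rfl⟩ := (Finite.injective_iff_surjective.1 hinj) x
  refine ⟨a, (c a)⁻¹, ?_⟩
  rw [inv_smul_eq_iff, single_eq_smul a, smul_comm, hyc, ← Pi.single_smul, smul_eq_mul,
    inv_mul_cancel₀ (IsMono.coeff_ne (hyc a))]

/-- The diagonal element `diag(a,a⁻¹)` at `i`. -/
noncomputable def torusElt (a : Fˣ) (i : Fin m) : Sp :=
  diagHom (fun j => if j = i then ⟨!![(a : F), 0; 0, ((a⁻¹ : Fˣ) : F)], by simp [Matrix.det_fin_two_of]⟩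
    else 1)

theorem torusElt_smul (a : Fˣ) (i : Fin m) (x : I) (c : F) :
    torusElt a i • (Pi.single x c : V) =
      Pi.single x (c * Sum.elim (fun j => if j = i then (a : F) else 1)
        (fun j => if j = i then ((a⁻¹ : Fˣ) : F) else 1) x) := by
  funext z
  rcases z with j | j
  · rw [torusElt, diagHom_smul_inl]
    rcases x with k | k <;> rcases eq_or_ne j k with rfl | hk <;>
      rcases eq_or_ne j i with rfl | hj <;>
      simp [Pi.single_apply, *, mul_comm]
  · rw [torusElt, diagHom_smul_inr]
    rcases x with k | k <;> rcases eq_or_ne j k with rfl | hk <;>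
      rcases eq_or_ne j i with rfl | hj <;>
      simp [Pi.single_apply, *, mul_comm]

theorem torusElt_mem (a : Fˣ) (i : Fin m) : torusElt a i ∈ torus m F :=
  mem_torus.2 fun x => ⟨_, torusElt_smul a i x 1⟩

theorem mem_normalizer_torus_iff (hq : ∃ a : Fˣ, (a : F) * a ≠ 1) (g : Sp) :
    g ∈ Subgroup.normalizer (torus m F : Set Sp) ↔ IsMono g := by
  classical
  constructor
  · intro hg x
    have hg' := Subgroup.inv_mem _ hg
    rw [Subgroup.mem_normalizer_iff] at hg'
    set v : V := g • (Pi.single x 1 : V) with hv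
    have heig : ∀ t : Sp, t ∈ torus m F → ∃ c : F, t • v = c • v := by
      intro t ht
      obtain ⟨c, hc⟩ := mem_torus.1 ((hg' t).1 ht) x
      refine ⟨c, ?_⟩
      rw [inv_inv, mul_smul, mul_smul, inv_smul_eq_iff] at hc
      rw [hv, hc, single_eq_smul, smul_comm]
    obtain ⟨y, hy⟩ : ∃ y, v y ≠ 0 := by
      by_contra h
      simp only [not_exists, not_not] at h
      have : v = 0 := funext h
      rw [hv, smul_eq_zero_iff_eq] at this
      simp at this
    refine ⟨y, v y, ?_⟩
    funext z
    rcases eq_or_ne z y with rfl | hzy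
    · simp [hv]
    rw [Pi.single_eq_of_ne hzy]
    by_contra hz
    -- separate `y` and `z` by a torus element
    obtain ⟨a, ha⟩ := hq
    have ha1 : (a : F) ≠ 1 := fun h => ha (by rw [h, one_mul])
    have ha2 : ((a⁻¹ : Fˣ) : F) ≠ 1 := fun h => ha1 (by
      rw [Units.val_eq_one, inv_eq_one] at h
      rw [h, Units.val_one])
    have ha3 : (a : F) ≠ ((a⁻¹ : Fˣ) : F) := fun h => ha (by
      nth_rewrite 2 [h]
      exact a.mul_inv)
    let i : Fin m := Sum.elim id id y
    obtain ⟨c, hc⟩ := heig _ (torusElt_mem a i)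
    let φ : I → F := Sum.elim (fun j => if j = i then (a : F) else 1)
        (fun j => if j = i then ((a⁻¹ : Fˣ) : F) else 1)
    have hsum : torusElt a i • v = fun w => v w * φ w := by
      conv_lhs => rw [← Finset.univ_sum_single v, Finset.smul_sum]
      simp only [torusElt_smul]
      rw [Finset.univ_sum_single (fun w => v w * φ w)]
    have h1 := congrFun (hsum.symm.trans hc) y
    have h2 := congrFun (hsum.symm.trans hc) z
    simp only [Pi.smul_apply, smul_eq_mul] at h1 h2
    rw [mul_comm c] at h1 h2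
    have hyz : φ y = φ z := (mul_left_cancel₀ hy h1).trans (mul_left_cancel₀ hz h2).symm
    rcases y with j | j <;> rcases z with k | k <;> by_cases hkj : k = j <;>
      simp [φ, i, hkj] at hyz hzy
    all_goals
      first
        | exact ha1 hyz
        | exact ha2 hyz
        | exact ha3 hyz
        | exact ha3 hyz.symm
        | exact ha1 hyz.symm
        | exact ha2 hyz.symm
        | (apply ha3; simpa using hyz)
        | (apply ha1; simpa using hyz)
        | (apply ha2; simpa using hyz)
        | (apply ha3; simpa using hyz.symm)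
  · intro hg
    have key : ∀ {g : Sp}, IsMono g → ∀ t ∈ torus m F, g * t * g⁻¹ ∈ torus m F := by
      intro g hg t ht
      refine mem_torus.2 fun x => ?_
      obtain ⟨y, c, hy⟩ := hg.inv x
      obtain ⟨b, hb⟩ := mem_torus.1 ht y
      refine ⟨b, ?_⟩
      rw [mul_smul, mul_smul, hy, single_eq_smul y c, smul_comm t c, hb, single_eq_smul y b,
        smul_comm c b, ← single_eq_smul y c, smul_comm g b, ← hy, smul_inv_smul, ← single_eq_smul]
    rw [Subgroup.mem_normalizer_iff]
    intro t
    refine ⟨key hg t, fun h => ?_⟩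
    have := key hg.inv _ h
    simpa [mul_assoc] using this

/-- The monomial element attached to a permutation, sides and scalars. -/
noncomputable def monoElt (d : Equiv.Perm (Fin m) × (Fin m → Bool) × (Fin m → Fˣ)) : Sp :=
  permHom d.1 * diagHom (fun i => if d.2.1 i then
      ⟨!![0, (d.2.2 i : F); -(((d.2.2 i)⁻¹ : Fˣ) : F), 0], by simp [Matrix.det_fin_two_of]⟩
    else ⟨!![(d.2.2 i : F), 0; 0, (((d.2.2 i)⁻¹ : Fˣ) : F)], by simp [Matrix.det_fin_two_of]⟩)

theorem monoElt_inl (d : Equiv.Perm (Fin m) × (Fin m → Bool) × (Fin m → Fˣ)) (i : Fin m) :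
    monoElt d • (Pi.single (Sum.inl i) 1 : V) = if d.2.1 i
      then Pi.single (Sum.inr (d.1 i)) (-(((d.2.2 i)⁻¹ : Fˣ) : F))
      else Pi.single (Sum.inl (d.1 i)) (d.2.2 i : F) := by
  rw [monoElt, mul_smul]
  funext z
  rcases z with j | j
  · rw [permHom_smul_inl, diagHom_smul_inl]
    by_cases h : d.2.1 i <;> simp [h, Pi.single_apply, Equiv.symm_apply_eq] <;>
      split_ifs with hj <;> simp_all
  · rw [permHom_smul_inr, diagHom_smul_inr]
    by_cases h : d.2.1 i <;> simp [h, Pi.single_apply, Equiv.symm_apply_eq] <;>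
      split_ifs with hj <;> simp_all

theorem monoElt_inr (d : Equiv.Perm (Fin m) × (Fin m → Bool) × (Fin m → Fˣ)) (i : Fin m) :
    monoElt d • (Pi.single (Sum.inr i) 1 : V) = if d.2.1 i
      then Pi.single (Sum.inl (d.1 i)) (d.2.2 i : F)
      else Pi.single (Sum.inr (d.1 i)) ((((d.2.2 i)⁻¹ : Fˣ) : F)) := by
  rw [monoElt, mul_smul]
  funext z
  rcases z with j | j
  · rw [permHom_smul_inl, diagHom_smul_inl]
    by_cases h : d.2.1 i <;> simp [h, Pi.single_apply, Equiv.symm_apply_eq] <;>
      split_ifs with hj <;> simp_all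
  · rw [permHom_smul_inr, diagHom_smul_inr]
    by_cases h : d.2.1 i <;> simp [h, Pi.single_apply, Equiv.symm_apply_eq] <;>
      split_ifs with hj <;> simp_all

theorem sf_single_left (x : I) (c : F) (v : V) :
    sf (Pi.single x c : V) v = c * (Matrix.J (Fin m) F *ᵥ v) x := by
  rw [sf_def, single_dotProduct]

theorem exists_monoElt {g : Sp} (hg : IsMono g) : ∃ d, monoElt d = g := by
  classical
  choose y c hyc using hg
  have hc : ∀ x, c x ≠ 0 := fun x => IsMono.coeff_ne (hyc x)
  have hpair : ∀ i, y (Sum.inr i) = Sum.swap (y (Sum.inl i)) ∧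
      c (Sum.inl i) * c (Sum.inr i) * Matrix.J (Fin m) F (y (Sum.inl i)) (y (Sum.inr i)) = -1 := by
    intro i
    have h := sf_smul_smul g (Pi.single (Sum.inl i) 1 : V) (Pi.single (Sum.inr i) 1)
    rw [hyc, hyc, sf_single_left, sf_single_left] at h
    have h' : c (Sum.inl i) * c (Sum.inr i) * Matrix.J (Fin m) F (y (Sum.inl i)) (y (Sum.inr i)) = -1 := by
      simpa [Matrix.J, mulVec_single, mul_comm, mul_left_comm, mul_assoc] using h
    refine ⟨?_, h'⟩
    by_contra hne
    have hz : Matrix.J (Fin m) F (y (Sum.inl i)) (y (Sum.inr i)) = 0 := by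
      rcases hy1 : y (Sum.inl i) with j | j <;> rcases hy2 : y (Sum.inr i) with k | k <;>
        simp [Matrix.J, Matrix.one_apply]
      all_goals
        intro hjk
        apply hne
        rw [hy1, hy2, hjk]
        rfl
    rw [hz, mul_zero] at h'
    exact one_ne_zero (neg_eq_zero.1 h'.symm)
  have hsinj : Function.Injective (fun i => Sum.elim id id (y (Sum.inl i))) := by
    intro i j e
    have key : ∀ (x x' : I), y x = y x' → x = x' := by
      intro x x' exx
      by_contra hne
      have h : g • (Pi.single x 1 : V) = g • ((c x / c x') • (Pi.single x' 1 : V)) := by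
        rw [smul_comm, hyc, hyc, ← Pi.single_smul, smul_eq_mul, div_mul_cancel₀ _ (hc x'), exx]
      have := congrFun (smul_left_cancel g h) x
      simp [hne] at this
    by_contra hne
    rcases hyi : y (Sum.inl i) with a | a <;> rcases hyj : y (Sum.inl j) with b | b <;>
      simp only [hyi, hyj, Sum.elim_inl, Sum.elim_inr, id] at e <;> subst e
    · exact hne (Sum.inl_injective (key _ _ (hyi.trans hyj.symm)))
    · have := key (Sum.inl i) (Sum.inr j) (by rw [hyi, (hpair j).1, hyj]; rfl)
      simp at this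
    · have := key (Sum.inl i) (Sum.inr j) (by rw [hyi, (hpair j).1, hyj]; rfl)
      simp at this
    · exact hne (Sum.inl_injective (key _ _ (hyi.trans hyj.symm)))
  let σ : Equiv.Perm (Fin m) :=
    Equiv.ofBijective _ ((Finite.injective_iff_bijective).1 hsinj)
  let b : Fin m → Bool := fun i => (y (Sum.inl i)).isRight
  let s : Fin m → Fˣ := fun i => if b i then -(Units.mk0 _ (hc (Sum.inl i)))⁻¹
    else Units.mk0 _ (hc (Sum.inl i))
  refine ⟨(σ, b, s), sp_ext fun v => ?_⟩
  conv_lhs => rw [← Finset.univ_sum_single v, Finset.smul_sum]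
  conv_rhs => rw [← Finset.univ_sum_single v, Finset.smul_sum]
  refine Finset.sum_congr rfl fun x _ => ?_
  rw [single_eq_smul x, smul_comm, smul_comm g]
  congr 1
  rcases x with i | i
  · rw [monoElt_inl, hyc]
    rcases hyi : y (Sum.inl i) with a | a <;> simp [σ, b, s, hyi, Equiv.ofBijective_apply]
  · rw [monoElt_inr, hyc, (hpair i).1]
    have h2 := (hpair i).2
    rw [(hpair i).1] at h2
    have hci := hc (Sum.inl i)
    rcases hyi : y (Sum.inl i) with a | a
    · rw [hyi] at h2
      simp [Matrix.J] at h2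
      simp [σ, b, s, hyi, Equiv.ofBijective_apply]
      exact inv_eq_of_mul_eq_one_right h2
    · rw [hyi] at h2
      simp [Matrix.J] at h2
      simp [σ, b, s, hyi, Equiv.ofBijective_apply]
      rw [eq_neg_iff_add_eq_zero] at h2
      have : c (Sum.inr i) = -(c (Sum.inl i))⁻¹ := by
        field_simp
        linear_combination h2
      rw [this]

theorem monoElt_isMono (d : Equiv.Perm (Fin m) × (Fin m → Bool) × (Fin m → Fˣ)) :
    IsMono (monoElt d : Sp) := by
  rintro (i | i)
  · by_cases h : d.2.1 i <;> simp [monoElt_inl, h] <;> exact ⟨_, _, _, rfl⟩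
  · by_cases h : d.2.1 i <;> simp [monoElt_inr, h] <;> exact ⟨_, _, _, rfl⟩

theorem monoElt_injective : Function.Injective (monoElt (m := m) (F := F)) := by
  rintro ⟨σ, b, s⟩ ⟨σ', b', s'⟩ e
  have h : ∀ i, σ i = σ' i ∧ b i = b' i ∧ s i = s' i := by
    intro i
    have h := congrArg (fun g : Sp => g • (Pi.single (Sum.inl i) 1 : V)) e
    simp only [monoElt_inl] at h
    cases hb : b i <;> cases hb' : b' i <;> simp only [hb, hb', if_true, Bool.false_eq_true, if_false] at h
    · have h1 := congrFun h (Sum.inl (σ i))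
      by_cases hs : σ i = σ' i
      · simp [hs] at h1; exact ⟨hs, rfl, Units.ext h1⟩
      · simp [hs, Pi.single_apply] at h1
    · have h1 := congrFun h (Sum.inl (σ i)); simp at h1
    · have h1 := congrFun h (Sum.inl (σ' i)); simp at h1
      exact absurd h1.symm (Units.ne_zero _)
    · have h1 := congrFun h (Sum.inr (σ i))
      by_cases hs : σ i = σ' i
      · simp [hs] at h1; exact ⟨hs, rfl, Units.ext h1⟩
      · simp [hs, Pi.single_apply] at h1
  rw [Prod.mk.injEq, Prod.mk.injEq]
  exact ⟨Equiv.ext fun i => (h i).1, funext fun i => (h i).2.1, funext fun i => (h i).2.2⟩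

theorem card_normalizer_torus [Fintype F] (hq : 4 ≤ Fintype.card F) :
    Nat.card ↥(Subgroup.normalizer (torus m F : Set Sp)) =
      2 ^ m * m.factorial * (Fintype.card F - 1) ^ m := by
  classical
  obtain ⟨a, ha⟩ : ∃ a : Fˣ, (a : F) * a ≠ 1 := by
    by_contra hcon
    simp only [not_exists, not_not] at hcon
    have hsub : (Finset.univ : Finset F) ⊆ {0, 1, -1} := fun x _ => by
      rcases eq_or_ne x 0 with h | h
      · simp [h]
      · rcases mul_self_eq_one_iff.1 (hcon (Units.mk0 x h)) with h' | h' <;> simp_all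
    exact absurd ((Finset.card_le_card hsub).trans Finset.card_le_three) (by simp; omega)
  have e : Equiv.Perm (Fin m) × (Fin m → Bool) × (Fin m → Fˣ) ≃
      ↥(Subgroup.normalizer (torus m F : Set Sp)) :=
    Equiv.ofBijective
      (fun d => ⟨monoElt d, (mem_normalizer_torus_iff ⟨a, ha⟩ _).2 (monoElt_isMono d)⟩)
      ⟨fun d d' h => monoElt_injective (congrArg Subtype.val h), fun g => by
        obtain ⟨d, hd⟩ := exists_monoElt ((mem_normalizer_torus_iff ⟨a, ha⟩ _).1 g.2)
        exact ⟨d, Subtype.ext hd⟩⟩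
  rw [← Nat.card_congr e, Nat.card_prod, Nat.card_prod, Nat.card_perm, Nat.card_fun, Nat.card_fun,
    Nat.card_eq_fintype_card (α := Bool), Nat.card_eq_fintype_card (α := Fˣ), Fintype.card_bool,
    Fintype.card_units, Nat.card_fin]
  ring

end H48
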