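import Mathlib

/-!
# q-identities for Steinberg's count of unipotent elements in symplectic groups
-/

set_option autoImplicit false

namespace H48

namespace Unip

variable (q : ℚ)

/-- The number of totally isotropic `j`-spaces in a `2n`-dimensional symplectic space. -/
def G : ℕ → ℕ → ℚ
  | _, 0 => 1
  | 0, _ + 1 => 0
  | n + 1, j + 1 => q ^ (j + 1) * G n (j + 1) + (1 + q ^ (2 * n + 1 - j)) * G n j

/-- `∏_{i ≤ n} (q^{2i} - 1)`. -/
def D (n : ℕ) : ℚ := ∏ i ∈ Finset.range n, (q ^ (2 * (i + 1)) - 1)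

/-- `∏_{i ≤ n} (q^i - 1)`. -/
def P (n : ℕ) : ℚ := ∏ i ∈ Finset.range n, (q ^ (i + 1) - 1)

theorem G_eq_zero : ∀ {n j : ℕ}, n < j → G q n j = 0
  | 0, j + 1, _ => by simp [G]
  | n + 1, j + 1, h => by simp [G, G_eq_zero (Nat.lt_of_succ_lt h), G_eq_zero (Nat.lt_of_succ_lt_succ h)]

theorem G_zero (n : ℕ) : G q n 0 = 1 := by cases n <;> simp [G]

theorem G_mul : ∀ {n j : ℕ}, j ≤ n → G q n j * P q j * D q (n - j) = D q n
  | n, 0, _ => by simp [G_zero, P]
  | n + 1, j + 1, h => by
    have hj : j ≤ n := Nat.le_of_succ_le_succ h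
    have h1 := G_mul hj
    simp only [G, Nat.add_sub_add_right]
    rw [show P q (j + 1) = P q j * (q ^ (j + 1) - 1) by simp [P, Finset.prod_range_succ],
      show D q (n + 1) = D q n * (q ^ (2 * (n + 1)) - 1) by simp [D, Finset.prod_range_succ]]
    rcases hj.eq_or_lt with rfl | hlt
    · rw [Nat.sub_self] at h1 ⊢
      rw [G_eq_zero q (Nat.lt_succ_self j), ← h1, show 2 * j + 1 - j = j + 1 by omega]
      ring
    · have h2 := G_mul (n := n) (j := j + 1) hlt
      obtain ⟨k, rfl⟩ : ∃ k, n = j + 1 + k := ⟨n - (j + 1), by omega⟩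
      have e1 : j + 1 + k - (j + 1) = k := by omega
      have e2 : j + 1 + k - j = k + 1 := by omega
      rw [e1, show P q (j + 1) = P q j * (q ^ (j + 1) - 1) by simp [P, Finset.prod_range_succ]] at h2
      rw [e2] at h1 ⊢
      rw [show D q (k + 1) = D q k * (q ^ (2 * (k + 1)) - 1) by simp [D, Finset.prod_range_succ]] at h1 ⊢
      rw [show 2 * (j + 1 + k) + 1 - j = j + 2 * k + 3 by omega]
      linear_combination (q ^ (j + 1) * (q ^ (2 * (k + 1)) - 1)) * h2 +
        ((1 + q ^ (j + 2 * k + 3)) * (q ^ (j + 1) - 1)) * h1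

theorem sum_A (n : ℕ) :
    ∑ j ∈ Finset.range (n + 1), (-1) ^ j * q ^ ((n - j) * (n - j)) * G q n j = (-1) ^ n := by
  induction n with
  | zero => simp [G]
  | succ n ih =>
    have e : ∀ j ∈ Finset.range (n + 1),
        (-1) ^ (j + 1) * q ^ ((n + 1 - (j + 1)) * (n + 1 - (j + 1))) * G q (n + 1) (j + 1) =
          (fun i => (-1) ^ i * q ^ ((n + 1 - i) * (n + 1 - i) + i) * G q n i) (j + 1)
          - ((-1) ^ j * q ^ ((n + 1 - j) * (n + 1 - j) + j) * G q n j)
          - (-1) ^ j * q ^ ((n - j) * (n - j)) * G q n j := by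
      intro j hj
      rw [Finset.mem_range] at hj
      obtain ⟨k, rfl⟩ : ∃ k, n = j + k := ⟨n - j, by omega⟩
      rw [show j + k + 1 - (j + 1) = k by omega, show j + k - j = k by omega,
        show j + k + 1 - j = k + 1 by omega]
      simp only [G, show 2 * (j + k) + 1 - j = j + 2 * k + 1 by omega]
      rw [show j + k + 1 - (j + 1) = k by omega]
      ring
    rw [Finset.sum_range_succ', Finset.sum_congr rfl e, Finset.sum_sub_distrib, ih,
      Finset.sum_range_sub (fun i => (-1) ^ i * q ^ ((n + 1 - i) * (n + 1 - i) + i) * G q n i)]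
    simp [G_zero, G_eq_zero q (Nat.lt_succ_self n)]
    ring

theorem sum_B (n : ℕ) :
    ∑ j ∈ Finset.range (n + 1), (-1) ^ j * q ^ (j.choose 2) * G q n j = (-1) ^ n * q ^ (n * n) := by
  induction n with
  | zero => simp [G]
  | succ n ih =>
    have e : ∀ j ∈ Finset.range (n + 1),
        (-1) ^ (j + 1) * q ^ ((j + 1).choose 2) * G q (n + 1) (j + 1) =
          (fun i => (-1) ^ i * q ^ (i.choose 2 + i) * G q n i) (j + 1)
          - ((-1) ^ j * q ^ (j.choose 2 + j) * G q n j)
          - q ^ (2 * n + 1) * ((-1) ^ j * q ^ (j.choose 2) * G q n j) := by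
      intro j hj
      rw [Finset.mem_range] at hj
      obtain ⟨k, rfl⟩ : ∃ k, n = j + k := ⟨n - j, by omega⟩
      simp only [G, Nat.choose_succ_succ' j 1, Nat.choose_one_right,
        show 2 * (j + k) + 1 - j = j + 2 * k + 1 by omega]
      ring
    rw [Finset.sum_range_succ', Finset.sum_congr rfl e, Finset.sum_sub_distrib, ← Finset.mul_sum, ih,
      Finset.sum_range_sub (fun i => (-1) ^ i * q ^ (i.choose 2 + i) * G q n i)]
    simp [G_zero, G_eq_zero q (Nat.lt_succ_self n)]
    ring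

end Unip

end H48
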