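import Mathlib
import Cfsg.Agent.H48.UnipIdentity
import Cfsg.Agent.H48.FrameStab

/-!
# Steinberg's count of unipotent elements in the symplectic groups

The alternating frame sum `∑ (-1)^j / ∏_{i≤j}(q^i-1) · #{isotropic j-frames fixed by g}`
vanishes at every non-identity unipotent `g`; the rest is the induction on the rank.
-/

set_option autoImplicit false

namespace H48

open Matrix

variable {l : Type*} [Fintype l] [DecidableEq l] {F : Type*} [Field F]

local notation "V" => (l ⊕ l → F)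
local notation "Sp" => Matrix.symplecticGroup l F

/-- Elements killed by a power of `p`. -/
def unipSet (l F : Type*) [Fintype l] [DecidableEq l] [Field F] (p : ℕ) :
    Set (Matrix.symplecticGroup l F) :=
  {g | ∃ a : ℕ, g ^ p ^ a = 1}

theorem sub_one_pow_char_pow [Nonempty l] (p : ℕ) [Fact p.Prime] [CharP F p]
    (A : Matrix (l ⊕ l) (l ⊕ l) F) (a : ℕ) : (A - 1) ^ p ^ a = A ^ p ^ a - 1 := by
  haveI : CharP (Matrix (l ⊕ l) (l ⊕ l) F) p := charP_of_injective_algebraMap' F p
  rw [sub_pow_char_pow_of_commute (p := p) a (Commute.one_right A), one_pow]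

theorem exists_fixed_orth {p : ℕ} [Fact p.Prime] [CharP F p] {g : Sp} (hg : g ∈ unipSet l F p)
    (h1 : g ≠ 1) : ∃ r : V, r ≠ 0 ∧ g • r = r ∧ ∀ u : V, g • u = u → sf u r = 0 := by
  classical
  haveI : Nonempty l := by
    by_contra h
    rw [not_nonempty_iff] at h
    exact h1 (sp_ext fun v => Subsingleton.elim _ _)
  obtain ⟨a, ha⟩ := hg
  set N := (g : Matrix (l ⊕ l) (l ⊕ l) F) - 1 with hN
  have hnil : ∃ m, N ^ m = 0 := ⟨p ^ a, by
    rw [hN, sub_one_pow_char_pow p]
    rw [← SubmonoidClass.coe_pow, ha, OneMemClass.coe_one, sub_self]⟩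
  have hm0 : N ^ Nat.find hnil = 0 := Nat.find_spec hnil
  have hm : 2 ≤ Nat.find hnil := by
    by_contra h
    have hN0 : N ≠ 0 := fun h => h1 (Subtype.ext (sub_eq_zero.1 h))
    interval_cases hh : Nat.find hnil
    · rw [pow_zero] at hm0; exact one_ne_zero hm0
    · exact hN0 (by simpa using hm0)
  obtain ⟨t, ht⟩ : ∃ t, Nat.find hnil = t + 2 := ⟨Nat.find hnil - 2, by omega⟩
  have hne : N ^ (t + 1) ≠ 0 := Nat.find_min hnil (by omega)
  obtain ⟨x, hx⟩ : ∃ x : V, (N ^ (t + 1)) *ᵥ x ≠ 0 := by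
    by_contra h
    push Not at h
    exact hne (Matrix.ext_iff_mulVec.2 fun x => by rw [h x, zero_mulVec])
  have hNv : ∀ v, N *ᵥ v = g • v - v := fun v => by rw [hN, sub_mulVec, one_mulVec]; rfl
  refine ⟨_, hx, ?_, fun u hu => ?_⟩
  · rw [← sub_eq_zero, ← hNv, mulVec_mulVec, ← pow_succ', ← ht, hm0, zero_mulVec]
  · rw [pow_succ', ← mulVec_mulVec, hNv, map_sub]
    conv_lhs => rw [← hu]
    rw [sf_smul_smul, hu, sub_self]

/-- Isotropic frames fixed by `g`. -/
def fFrames (g : Sp) (j : ℕ) : Set (Fin j → V) := {u | u ∈ frames l F j ∧ g ∈ fixFam u}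

theorem fixFam_span {ι : Type*} {u : ι → V} {g : Sp} (hg : g ∈ fixFam u) {y : V}
    (hy : y ∈ Submodule.span F (Set.range u)) : g • y = y := by
  have : Submodule.span F (Set.range u) ≤
      LinearMap.ker ((g : Matrix (l ⊕ l) (l ⊕ l) F).mulVecLin - LinearMap.id) :=
    Submodule.span_le.2 fun _ ⟨i, hi⟩ => hi ▸ LinearMap.mem_ker.2 (sub_eq_zero.2 (hg i))
  exact sub_eq_zero.1 (LinearMap.mem_ker.1 (this hy))

/-- Base change of a family. -/
def chg {j : ℕ} (u : Fin j → V) (X : Matrix (Fin j) (Fin j) F) : Fin j → V :=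
  fun k => colMat u *ᵥ fun i => X i k

theorem colMat_chg {j : ℕ} (u : Fin j → V) (X : Matrix (Fin j) (Fin j) F) :
    colMat (chg u X) = colMat u * X := rfl

theorem chg_chg {j : ℕ} (u : Fin j → V) (X Y : Matrix (Fin j) (Fin j) F) :
    chg (chg u X) Y = chg u (X * Y) := by
  funext k x
  exact congrFun (congrFun (show colMat (chg (chg u X) Y) = colMat (chg u (X * Y)) by
    simp only [colMat_chg, Matrix.mul_assoc]) x) k

theorem chg_one {j : ℕ} (u : Fin j → V) : chg u (1 : Matrix (Fin j) (Fin j) F) = u := by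
  funext k x
  exact congrFun (congrFun (show colMat (chg u (1 : Matrix (Fin j) (Fin j) F)) = colMat u by
    rw [colMat_chg, Matrix.mul_one]) x) k

theorem colMat_mulVec_injective {j : ℕ} {u : Fin j → V} (hu : LinearIndependent F u) :
    Function.Injective (colMat u).mulVec := fun c d h => by
  refine Fintype.linearIndependent_iffₛ.1 hu c d ?_ |> funext
  simpa only [colMat_mulVec] using h

theorem colMat_mulVec_mem_span {j : ℕ} (u : Fin j → V) (c : Fin j → F) :
    colMat u *ᵥ c ∈ Submodule.span F (Set.range u) := by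
  rw [colMat_mulVec]
  exact Submodule.sum_mem _ fun i _ => Submodule.smul_mem _ _ (Submodule.subset_span ⟨i, rfl⟩)

theorem chg_mem_fFrames {g : Sp} {j : ℕ} {u : Fin j → V} (hu : u ∈ fFrames g j)
    (X : (Matrix (Fin j) (Fin j) F)ˣ) : chg u (X : Matrix (Fin j) (Fin j) F) ∈ fFrames g j := by
  have hX : ∀ k, (fun i => (X : Matrix (Fin j) (Fin j) F) i k) =
      (X : Matrix (Fin j) (Fin j) F) *ᵥ Pi.single k 1 := fun k => by rw [mulVec_single_one]; rfl
  refine ⟨⟨?_, fun a b => ?_⟩, fun k => fixFam_span hu.2 (colMat_mulVec_mem_span u _)⟩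
  · rw [Fintype.linearIndependent_iff]
    intro c hc
    have h : colMat (chg u (X : Matrix (Fin j) (Fin j) F)) *ᵥ c = 0 := by rw [colMat_mulVec]; exact hc
    rw [colMat_chg, ← mulVec_mulVec, ← mulVec_zero (colMat u)] at h
    have h2 := colMat_mulVec_injective hu.1.1 h
    have : ((X⁻¹ : (Matrix (Fin j) (Fin j) F)ˣ) : Matrix (Fin j) (Fin j) F) *ᵥ
        ((X : Matrix (Fin j) (Fin j) F) *ᵥ c) = c := by
      rw [mulVec_mulVec, Units.inv_mul, one_mulVec]
    rw [h2, mulVec_zero] at this
    exact fun i => (congrFun this i).symm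
  · simp only [chg, colMat_mulVec, map_sum, map_smul, LinearMap.sum_apply, LinearMap.smul_apply,
      hu.1.2, smul_zero, Finset.sum_const_zero]

theorem exists_unitri_col {j : ℕ} (a : Fin (j + 1) → F) (ha : a ≠ 0) :
    ∃ X : (Matrix (Fin (j + 1)) (Fin (j + 1)) F)ˣ,
      ∀ i, (X : Matrix (Fin (j + 1)) (Fin (j + 1)) F) i 0 = a i := by
  obtain ⟨i0, hi0⟩ := Function.ne_iff.1 ha
  let M : Matrix (Fin (j + 1)) (Fin (j + 1)) F :=
    Matrix.of fun i k => if k = 0 then a i else if i = Equiv.swap 0 i0 k then 1 else 0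
  have hM : IsUnit M := by
    rw [← Matrix.mulVec_injective_iff_isUnit]
    refine (injective_iff_map_eq_zero M.mulVecLin).2 fun c hc => ?_
    have hrow : ∀ k, M *ᵥ c = 0 → c 0 * a (Equiv.swap 0 i0 k) + (if k = 0 then 0 else c k) = 0 := by
      intro k h
      have := congrFun h (Equiv.swap 0 i0 k)
      simp only [mulVec, dotProduct, M, Matrix.of_apply, Pi.zero_apply,
        EmbeddingLike.apply_eq_iff_eq] at this
      rw [Fin.sum_univ_succ] at this
      simp only [Fin.succ_ne_zero, if_false, if_true, ite_mul, one_mul, zero_mul] at this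
      rcases Fin.eq_zero_or_eq_succ k with rfl | ⟨k', rfl⟩
      · simpa [mul_comm, (Fin.succ_ne_zero _).symm] using this
      · simpa [mul_comm, Fin.succ_inj, Fin.succ_ne_zero] using this
    have h00 : c 0 = 0 := by
      have := hrow 0 hc
      rw [Equiv.swap_apply_left, if_pos rfl, add_zero] at this
      exact (mul_eq_zero.1 this).resolve_right hi0
    funext k
    by_cases hk : k = 0
    · simpa [hk] using h00
    · simpa [hk, h00] using hrow k hc
  exact ⟨hM.unit, fun i => by simp [M]⟩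

section Finite

variable [Fintype F]

theorem card_with_eq_mul_without {g : Sp} {r : V} (hr : r ≠ 0) (hgr : g • r = r)
    (horth : ∀ u : V, g • u = u → sf u r = 0) (j : ℕ) :
    Nat.card {u : Fin (j + 1) → V // u ∈ fFrames g (j + 1) ∧ r ∈ Submodule.span F (Set.range u)} =
      (Fintype.card F ^ (j + 1) - 1) *
        Nat.card {w : Fin j → V // w ∈ fFrames g j ∧ r ∉ Submodule.span F (Set.range w)} := by
  classical
  choose X hX using fun a : {a : Fin (j + 1) → F // a ≠ 0} => exists_unitri_col a.1 a.2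
  have hcoef : ∀ u : {u : Fin (j + 1) → V // u ∈ fFrames g (j + 1) ∧
      r ∈ Submodule.span F (Set.range u)}, ∃ a : {a : Fin (j + 1) → F // a ≠ 0}, colMat u.1 *ᵥ a.1 = r := by
    intro u
    obtain ⟨c, hc⟩ := Submodule.mem_span_range_iff_exists_fun F |>.1 u.2.2
    rw [← colMat_mulVec] at hc
    exact ⟨⟨c, fun h => hr (by rw [← hc, h, mulVec_zero])⟩, hc⟩
  choose co hco using hcoef
  have hzero : ∀ u, chg u.1 (X (co u) : Matrix (Fin (j + 1)) (Fin (j + 1)) F) 0 = r := fun u => by
    rw [chg, funext (hX (co u)), hco]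
  let fwd : {u : Fin (j + 1) → V // u ∈ fFrames g (j + 1) ∧ r ∈ Submodule.span F (Set.range u)} →
      {a : Fin (j + 1) → F // a ≠ 0} ×
        {w : Fin j → V // w ∈ fFrames g j ∧ r ∉ Submodule.span F (Set.range w)} := fun u =>
    (co u, ⟨Fin.tail (chg u.1 (X (co u) : Matrix (Fin (j + 1)) (Fin (j + 1)) F)), by
      have hm := chg_mem_fFrames u.2.1 (X (co u))
      have hli := linearIndependent_finSucc.1 hm.1.1
      rw [hzero] at hli
      exact ⟨⟨⟨hli.1, fun a b => hm.1.2 _ _⟩, fun i => hm.2 _⟩, hli.2⟩⟩)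
  have hcons : ∀ w : {w : Fin j → V // w ∈ fFrames g j ∧ r ∉ Submodule.span F (Set.range w)},
      Fin.cons r w.1 ∈ fFrames g (j + 1) := by
    intro w
    refine ⟨⟨linearIndependent_finCons.2 ⟨w.2.1.1.1, w.2.2⟩, fun a b => ?_⟩, fun i => ?_⟩
    · induction a using Fin.cases <;> induction b using Fin.cases <;>
        simp [w.2.1.1.2, horth _ (w.2.1.2 _), sf_eq_zero_comm (horth _ (w.2.1.2 _))]
    · induction i using Fin.cases <;> simp [hgr, w.2.1.2 _]
  have hcol : ∀ (a : {a : Fin (j + 1) → F // a ≠ 0}) (w : Fin j → V),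
      colMat (chg (Fin.cons r w : Fin (j + 1) → V) ((X a)⁻¹ : (Matrix (Fin (j + 1)) (Fin (j + 1)) F)ˣ)) *ᵥ a.1 = r := by
    intro a w
    have e : a.1 = (X a : Matrix (Fin (j + 1)) (Fin (j + 1)) F) *ᵥ Pi.single 0 1 := by
      rw [mulVec_single_one]
      exact (funext (hX a)).symm
    rw [colMat_chg, e, mulVec_mulVec, Matrix.mul_assoc, Units.inv_mul, Matrix.mul_one,
      colMat_mulVec_single]
    rfl
  let bwd : {a : Fin (j + 1) → F // a ≠ 0} ×
        {w : Fin j → V // w ∈ fFrames g j ∧ r ∉ Submodule.span F (Set.range w)} →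
      {u : Fin (j + 1) → V // u ∈ fFrames g (j + 1) ∧ r ∈ Submodule.span F (Set.range u)} := fun x =>
    ⟨chg (Fin.cons r x.2.1) ((X x.1)⁻¹ : (Matrix (Fin (j + 1)) (Fin (j + 1)) F)ˣ),
      chg_mem_fFrames (hcons x.2) _, by
        have h := colMat_mulVec_mem_span
          (chg (Fin.cons r x.2.1 : Fin (j + 1) → V) ((X x.1)⁻¹ : (Matrix (Fin (j + 1)) (Fin (j + 1)) F)ˣ)) x.1.1
        rwa [hcol] at h⟩
  let e : {u : Fin (j + 1) → V // u ∈ fFrames g (j + 1) ∧ r ∈ Submodule.span F (Set.range u)} ≃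
      {a : Fin (j + 1) → F // a ≠ 0} ×
        {w : Fin j → V // w ∈ fFrames g j ∧ r ∉ Submodule.span F (Set.range w)} :=
    { toFun := fwd
      invFun := bwd
      left_inv := fun u => Subtype.ext (by
        show chg (Fin.cons r (Fin.tail (chg u.1 (X (co u) : Matrix (Fin (j + 1)) (Fin (j + 1)) F)))) _ = u.1
        conv_lhs => arg 1; arg 1; rw [← hzero u]
        rw [Fin.cons_self_tail, chg_chg, Units.mul_inv, chg_one])
      right_inv := fun x => by
        have hc : co (bwd x) = x.1 :=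
          Subtype.ext (colMat_mulVec_injective (bwd x).2.1.1.1 ((hco _).trans (hcol _ _).symm))
        refine Prod.ext hc (Subtype.ext ?_)
        show Fin.tail (chg (bwd x).1 (X (co (bwd x)) : Matrix (Fin (j + 1)) (Fin (j + 1)) F)) = x.2.1
        rw [hc]
        show Fin.tail (chg (chg _ _) _) = x.2.1
        rw [chg_chg, Units.inv_mul, chg_one, Fin.tail_cons] }
  rw [Nat.card_congr e, Nat.card_prod]
  congr 1
  rw [Nat.card_eq_fintype_card, Fintype.card_subtype_compl, Fintype.card_subtype_eq, Fintype.card_fun,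
    Fintype.card_fin]

theorem frames_eq_empty {j : ℕ} (hj : Fintype.card l < j) : frames l F j = ∅ := by
  rw [Set.eq_empty_iff_forall_notMem]
  intro u hu
  have h1 := finrank_ker_pairing hu.1
  have h2 := Submodule.finrank_mono (span_le_ker_pairing hu.2)
  rw [finrank_span_eq_card hu.1, Fintype.card_fin] at h2
  omega

/-- The alternating weights. -/
def wt (q : ℚ) (j : ℕ) : ℚ := (-1) ^ j / Unip.P q j

theorem frame_sum_eq_zero {p : ℕ} [Fact p.Prime] [CharP F p] {g : Sp} (hg : g ∈ unipSet l F p)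
    (h1 : g ≠ 1) :
    ∑ j ∈ Finset.range (Fintype.card l + 1),
      wt (Fintype.card F) j * (Nat.card (fFrames g j) : ℚ) = 0 := by
  classical
  obtain ⟨r, hr, hgr, horth⟩ := exists_fixed_orth hg h1
  set n := Fintype.card l
  set q := Fintype.card F
  let A := fun j => (Nat.card {u : Fin j → V // u ∈ fFrames g j ∧ r ∈ Submodule.span F (Set.range u)} : ℚ)
  let B := fun j => (Nat.card {u : Fin j → V // u ∈ fFrames g j ∧ r ∉ Submodule.span F (Set.range u)} : ℚ)
  have hsum : ∀ j, (Nat.card (fFrames g j) : ℚ) = A j + B j := fun j => by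
    rw [← Nat.cast_add, ← Nat.card_sum]
    congr 1
    refine Nat.card_congr (((Equiv.sumCompl fun u : fFrames g j =>
      r ∈ Submodule.span F (Set.range u.1)).symm).trans (Equiv.sumCongr ?_ ?_))
    · exact Equiv.subtypeSubtypeEquivSubtypeInter _ (fun u => r ∈ Submodule.span F (Set.range u))
    · exact Equiv.subtypeSubtypeEquivSubtypeInter _ (fun u => r ∉ Submodule.span F (Set.range u))
  have hq1 : ∀ i, 1 ≤ q ^ i := fun i => Nat.one_le_pow _ _ Fintype.card_pos
  have hstep : ∀ j, A (j + 1) = ((q : ℚ) ^ (j + 1) - 1) * B j := fun j => by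
    simp only [A, B, card_with_eq_mul_without hr hgr horth j, Nat.cast_mul, Nat.cast_sub (hq1 _),
      Nat.cast_pow, Nat.cast_one, q]
  have hA0 : A 0 = 0 := by
    simp only [A, Nat.cast_eq_zero, Nat.card_eq_zero]
    refine Or.inl ⟨fun u => hr ?_⟩
    simpa [Set.range_eq_empty] using u.2.2
  have hqpos : ∀ i, (q : ℚ) ^ (i + 1) - 1 ≠ 0 := fun i => by
    have : (1 : ℚ) < q := by exact_mod_cast Fintype.one_lt_card
    exact sub_ne_zero.2 (one_lt_pow₀ this (by omega)).ne'
  have hBn : B n = 0 := by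
    have h := hstep n
    have hA : A (n + 1) = 0 := by
      simp only [A, Nat.cast_eq_zero, Nat.card_eq_zero]
      refine Or.inl ⟨fun u => ?_⟩
      have := u.2.1.1
      rw [frames_eq_empty (Nat.lt_succ_self _)] at this
      exact this
    rw [hA] at h
    exact (mul_eq_zero.1 h.symm).resolve_left (hqpos n)
  have hw : ∀ j, wt q (j + 1) * ((q : ℚ) ^ (j + 1) - 1) = - wt q j := fun j => by
    have hP : Unip.P (q : ℚ) j ≠ 0 := Finset.prod_ne_zero_iff.2 fun i _ => hqpos i
    simp only [wt, show Unip.P (q : ℚ) (j + 1) = Unip.P (q : ℚ) j * ((q : ℚ) ^ (j + 1) - 1) by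
      simp [Unip.P, Finset.prod_range_succ]]
    field_simp [hqpos j]
    ring
  calc ∑ j ∈ Finset.range (n + 1), wt q j * (Nat.card (fFrames g j) : ℚ)
      = ∑ j ∈ Finset.range (n + 1), wt q j * A j + ∑ j ∈ Finset.range (n + 1), wt q j * B j := by
        simp only [hsum, mul_add, Finset.sum_add_distrib]
    _ = ∑ j ∈ Finset.range n, (- wt q j * B j) + ∑ j ∈ Finset.range n, wt q j * B j := by
        rw [Finset.sum_range_succ', Finset.sum_range_succ _ n, hA0, hBn]
        simp only [hstep, ← mul_assoc, hw]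
        simp
    _ = 0 := by simp [neg_mul, Finset.sum_neg_distrib]

theorem card_preimage_hom {G H : Type*} [Group G] [Group H] [Finite G] (f : G →* H)
    (hf : Function.Surjective f) (S : Set H) :
    Nat.card {g : G // f g ∈ S} = Nat.card f.ker * Nat.card S := by
  classical
  haveI : Finite H := Finite.of_surjective f hf
  haveI := Fintype.ofFinite S
  let e : {g : G // f g ∈ S} ≃ Σ s : S, (f ⁻¹' {(s : H)} : Set G) :=
    { toFun := fun g => ⟨⟨f g.1, g.2⟩, ⟨g.1, rfl⟩⟩
      invFun := fun x => ⟨x.2.1, (show f x.2.1 = x.1 from x.2.2).symm ▸ x.1.2⟩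
      left_inv := fun g => rfl
      right_inv := fun ⟨⟨s, hs⟩, ⟨g, hg⟩⟩ => by
        obtain rfl : f g = s := hg
        rfl }
  rw [Nat.card_congr e, Nat.card_sigma]
  simp [Nat.card_congr (MonoidHom.fiberEquivKerOfSurjective hf _), Nat.card_eq_fintype_card, mul_comm]

theorem card_unip_fixFam {p : ℕ} [Fact p.Prime] [CharP F p] {j : ℕ} {u : Fin j → V}
    (hu : u ∈ frames l F j) {r : ℕ} {q : Fin r ⊕ Fin r → V} (hc : IsComp u q) :
    Nat.card {g : fixFam u // (g : Sp) ∈ unipSet l F p} *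
        Nat.card (Matrix.symplecticGroup (Fin r) F) =
      Nat.card (fixFam u) * Nat.card (unipSet (Fin r) F p) := by
  have hiff : ∀ g : fixFam u, (g : Sp) ∈ unipSet l F p ↔ hc.stabHom g ∈ unipSet (Fin r) F p := by
    intro g
    constructor
    · rintro ⟨a, ha⟩
      exact ⟨a, by rw [← map_pow, show g ^ p ^ a = 1 from Subtype.ext (by simpa using ha), map_one]⟩
    · rintro ⟨a, ha⟩
      rcases isEmpty_or_nonempty l with hl | hl
      · exact ⟨0, sp_ext fun v => Subsingleton.elim _ _⟩
      rw [← map_pow] at ha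
      refine ⟨a + 2, ?_⟩
      rw [pow_add, pow_mul]
      set h := g ^ p ^ a with hh
      have h3 : (((h : Sp) : Matrix (l ⊕ l) (l ⊕ l) F) - 1) ^ 3 = 0 :=
        Matrix.ext_iff_mulVec.2 fun x => by
          rw [pow_succ', pow_succ', pow_one, ← mulVec_mulVec, ← mulVec_mulVec,
            hc.ker_nilpotent (MonoidHom.mem_ker.2 ha) x, zero_mulVec]
      have hp3 : 3 ≤ p ^ 2 := by nlinarith [(Fact.out : p.Prime).two_le]
      have h4 : ((h : Sp) : Matrix (l ⊕ l) (l ⊕ l) F) ^ p ^ 2 - 1 = 0 := by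
        rw [← sub_one_pow_char_pow p, pow_eq_zero_of_le hp3 h3]
      refine Subtype.ext ?_
      rw [SubmonoidClass.coe_pow, OneMemClass.coe_one,
        show ((g : Sp) ^ p ^ a) = (h : Sp) from (SubmonoidClass.coe_pow g _).symm]
      exact sub_eq_zero.1 h4
  have h1 := card_preimage_hom hc.stabHom hc.stabHom_surjective (unipSet (Fin r) F p)
  have h2 := card_preimage_hom hc.stabHom hc.stabHom_surjective Set.univ
  rw [Nat.card_congr (Equiv.subtypeUnivEquiv fun g => Set.mem_univ _), Nat.card_coe_set_eq,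
    Set.ncard_univ] at h2
  rw [Nat.card_congr (Equiv.subtypeEquivRight hiff), h1, h2]
  ring

/-- Pairs (unipotent element, fixed isotropic frame). -/
noncomputable def pairCount (l F : Type*) [Fintype l] [DecidableEq l] [Field F] (p j : ℕ) : ℕ :=
  Nat.card {x : unipSet l F p × frames l F j // (x.1 : Matrix.symplecticGroup l F) ∈ fixFam x.2.1}

theorem sum_wt_pairCount (p : ℕ) [Fact p.Prime] [CharP F p] :
    ∑ j ∈ Finset.range (Fintype.card l + 1), wt (Fintype.card F) j * (pairCount l F p j : ℚ) =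
      ∑ j ∈ Finset.range (Fintype.card l + 1),
        wt (Fintype.card F) j * (Nat.card (frames l F j) : ℚ) := by
  classical
  haveI : Fintype (unipSet l F p) := Fintype.ofFinite _
  have h : ∀ j, pairCount l F p j = ∑ g : unipSet l F p, Nat.card (fFrames (g : Sp) j) := fun j => by
    rw [pairCount, Nat.card_congr (Equiv.subtypeProdEquivSigmaSubtype
      fun (g : unipSet l F p) (u : frames l F j) => (g : Sp) ∈ fixFam u.1), Nat.card_sigma]
    refine Finset.sum_congr rfl fun g _ => Nat.card_congr ?_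
    exact Equiv.subtypeSubtypeEquivSubtypeInter _ (fun u => (g : Sp) ∈ fixFam u)
  simp only [h, Nat.cast_sum, Finset.mul_sum]
  rw [Finset.sum_comm]
  rw [Finset.sum_eq_single ⟨1, ⟨0, one_pow _⟩⟩]
  · refine Finset.sum_congr rfl fun j _ => ?_
    congr 1
    rw [Nat.cast_inj, Nat.card_coe_set_eq, Nat.card_coe_set_eq]
    congr 1
    ext u
    exact ⟨fun h => h.1, fun h => ⟨h, one_mem _⟩⟩
  · intro g _ hg
    exact frame_sum_eq_zero g.2 fun h => hg (Subtype.ext h)
  · simp

theorem pairCount_mul {p : ℕ} [Fact p.Prime] [CharP F p] {j : ℕ} (hj : j ≤ Fintype.card l) :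
    pairCount l F p j * Nat.card (Matrix.symplecticGroup (Fin (Fintype.card l - j)) F) =
      Nat.card Sp * Nat.card (unipSet (Fin (Fintype.card l - j)) F p) := by
  classical
  haveI : Fintype (frames l F j) := Fintype.ofFinite _
  let e : Fin j ↪ l := (Fin.castLEEmb hj).trans (Fintype.equivFin l).symm.toEmbedding
  have hu0 : (lagr ∘ e) ∈ frames l F j := lagr_comp_mem_frames e e.injective
  have hfix : ∀ u : frames l F j, Nat.card (fixFam u.1) = Nat.card (fixFam ((lagr : l → V) ∘ e)) := by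
    intro u
    refine Nat.eq_of_mul_eq_mul_left ?_ ((card_sp_eq_frames_mul u.2).symm.trans (card_sp_eq_frames_mul hu0))
    haveI : Nonempty (frames l F j) := ⟨u⟩
    exact Nat.card_pos
  have h : pairCount l F p j = ∑ u : frames l F j,
      Nat.card {g : fixFam u.1 // (g : Sp) ∈ unipSet l F p} := by
    let sw : {x : unipSet l F p × frames l F j // (x.1 : Sp) ∈ fixFam x.2.1} ≃
        Σ u : frames l F j, {g : fixFam u.1 // (g : Sp) ∈ unipSet l F p} :=
      { toFun := fun x => ⟨x.1.2, ⟨⟨x.1.1.1, x.2⟩, x.1.1.2⟩⟩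
        invFun := fun x => ⟨(⟨x.2.1.1, x.2.2⟩, x.1), x.2.1.2⟩
        left_inv := fun _ => rfl
        right_inv := fun _ => rfl }
    rw [pairCount, Nat.card_congr sw, Nat.card_sigma]
  have hterm : ∀ u : frames l F j, Nat.card {g : fixFam u.1 // (g : Sp) ∈ unipSet l F p} *
      Nat.card (Matrix.symplecticGroup (Fin (Fintype.card l - j)) F) =
      Nat.card (fixFam ((lagr : l → V) ∘ e)) * Nat.card (unipSet (Fin (Fintype.card l - j)) F p) := by
    intro u
    obtain ⟨r, c, hc⟩ := exists_comp u.2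
    obtain rfl : r = Fintype.card l - j := by have := hc.2.2.2; omega
    rw [card_unip_fixFam u.2 hc, hfix]
  rw [h, Finset.sum_mul, Finset.sum_congr rfl fun u _ => hterm u, Finset.sum_const, Finset.card_univ,
    smul_eq_mul, card_sp_eq_frames_mul hu0, Nat.card_eq_fintype_card (α := frames l F j), mul_assoc]

theorem card_sp_rat (m : ℕ) : (Nat.card (Matrix.symplecticGroup (Fin m) F) : ℚ) =
    (Fintype.card F : ℚ) ^ (m ^ 2) * Unip.D (Fintype.card F : ℚ) m := by
  rw [card_sp, Fintype.card_fin, Nat.cast_mul, Nat.cast_pow, Nat.cast_prod, Unip.D]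
  congr 1
  refine Finset.prod_congr rfl fun i _ => ?_
  rw [Nat.cast_sub (Nat.one_le_pow _ _ Fintype.card_pos), Nat.cast_pow, Nat.cast_one]

/-- Steinberg: there are `q^(2n²)` unipotent elements in `Sp_{2n}(q)`. -/
theorem card_unipSet (p : ℕ) [Fact p.Prime] [CharP F p] (n : ℕ) :
    Nat.card (unipSet (Fin n) F p) = Fintype.card F ^ (2 * n ^ 2) := by
  induction n using Nat.strong_induction_on with
  | _ n ih =>
    set q := (Fintype.card F : ℚ) with hqdef
    have hq : (1 : ℚ) < q := by rw [hqdef]; exact_mod_cast Fintype.one_lt_card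
    have hq0 : q ≠ 0 := by linarith
    have hqpos : ∀ i, q ^ (i + 1) - 1 ≠ 0 := fun i => sub_ne_zero.2 (one_lt_pow₀ hq (by omega)).ne'
    have hP : ∀ j, Unip.P q j ≠ 0 := fun j => Finset.prod_ne_zero_iff.2 fun i _ => hqpos i
    have hD : ∀ j, Unip.D q j ≠ 0 := fun j => Finset.prod_ne_zero_iff.2 fun i _ =>
      sub_ne_zero.2 (one_lt_pow₀ hq (by omega)).ne'
    have key := sum_wt_pairCount (l := Fin n) (F := F) p
    simp only [Fintype.card_fin, ← hqdef] at key
    have hT : ∀ j ≤ n, wt q j * (pairCount (Fin n) F p j : ℚ) =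
        (-1) ^ j * q ^ (n ^ 2) * ((Nat.card (unipSet (Fin (n - j)) F p) : ℚ) / q ^ ((n - j) ^ 2)) *
          Unip.G q n j := by
      intro j hj
      have h := pairCount_mul (p := p) (l := Fin n) (F := F) (j := j) (by simpa using hj)
      rw [Fintype.card_fin] at h
      have h' := congrArg (Nat.cast : ℕ → ℚ) h
      rw [Nat.cast_mul, Nat.cast_mul, card_sp_rat, card_sp_rat, ← hqdef, ← Unip.G_mul q hj] at h'
      have hT' : (pairCount (Fin n) F p j : ℚ) = q ^ (n ^ 2) * (Unip.G q n j * Unip.P q j) *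
          (Nat.card (unipSet (Fin (n - j)) F p) : ℚ) / q ^ ((n - j) ^ 2) := by
        rw [eq_div_iff (pow_ne_zero _ hq0)]
        refine mul_right_cancel₀ (hD (n - j)) ?_
        linear_combination h'
      rw [hT', wt]
      field_simp [hP j]
    have hF : ∀ j ≤ n, wt q j * (Nat.card (frames (Fin n) F j) : ℚ) =
        (-1) ^ j * q ^ (j.choose 2) * Unip.G q n j := by
      intro j hj
      have hu0 := lagr_comp_mem_frames (l := Fin n) (F := F) (Fin.castLE hj) (Fin.castLE_injective hj)
      have h := congrArg (Nat.cast : ℕ → ℚ) (card_sp_eq_frames_mul hu0)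
      rw [card_fixFam_frame (by simpa using hj) hu0, Fintype.card_fin, card_sp_rat, Nat.cast_mul,
        Nat.cast_mul, Nat.cast_pow, Nat.cast_prod, ← hqdef] at h
      have hDk : (∏ i ∈ Finset.range (n - j), ((Fintype.card F ^ (2 * (i + 1)) - 1 : ℕ) : ℚ)) =
          Unip.D q (n - j) := by
        rw [Unip.D]
        refine Finset.prod_congr rfl fun i _ => ?_
        rw [Nat.cast_sub (Nat.one_le_pow _ _ Fintype.card_pos), Nat.cast_pow, Nat.cast_one]
      rw [hDk, ← Unip.G_mul q hj] at h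
      have hc : j.choose 2 ≤ n ^ 2 :=
        (Nat.choose_le_choose 2 hj).trans (le_add_right le_rfl |>.trans (choose_two_add n).le)
      have e : q ^ (n ^ 2) = q ^ (n ^ 2 - j.choose 2) * q ^ (j.choose 2) := by
        rw [← pow_add, Nat.sub_add_cancel hc]
      rw [e] at h
      have hF' : (Nat.card (frames (Fin n) F j) : ℚ) =
          q ^ (j.choose 2) * (Unip.G q n j * Unip.P q j) := by
        refine mul_right_cancel₀ (mul_ne_zero (pow_ne_zero (n ^ 2 - j.choose 2) hq0) (hD (n - j))) ?_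
        linear_combination -h
      rw [hF', wt]
      field_simp [hP j]
    rw [Finset.sum_congr rfl fun j hj => hT j (Nat.lt_succ_iff.1 (Finset.mem_range.1 hj)),
      Finset.sum_congr rfl fun j hj => hF j (Nat.lt_succ_iff.1 (Finset.mem_range.1 hj))] at key
    have hA := congrArg (q ^ (n ^ 2) * ·) (Unip.sum_A q n)
    simp only [Finset.mul_sum] at hA
    rw [Unip.sum_B, show n * n = n ^ 2 by ring, mul_comm _ (q ^ _), ← hA, Finset.sum_range_succ',
      Finset.sum_range_succ'] at key
    have hrest : ∀ i ∈ Finset.range n,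
        (-1) ^ (i + 1) * q ^ (n ^ 2) * ((Nat.card (unipSet (Fin (n - (i + 1))) F p) : ℚ) /
            q ^ ((n - (i + 1)) ^ 2)) * Unip.G q n (i + 1) =
          q ^ (n ^ 2) * ((-1) ^ (i + 1) * q ^ ((n - (i + 1)) * (n - (i + 1))) * Unip.G q n (i + 1)) := by
      intro i hi
      rw [Finset.mem_range] at hi
      rw [ih _ (by omega), Nat.cast_pow, ← hqdef, show (n - (i + 1)) * (n - (i + 1)) = (n - (i + 1)) ^ 2 by ring,
        show q ^ (2 * (n - (i + 1)) ^ 2) = q ^ ((n - (i + 1)) ^ 2) * q ^ ((n - (i + 1)) ^ 2) by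
          rw [← pow_add]; ring_nf,
        mul_div_assoc, div_self (pow_ne_zero _ hq0)]
      ring
    rw [Finset.sum_congr rfl hrest, add_right_inj] at key
    simp only [Nat.sub_zero, pow_zero, one_mul, Unip.G_zero, mul_one] at key
    field_simp at key
    have : (Nat.card (unipSet (Fin n) F p) : ℚ) = q ^ (2 * n ^ 2) := by
      rw [show 2 * n ^ 2 = n * n + n ^ 2 by ring, pow_add]
      linear_combination key
    rw [hqdef] at this
    exact_mod_cast this

end Finite

end H48
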